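import Groth.Agent.W4c1hilbpn.K777.Dual3

/-! Sign-pattern pieces and duality. -/

set_option autoImplicit false
set_option linter.unusedSimpArgs false
set_option linter.unusedSectionVars false

namespace K777.Sig

open MvPolynomial W4c1hilbpn K777.Basic K777.Model K777.Decomp K777.Colen K777.Stair K777.Dual1
open K777.Dual2 K777.Dual3

section
variable {σ : Type*} [Finite σ] {k : Type*} [Field k] {I : Ideal (MvPolynomial σ k)}

theorem iSup_congr_pred {P Q : (σ → ℤ) → Prop} (h : ∀ α, P α ↔ Q α) :
    (⨆ α : {α : σ → ℤ // P α}, tPiece I α.1) = ⨆ α : {α : σ → ℤ // Q α}, tPiece I α.1 := by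
  have : P = Q := funext fun α => propext (h α)
  subst this
  rfl
end

variable {k : Type*} [Field k] {I : Ideal (MvPolynomial (Fin 3) k)}

/-- forget the entry `l` -/
def wl (l : Fin 3) : (Fin 3 → ℤ) →+ (Fin 3 → ℤ) where
  toFun α := fun i => if i = l then 0 else α i
  map_zero' := by ext i; simp
  map_add' a b := by
    ext i
    simp only [Pi.add_apply]
    split_ifs <;> simp

theorem wl_apply (l : Fin 3) (α : Fin 3 → ℤ) (i : Fin 3) : wl l α i = if i = l then 0 else α i := rfl

/-- the dual degree -/
def gl (l : Fin 3) (g : Fin 3 → ℤ) : Fin 3 → ℤ := fun i => if i = l then 0 else - g i - 1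

theorem gl_apply (l : Fin 3) (g : Fin 3 → ℤ) (i : Fin 3) :
    gl l g i = if i = l then 0 else - g i - 1 := rfl

/-- duality, direction `l` -/
theorem duality_l (hI : IsMonomial I) (hfin : (DD I).Finite) (l : Fin 3) (g g' : Fin 3 → ℤ)
    (hg : ∀ i, g i + g' i + (if i = l then 0 else 1) = 0) :
    Module.finrank k ↥(⨆ α : {α : Fin 3 → ℤ // wl l α = g}, tPiece I α.1) +
        Nat.card {γ : Dx I // wl l (vz γ.1) = g'} =
      Module.finrank k ↥(⨆ α : {α : Fin 3 → ℤ // wl l α = g'}, tPiece I α.1) +
        Nat.card {γ : Dx I // wl l (vz γ.1) = g} := by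
  classical
  have h2 : Finite (Dx I) := (complEquiv I).finite_iff.2 hfin.to_subtype
  have := Fintype.ofFinite (Dx I)
  have hom : ∀ j, om (wl l) j = if j = l then 0 else Pi.single j 1 := by
    intro j
    ext i
    rw [om, wl_apply]
    split_ifs with h1 h2 h2
    · rfl
    · subst h1; simp [h2, Ne.symm h2]
    · subst h2; simp [h1]
    · rfl
  refine duality (wl l) hI l (by rw [hom]; simp) ?_
  rw [hom, hom, hom]
  ext i
  have := hg i
  fin_cases l <;> fin_cases i <;> simp_all

theorem card_neg (hfin : (DD I).Finite) (l : Fin 3) (g' : Fin 3 → ℤ) (i : Fin 3) (h : g' i < 0) :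
    Nat.card {γ : Dx I // wl l (vz γ.1) = g'} = 0 := by
  rw [Nat.card_eq_zero]
  left
  constructor
  rintro ⟨γ, hγ⟩
  have := congrFun hγ i
  rw [wl_apply] at this
  simp only [vz_apply] at this
  split_ifs at this <;> omega

theorem finrank_sig (hI : IsMonomial I) (hfin : (DD I).Finite) {N : ℕ}
    (hN : ∀ i, (Finsupp.single i N : Fin 3 →₀ ℕ) ∈ exps I) (S : Set (Fin 3))
    [DecidablePred fun α : Fin 3 → ℤ => ∀ i, α i < 0 ↔ i ∈ S] :
    Module.finrank k ↥(sigPiece I S) =
      ∑ α ∈ (box (Fin 3) N).filter (fun α => ∀ i, α i < 0 ↔ i ∈ S),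
        Module.finrank k ↥(Mdl I α) :=
  finrank_iSup_pieces hI hfin hN _

theorem finrank_Mdl_nonneg {α : Fin 3 → ℤ} (h : ∀ i, 0 ≤ α i) :
    Module.finrank k ↥(Mdl I α) = 0 := by
  rw [mdl_bot_of_nonneg h, finrank_bot]

theorem finrank_Mdl_neg (hfin : (DD I).Finite) {α : Fin 3 → ℤ} (h : ∀ i, α i < 0) :
    Module.finrank k ↥(Mdl I α) = 0 := by
  rw [mdl_bot_of_neg hfin (show (0 : Fin 3) ≠ 1 by decide) h, finrank_bot]

theorem finrank_sigPiece_singleton (hI : IsMonomial I) (hfin : (DD I).Finite) (l : Fin 3) :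
    Module.finrank k ↥(sigPiece I {l}) =
      Module.finrank k ↥(sigPiece I ({l}ᶜ : Set (Fin 3))) + (DD I).ncard := by
  classical
  obtain ⟨N, hN⟩ := exists_bound hfin
  have h2 : Finite (Dx I) := (complEquiv I).finite_iff.2 hfin.to_subtype
  have := Fintype.ofFinite (Dx I)
  set d : (Fin 3 → ℤ) → ℕ := fun α => Module.finrank k ↥(Mdl I α) with hd
  set B := box (Fin 3) N with hB
  set Tt : Finset (Fin 3 → ℤ) := B.filter (fun g => g l = 0 ∧ ∀ i, i ≠ l → 0 ≤ g i) with hT
  -- the first sum
  have hS1 : Module.finrank k ↥(sigPiece I {l}) = ∑ g ∈ Tt, ∑ α ∈ B.filter (fun α => wl l α = g), d α := by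
    rw [finrank_sig hI hfin hN]
    have h1 : ∑ α ∈ B.filter (fun α => ∀ i, α i < 0 ↔ i ∈ ({l} : Set (Fin 3))), d α =
        ∑ α ∈ B.filter (fun α => ∀ i, i ≠ l → 0 ≤ α i), d α := by
      apply Finset.sum_subset
      · intro α hα
        rw [Finset.mem_filter] at hα ⊢
        refine ⟨hα.1, fun i hi => ?_⟩
        by_contra hcon
        exact hi ((hα.2 i).1 (not_le.1 hcon))
      · intro α hα hα'
        rw [Finset.mem_filter] at hα hα'
        apply finrank_Mdl_nonneg
        intro i
        by_cases hi : i = l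
        · subst hi
          by_contra hcon
          apply hα'
          refine ⟨hα.1, fun j => ?_⟩
          rw [Set.mem_singleton_iff]
          constructor
          · intro hj
            by_contra hji
            have := hα.2 j hji
            omega
          · rintro rfl; exact not_le.1 hcon
        · exact hα.2 i hi
    rw [h1, ← Finset.sum_fiberwise_of_maps_to (g := fun α => wl l α) (t := Tt)]
    · refine Finset.sum_congr rfl fun g hg => ?_
      rw [Finset.filter_filter]
      refine Finset.sum_congr ?_ fun _ _ => rfl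
      ext α
      simp only [Finset.mem_filter]
      constructor
      · rintro ⟨h3, _, h4⟩; exact ⟨h3, h4⟩
      · rintro ⟨h3, h4⟩
        refine ⟨h3, fun i hi => ?_, h4⟩
        have h5 := (Finset.mem_filter.1 hg).2.2 i hi
        rw [← h4, wl_apply, if_neg hi] at h5
        exact h5
    · intro α hα
      rw [Finset.mem_filter] at hα ⊢
      refine ⟨?_, by rw [wl_apply, if_pos rfl], fun i hi => by rw [wl_apply, if_neg hi]; exact hα.2 i hi⟩
      rw [hB, mem_box] at hα ⊢
      intro i
      rw [wl_apply]
      have := hα.1 i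
      split_ifs <;> omega
  have hS2 : Module.finrank k ↥(sigPiece I ({l}ᶜ : Set (Fin 3))) =
      ∑ g ∈ Tt, ∑ α ∈ B.filter (fun α => wl l α = gl l g), d α := by
    rw [finrank_sig hI hfin hN]
    have h1 : ∑ α ∈ B.filter (fun α => ∀ i, α i < 0 ↔ i ∈ ({l}ᶜ : Set (Fin 3))), d α =
        ∑ α ∈ B.filter (fun α => ∀ i, i ≠ l → α i < 0), d α := by
      apply Finset.sum_subset
      · intro α hα
        rw [Finset.mem_filter] at hα ⊢
        exact ⟨hα.1, fun i hi => (hα.2 i).2 hi⟩
      · intro α hα hα'
        rw [Finset.mem_filter] at hα hα'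
        apply finrank_Mdl_neg hfin
        intro i
        by_cases hi : i = l
        · subst hi
          by_contra hcon
          apply hα'
          refine ⟨hα.1, fun j => ?_⟩
          rw [Set.mem_compl_iff, Set.mem_singleton_iff]
          constructor
          · rintro hj rfl; exact hcon hj
          · intro hj; exact hα.2 j hj
        · exact hα.2 i hi
    rw [h1, ← Finset.sum_fiberwise_of_maps_to
      (g := gl l) (t := Tt)]
    · refine Finset.sum_congr rfl fun g hg => ?_
      rw [Finset.filter_filter]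
      refine Finset.sum_congr ?_ fun _ _ => rfl
      have hg' := (Finset.mem_filter.1 hg).2
      ext α
      simp only [Finset.mem_filter]
      constructor
      · rintro ⟨h3, _, h4⟩
        refine ⟨h3, ?_⟩
        ext i
        have := congrFun h4 i
        rw [gl_apply] at this
        rw [wl_apply, gl_apply]
        split_ifs with hi
        · rfl
        · rw [if_neg hi] at this; omega
      · rintro ⟨h3, h4⟩
        refine ⟨h3, fun i hi => ?_, ?_⟩
        · have h5 := hg'.2 i hi
          have h6 := congrFun h4 i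
          rw [wl_apply, gl_apply, if_neg hi, if_neg hi] at h6
          omega
        · ext i
          have h6 := congrFun h4 i
          rw [wl_apply, gl_apply] at h6
          rw [gl_apply]
          by_cases hi : i = l
          · rw [if_pos hi, hi, hg'.1]
          · rw [if_neg hi, if_neg hi] at h6
            rw [if_neg hi]
            omega
    · intro α hα
      rw [Finset.mem_filter] at hα ⊢
      refine ⟨?_, by rw [gl_apply, if_pos rfl], fun i hi => by
        rw [gl_apply, if_neg hi]; have := hα.2 i hi; omega⟩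
      rw [hB, mem_box] at hα ⊢
      intro i
      have := hα.1 i
      rw [gl_apply]
      split_ifs <;> omega
  have hS3 : (DD I).ncard = ∑ g ∈ Tt, Nat.card {γ : Dx I // wl l (vz γ.1) = g} := by
    have h1 : (DD I).ncard = Fintype.card (Dx I) := by
      rw [← Nat.card_eq_fintype_card, Nat.card_congr (complEquiv I)]; rfl
    rw [h1, ← Finset.card_univ, Finset.card_eq_sum_card_fiberwise
      (f := fun γ : Dx I => wl l (vz γ.1)) (t := Tt)]
    · refine Finset.sum_congr rfl fun g _ => ?_
      rw [Nat.card_eq_fintype_card, Fintype.card_subtype]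
    · intro γ _
      have h3 : ∀ i, γ.1 i < N := by
        intro i
        by_contra hcon
        exact γ.2 (exps_of_le (hN i) (by rw [Finsupp.single_le_iff]; omega))
      show wl l (vz γ.1) ∈ (Tt : Set (Fin 3 → ℤ))
      rw [Finset.mem_coe, Finset.mem_filter]
      refine ⟨?_, by rw [wl_apply, if_pos rfl], fun i hi => by rw [wl_apply, if_neg hi]; simp⟩
      rw [hB, mem_box]
      intro i
      rw [wl_apply]
      have := h3 i
      simp only [vz_apply]
      split_ifs <;> omega
  rw [hS1, hS2, hS3, ← Finset.sum_add_distrib]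
  refine Finset.sum_congr rfl fun g hg => ?_
  have hg' := (Finset.mem_filter.1 hg).2
  have h1 := duality_l hI hfin l g (gl l g) (by
    intro i
    rw [gl_apply]
    by_cases hi : i = l
    · rw [if_pos hi, if_pos hi, hi, hg'.1]; rfl
    · rw [if_neg hi, if_neg hi]; ring)
  have h3 : ∃ i : Fin 3, i ≠ l := ⟨l + 1, by fin_cases l <;> decide⟩
  obtain ⟨i, hi⟩ := h3
  rw [card_neg hfin l _ i (by rw [gl_apply, if_neg hi]; have := hg'.2 i hi; omega), add_zero,
    finrank_iSup_pieces hI hfin hN, finrank_iSup_pieces hI hfin hN] at h1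
  exact h1

theorem forall_fin3 {P : Fin 3 → Prop} : (∀ i, P i) ↔ P 0 ∧ P 1 ∧ P 2 := by
  constructor
  · intro h; exact ⟨h 0, h 1, h 2⟩
  · rintro ⟨h0, h1, h2⟩ i
    fin_cases i
    · exact h0
    · exact h1
    · exact h2

/-- total dimension as a sum over sign patterns -/
theorem finrank_total (hI : IsMonomial I) (hfin : (DD I).Finite) :
    Module.finrank k (Tgt I) =
      ∑ l : Fin 3, (Module.finrank k ↥(sigPiece I {l}) +
        Module.finrank k ↥(sigPiece I ({l}ᶜ : Set (Fin 3)))) := by
  classical
  obtain ⟨N, hN⟩ := exists_bound hfin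
  rw [finrank_Tgt hI hfin hN]
  simp only [finrank_sig hI hfin hN]
  simp only [Finset.sum_filter, ← Finset.sum_add_distrib]
  rw [Finset.sum_comm]
  refine Finset.sum_congr rfl fun α _ => ?_
  rw [Fin.sum_univ_three]
  simp only [forall_fin3, Set.mem_singleton_iff, Set.mem_compl_iff]
  have hneg : (∀ i, α i < 0) → Module.finrank k ↥(Mdl I α) = 0 := finrank_Mdl_neg hfin
  have hnn : (∀ i, 0 ≤ α i) → Module.finrank k ↥(Mdl I α) = 0 := finrank_Mdl_nonneg
  rw [forall_fin3] at hneg hnn
  rcases lt_or_ge (α 0) 0 with h0 | h0 <;> rcases lt_or_ge (α 1) 0 with h1 | h1 <;>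
    rcases lt_or_ge (α 2) 0 with h2 | h2 <;>
    simp [h0, h1, h2, not_lt.2, hneg, hnn]

end K777.Sig
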