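import Groth.Agent.W4c1hilbpn.K777.Decomp
import Mathlib.LinearAlgebra.FiniteDimensional.Lemmas

/-! Finite colength: vanishing of pieces, spanning, dimension bookkeeping. -/

set_option autoImplicit false
set_option linter.unusedSimpArgs false
set_option linter.unusedSectionVars false

namespace K777.Colen

open MvPolynomial W4c1hilbpn K777.Basic K777.Model K777.Decomp

variable {σ : Type*} [Finite σ] [DecidableEq σ] {k : Type*} [Field k]
variable {I : Ideal (MvPolynomial σ k)}

theorem co_zero' (hI : IsMonomial I) (β γ : σ → ℤ) : co hI (0 : Tgt I) β γ = 0 := by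
  have := congrFun (congrFun (map_zero (coL hI)) β) γ
  simpa using this

theorem co_sum (hI : IsMonomial I) {ι : Type*} (s : Finset ι) (φ : ι → Tgt I) (β γ : σ → ℤ) :
    co hI (∑ i ∈ s, φ i) β γ = ∑ i ∈ s, co hI (φ i) β γ := by
  have := congrFun (congrFun (map_sum (coL hI) φ s) β) γ
  rw [Finset.sum_apply, Finset.sum_apply] at this
  exact this

theorem sum_pr (hI : IsMonomial I) (B : Finset (σ → ℤ)) (φ : Tgt I)
    (hB : ∀ α, pr hI α φ ≠ 0 → α ∈ B) : ∑ α ∈ B, pr hI α φ = φ := by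
  classical
  apply co_ext hI
  intro β γ
  rw [co_sum]
  simp only [co_pr]
  by_cases h0 : co hI φ β γ = 0
  · rw [h0]; simp
  · rw [Finset.sum_eq_single (γ - β)]
    · rw [if_pos (by abel)]
    · intro α _ hα
      rw [if_neg]
      intro h; apply hα; rw [h]; abel
    · intro h
      exfalso
      apply h
      apply hB
      intro h1
      have h2 := co_pr hI (γ - β) φ β γ
      rw [if_pos (by abel), h1, co_zero'] at h2
      exact h0 h2.symm

theorem iSup_tPiece_eq_top (hI : IsMonomial I) (B : Finset (σ → ℤ))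
    (hB : ∀ α, tPiece I α ≠ ⊥ → α ∈ B) : ⨆ α, tPiece I α = ⊤ := by
  rw [eq_top_iff]
  intro φ _
  rw [← sum_pr hI B φ (fun α hα => hB α (fun h => hα (by
    have := pr_mem hI α φ
    rwa [h, Submodule.mem_bot] at this)))]
  exact Submodule.sum_mem _ fun α _ => Submodule.mem_iSup_of_mem α (pr_mem hI α φ)

theorem exists_top (hfin : (DD I).Finite) {γ : σ → ℤ} (hγ : γ ∈ DD I) (j : σ) :
    ∃ t : ℕ, γ + Pi.single j (t : ℤ) ∈ DD I ∧ γ + Pi.single j ((t : ℤ) + 1) ∈ UU I := by
  classical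
  obtain ⟨N, hN⟩ := exists_bound hfin
  have hex : ∃ t : ℕ, γ + Pi.single j (t : ℤ) ∉ DD I := by
    refine ⟨N, not_mem_DD ?_⟩
    refine UU_up (vz_mem_UU.2 (hN j)) fun i => ?_
    have := hγ.1 i
    rw [vz_single]
    simp only [Pi.add_apply]
    omega
  have h0 : Nat.find hex ≠ 0 := by
    intro h
    have := Nat.find_spec hex
    rw [h] at this
    apply this
    simpa using hγ
  obtain ⟨t, ht⟩ := Nat.exists_eq_succ_of_ne_zero h0
  refine ⟨t, ?_, ?_⟩
  · by_contra h
    have := Nat.find_min' hex h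
    omega
  · have h1 := Nat.find_spec hex
    rw [ht] at h1
    have h2 : ∀ i, 0 ≤ (γ + Pi.single j ((t.succ : ℕ) : ℤ) : σ → ℤ) i := by
      intro i
      have := hγ.1 i
      by_cases hi : i = j
      · subst hi; simp; omega
      · simp [Pi.single_apply, hi, this]
    rcases mem_UU_or_DD (I := I) h2 with h3 | h3
    · simpa using h3
    · exact absurd h3 h1

theorem mdl_bot_of_nonneg {α : σ → ℤ} (h : ∀ i, 0 ≤ α i) : Mdl I α = ⊥ := by
  rw [eq_bot_iff]
  intro f hf
  rw [Submodule.mem_bot]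
  ext γ
  by_contra hne
  obtain ⟨h1, h2⟩ := hf.1 γ hne
  refine not_mem_DD (UU_up h2 fun i => ?_) h1
  have := h i
  simp; omega

theorem mdl_bot_of_neg (hfin : (DD I).Finite) {i j : σ} (hij : i ≠ j) {α : σ → ℤ}
    (h : ∀ i, α i < 0) : Mdl I α = ⊥ := by
  rw [eq_bot_iff]
  intro f hf
  rw [Submodule.mem_bot]
  by_contra hne
  have hex : ∃ n : ℕ, ∃ γ, f γ ≠ 0 ∧ (γ i).toNat = n := by
    have : ∃ γ, f γ ≠ 0 := by
      by_contra hcon
      push Not at hcon
      exact hne (funext hcon)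
    obtain ⟨γ, hγ⟩ := this
    exact ⟨_, γ, hγ, rfl⟩
  classical
  obtain ⟨γ, hγ, hγn⟩ := Nat.find_spec hex
  obtain ⟨h1, h2⟩ := hf.1 γ hγ
  obtain ⟨t, ht1, ht2⟩ := exists_top hfin h1 j
  have h3 : f (γ + Pi.single j (t : ℤ)) = f γ := by
    refine mdl_const hf h2 ht1 fun l => ?_
    by_cases hl : l = j
    · subst hl; simp
    · simp [Pi.single_apply, hl]
  have h4 : (γ + Pi.single j (t : ℤ) - Pi.single i 1) - α ∈ UU I := by
    refine UU_up ht2 fun l => ?_
    have := h l
    simp only [Pi.add_apply, Pi.sub_apply, Pi.single_apply]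
    by_cases hl : l = i
    · rw [if_neg (fun h' => hij (hl.symm.trans h')), if_neg (fun h' => hij (hl.symm.trans h')),
        if_pos hl]
      omega
    · rw [if_neg hl]
      split_ifs <;> omega
  have h5 : f (γ + Pi.single j (t : ℤ)) = f (γ + Pi.single j (t : ℤ) - Pi.single i 1) := by
    refine mdl_const hf h4 ht1 fun l => ?_
    simp only [Pi.add_apply, Pi.sub_apply, Pi.single_apply]
    split_ifs <;> omega
  have h6 : f (γ + Pi.single j (t : ℤ) - Pi.single i 1) ≠ 0 := by
    rw [← h5, h3]; exact hγ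
  have h7 := Nat.find_min' hex ⟨_, h6, rfl⟩
  have h8 := (hf.1 _ h6).1.1 i
  simp only [Pi.add_apply, Pi.sub_apply, Pi.single_apply, if_neg hij, if_true] at h7 h8
  omega

theorem mdl_bot_of_le {N : ℕ} {i : σ} (hN : (Finsupp.single i N : σ →₀ ℕ) ∈ exps I)
    {α : σ → ℤ} (h : α i < -(N : ℤ)) : Mdl I α = ⊥ := by
  rw [eq_bot_iff]
  intro f hf
  rw [Submodule.mem_bot]
  ext γ
  by_contra hne
  obtain ⟨h1, h2⟩ := hf.1 γ hne
  have h4 : (γ - Pi.single i (γ i + 1)) - α ∈ UU I := by
    refine UU_up (vz_mem_UU.2 hN) fun l => ?_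
    have := h2.1 l
    rw [vz_single]
    simp only [Pi.add_apply, Pi.sub_apply, Pi.single_apply] at *
    split_ifs with hl
    · subst hl; omega
    · omega
  have h3 : f γ = f (γ - Pi.single i (γ i + 1)) := by
    refine mdl_const hf h4 h1 fun l => ?_
    have := h1.1 i
    simp only [Pi.add_apply, Pi.sub_apply, Pi.single_apply]
    split_ifs <;> omega
  apply hne
  rw [h3]
  apply mdl_zero_of_neg hf (i := i)
  simp

theorem mdl_bot_of_ge {N : ℕ} {i : σ} (hN : (Finsupp.single i N : σ →₀ ℕ) ∈ exps I)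
    {α : σ → ℤ} (h : (N : ℤ) ≤ α i) : Mdl I α = ⊥ := by
  rw [eq_bot_iff]
  intro f hf
  rw [Submodule.mem_bot]
  ext γ
  by_contra hne
  obtain ⟨h1, h2⟩ := hf.1 γ hne
  refine not_mem_DD (UU_up (vz_mem_UU.2 hN) fun l => ?_) h1
  have h3 := h2.1 l
  have h4 := h1.1 l
  rw [vz_single]
  simp only [Pi.sub_apply, Pi.single_apply] at *
  split_ifs with hl
  · subst hl; omega
  · exact h4

/-- a box containing all degrees of nonzero pieces -/
noncomputable def box (σ : Type*) [Finite σ] (N : ℕ) : Finset (σ → ℤ) :=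
  (Set.Finite.pi' (t := fun _ : σ => Set.Ico (-(N : ℤ)) N) (fun _ => Set.finite_Ico _ _)).toFinset

theorem mem_box {N : ℕ} {α : σ → ℤ} : α ∈ box σ N ↔ ∀ i, -(N : ℤ) ≤ α i ∧ α i < N := by
  simp [box]

theorem mem_box_of_ne_bot {N : ℕ} (hN : ∀ i, (Finsupp.single i N : σ →₀ ℕ) ∈ exps I)
    {α : σ → ℤ} (h : Mdl I α ≠ ⊥) : α ∈ box σ N := by
  rw [mem_box]
  intro i
  constructor
  · by_contra h'
    exact h (mdl_bot_of_le (hN i) (by omega))
  · by_contra h'
    exact h (mdl_bot_of_ge (hN i) (by omega))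

theorem finite_Mdl (hfin : (DD I).Finite) (α : σ → ℤ) : Module.Finite k ↥(Mdl I α) := by
  have := hfin.to_subtype
  let L : ↥(Mdl I α) →ₗ[k] (↥(DD I) → k) :=
    { toFun := fun f γ => f.1 γ.1
      map_add' := fun f g => rfl
      map_smul' := fun a f => rfl }
  apply Module.Finite.of_injective L
  rintro ⟨f, hf⟩ ⟨g, hg⟩ h
  ext γ
  by_cases hγ : γ ∈ DD I
  · exact congrFun h ⟨γ, hγ⟩
  · have h1 : f γ = 0 := by by_contra h1; exact hγ (hf.1 γ h1).1
    have h2 : g γ = 0 := by by_contra h2; exact hγ (hg.1 γ h2).1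
    simp only [h1, h2]

theorem finite_tPiece (hI : IsMonomial I) (hfin : (DD I).Finite) (α : σ → ℤ) :
    Module.Finite k ↥(tPiece I α) := by
  have := finite_Mdl hfin α
  exact Module.Finite.equiv (mdlEquiv hI α).symm

/-- dimension of a sum of pieces, finite colength -/
theorem finrank_iSup_pieces (hI : IsMonomial I) (hfin : (DD I).Finite) {N : ℕ}
    (hN : ∀ i, (Finsupp.single i N : σ →₀ ℕ) ∈ exps I) (P : (σ → ℤ) → Prop) [DecidablePred P] :
    Module.finrank k ↥(⨆ α : {α // P α}, tPiece I α.1) =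
      ∑ α ∈ (box σ N).filter P, Module.finrank k ↥(Mdl I α) := by
  rw [finrank_iSup_subtype _ (iSupIndep_tPiece hI) (box σ N) P
    (fun α _ _ => finite_tPiece hI hfin α)
    (fun α _ h => mem_box_of_ne_bot hN (fun h' => h ((tPiece_eq_bot_iff hI α).2 h')))]
  exact Finset.sum_congr rfl fun α _ => finrank_tPiece hI α

theorem iSup_tPiece_top (hI : IsMonomial I) (hfin : (DD I).Finite) : ⨆ α, tPiece I α = ⊤ := by
  obtain ⟨N, hN⟩ := exists_bound hfin
  exact iSup_tPiece_eq_top hI (box σ N) fun α h =>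
    mem_box_of_ne_bot hN (fun h' => h ((tPiece_eq_bot_iff hI α).2 h'))

theorem finrank_Tgt (hI : IsMonomial I) (hfin : (DD I).Finite) {N : ℕ}
    (hN : ∀ i, (Finsupp.single i N : σ →₀ ℕ) ∈ exps I) :
    Module.finrank k (Tgt I) = ∑ α ∈ box σ N, Module.finrank k ↥(Mdl I α) := by
  classical
  have h1 := finrank_iSup_pieces hI hfin hN (fun _ => True)
  rw [Finset.filter_true] at h1
  rw [← h1, ← finrank_top k (Tgt I), ← iSup_tPiece_top hI hfin]
  have h2 : (⨆ α, tPiece I α) = ⨆ α : {α : σ → ℤ // True}, tPiece I α.1 :=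
    le_antisymm (iSup_le fun α => le_iSup (fun α : {α : σ → ℤ // True} => tPiece I α.1) ⟨α, trivial⟩)
      (iSup_le fun α => le_iSup (fun α => tPiece I α) α.1)
  rw [h2]

/-- counting bound: an injective restriction -/
theorem finrank_le_ncard {X : Type*} (W : Submodule k (X → k)) (P : Set X) (hP : P.Finite)
    (h : ∀ f ∈ W, (∀ x ∈ P, f x = 0) → f = 0) : Module.finrank k ↥W ≤ P.ncard := by
  have := hP.fintype
  let L : ↥W →ₗ[k] (↥P → k) :=
    { toFun := fun f γ => f.1 γ.1
      map_add' := fun f g => rfl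
      map_smul' := fun a f => rfl }
  have hL : Function.Injective L := by
    rw [← LinearMap.ker_eq_bot, LinearMap.ker_eq_bot']
    rintro ⟨f, hf⟩ h0
    ext1
    exact h f hf fun x hx => congrFun h0 ⟨x, hx⟩
  have h1 := LinearMap.finrank_le_finrank_of_injective hL
  rw [Module.finrank_fintype_fun_eq_card] at h1
  rwa [Set.ncard_eq_toFinset_card', Set.toFinset_card]

end K777.Colen
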