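import Groth.Agent.W4c1hilbpn.K777.Colen
import Mathlib.RingTheory.MvPolynomial.Ideal
import Mathlib.Algebra.Order.Antidiag.FinsuppEquiv

/-! Pieces for powers of the irrelevant ideal. -/

set_option autoImplicit false
set_option linter.unusedSimpArgs false
set_option linter.unusedSectionVars false

namespace K777.FatPoint

open MvPolynomial W4c1hilbpn K777.Basic K777.Model K777.Decomp K777.Colen

variable {σ : Type*} [Fintype σ] [DecidableEq σ] {k : Type*} [Field k]

variable (σ k) in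
/-- powers of the irrelevant ideal -/
noncomputable abbrev mr (r : ℕ) : Ideal (MvPolynomial σ k) :=
  (Ideal.span (Set.range (MvPolynomial.X : σ → MvPolynomial σ k))) ^ r

theorem isMonomial_mr (r : ℕ) : IsMonomial (mr σ k r) := by
  intro p hp β hβ
  rw [MvPolynomial.monomial_mem_pow_idealOfVars_iff _ _ one_ne_zero]
  exact (MvPolynomial.mem_pow_idealOfVars_iff r p).1 hp β hβ

theorem mem_exps_mr {r : ℕ} {β : σ →₀ ℕ} : β ∈ exps (mr σ k r) ↔ r ≤ ∑ i, β i := by
  show monomial β (1 : k) ∈ mr σ k r ↔ _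
  rw [MvPolynomial.monomial_mem_pow_idealOfVars_iff _ _ one_ne_zero, Finsupp.degree_eq_sum]

theorem sum_vn {γ : σ → ℤ} (h : ∀ i, 0 ≤ γ i) : ((∑ i, vn γ i : ℕ) : ℤ) = ∑ i, γ i := by
  rw [Nat.cast_sum]
  refine Finset.sum_congr rfl fun i _ => ?_
  rw [vn_apply, Int.toNat_of_nonneg (h i)]

theorem mem_UU_mr {r : ℕ} {γ : σ → ℤ} :
    γ ∈ UU (mr σ k r) ↔ (∀ i, 0 ≤ γ i) ∧ (r : ℤ) ≤ ∑ i, γ i := by
  constructor
  · rintro ⟨h1, h2⟩
    rw [mem_exps_mr] at h2
    refine ⟨h1, ?_⟩
    rw [← sum_vn h1]; exact_mod_cast h2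
  · rintro ⟨h1, h2⟩
    refine ⟨h1, ?_⟩
    rw [mem_exps_mr]
    rw [← sum_vn h1] at h2; exact_mod_cast h2

theorem mem_DD_mr {r : ℕ} {γ : σ → ℤ} :
    γ ∈ DD (mr σ k r) ↔ (∀ i, 0 ≤ γ i) ∧ ∑ i, γ i < (r : ℤ) := by
  constructor
  · rintro ⟨h1, h2⟩
    refine ⟨h1, ?_⟩
    by_contra h
    exact h2 (mem_UU_mr (k := k).2 ⟨h1, not_lt.1 h⟩).2
  · rintro ⟨h1, h2⟩
    refine ⟨h1, fun h => ?_⟩
    have := (mem_UU_mr (k := k).1 ⟨h1, h⟩).2
    omega

theorem finite_DD_mr (r : ℕ) : (DD (mr σ k r)).Finite := by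
  refine Set.Finite.subset (Set.Finite.pi' (t := fun _ : σ => Set.Ico (0 : ℤ) r)
    (fun _ => Set.finite_Ico _ _)) ?_
  intro γ hγ
  rw [mem_DD_mr] at hγ
  intro i
  refine ⟨hγ.1 i, ?_⟩
  exact lt_of_le_of_lt (Finset.single_le_sum (f := γ) (fun j _ => hγ.1 j) (Finset.mem_univ i)) hγ.2

theorem sum_single (i : σ) (c : ℤ) : ∑ j, (Pi.single i c : σ → ℤ) j = c := by simp

theorem mdl_bot_of_sum_nonneg {r : ℕ} {α : σ → ℤ} (h : 0 ≤ ∑ i, α i) : Mdl (mr σ k r) α = ⊥ := by
  rw [eq_bot_iff]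
  intro f hf
  rw [Submodule.mem_bot]
  ext γ
  by_contra hne
  obtain ⟨h1, h2⟩ := hf.1 γ hne
  rw [mem_DD_mr] at h1
  rw [mem_UU_mr] at h2
  have := h2.2
  simp only [Pi.sub_apply, Finset.sum_sub_distrib] at this
  omega

theorem mdl_bot_of_sum_le {r : ℕ} {α : σ → ℤ} (hcard : 2 ≤ Fintype.card σ)
    (h : ∑ i, α i ≤ -2) : Mdl (mr σ k r) α = ⊥ := by
  rw [eq_bot_iff]
  intro f hf
  rw [Submodule.mem_bot]
  by_contra hne
  have : ∃ i, α i < 0 := by
    by_contra hcon
    push Not at hcon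
    have := Finset.sum_nonneg fun i (_ : i ∈ Finset.univ) => hcon i
    omega
  obtain ⟨i, hi⟩ := this
  have : Nontrivial σ := Fintype.one_lt_card_iff_nontrivial.1 (by omega)
  obtain ⟨j, hj⟩ := exists_ne i
  have hs : {γ | f γ ≠ 0}.Finite := (finite_DD_mr (k := k) r).subset fun γ hγ => (hf.1 γ hγ).1
  have hne' : {γ | f γ ≠ 0}.Nonempty := by
    by_contra hcon
    apply hne
    ext γ
    by_contra h
    exact hcon ⟨γ, h⟩
  obtain ⟨γ, hγ, hmin⟩ := Set.exists_min_image {γ | f γ ≠ 0} (fun γ => γ i) hs hne'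
  obtain ⟨h1, h2⟩ := hf.1 γ hγ
  have h1' := mem_DD_mr.1 h1
  have h2' := mem_UU_mr.1 h2
  set t : ℤ := r - 1 - ∑ i, γ i with ht
  have ht0 : 0 ≤ t := by have := h1'.2; omega
  have h3 : γ + Pi.single j t ∈ DD (mr σ k r) := by
    rw [mem_DD_mr]
    constructor
    · intro l
      have := h1'.1 l
      simp only [Pi.add_apply, Pi.single_apply]
      split_ifs <;> omega
    · simp only [Pi.add_apply, Finset.sum_add_distrib, sum_single]
      omega
  have h4 : f (γ + Pi.single j t) = f γ := by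
    refine mdl_const hf h2 h3 fun l => ?_
    simp only [Pi.add_apply, Pi.single_apply]
    split_ifs <;> omega
  have h5 : γ + Pi.single j t - Pi.single i 1 - α ∈ UU (mr σ k r) := by
    rw [mem_UU_mr]
    constructor
    · intro l
      have := h2'.1 l
      have h6 := h1'.1 i
      simp only [Pi.add_apply, Pi.sub_apply, Pi.single_apply] at *
      by_cases hl : l = i
      · subst hl
        rw [if_neg (Ne.symm hj), if_pos rfl]
        omega
      · rw [if_neg hl]
        split_ifs <;> omega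
    · simp only [Pi.add_apply, Pi.sub_apply, Finset.sum_add_distrib, Finset.sum_sub_distrib,
        sum_single]
      omega
  have h6 : f (γ + Pi.single j t) = f (γ + Pi.single j t - Pi.single i 1) := by
    refine mdl_const hf h5 h3 fun l => ?_
    simp only [Pi.add_apply, Pi.sub_apply, Pi.single_apply]
    split_ifs <;> omega
  have h7 := hmin (γ + Pi.single j t - Pi.single i 1) (by
    show f _ ≠ 0
    rw [← h6, h4]; exact hγ)
  simp only [Pi.add_apply, Pi.sub_apply, Pi.single_apply, if_neg (Ne.symm hj), if_true] at h7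
  omega

/-- functions supported on a finite set -/
theorem finrank_supported {X : Type*} (Q : Set X) (hQ : Q.Finite) (W : Submodule k (X → k))
    (hW : ∀ f, f ∈ W ↔ ∀ x, f x ≠ 0 → x ∈ Q) : Module.finrank k ↥W = Q.ncard := by
  classical
  have := hQ.fintype
  have e : ↥W ≃ₗ[k] (↥Q → k) :=
    { toFun := fun v γ => v.1 γ.1
      map_add' := fun u v => rfl
      map_smul' := fun c v => rfl
      invFun := fun u => ⟨fun γ => if h : γ ∈ Q then u ⟨γ, h⟩ else 0, by
        rw [hW]
        intro γ h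
        by_contra h'
        exact h (dif_neg h')⟩
      left_inv := by
        rintro ⟨v, hv⟩
        ext γ
        simp only
        split_ifs with h
        · rfl
        · by_contra h'
          exact h ((hW v).1 hv γ (Ne.symm h'))
      right_inv := by
        intro u
        ext γ
        simp only
        rw [dif_pos γ.2] }
  rw [e.finrank_eq, Module.finrank_fintype_fun_eq_card, Set.ncard_eq_toFinset_card',
    Set.toFinset_card]

theorem card_simplex (hcard : 1 ≤ Fintype.card σ) (a : σ → ℤ) (m : ℕ) :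
    {γ : σ → ℤ | (∀ i, a i ≤ γ i) ∧ ∑ i, γ i = ∑ i, a i + m}.ncard =
      (Fintype.card σ + m - 1).choose (Fintype.card σ - 1) := by
  have h1 := Finset.card_finsuppAntidiag_nat_eq_choose (s := (Finset.univ : Finset σ)) m
  rw [Finset.card_univ] at h1
  have h2 : (Fintype.card σ + m - 1).choose m = (Fintype.card σ + m - 1).choose (Fintype.card σ - 1) := by
    rw [← Nat.choose_symm (by omega)]
    congr 1
    omega
  rw [← h2, ← h1]
  have h3 : {γ : σ → ℤ | (∀ i, a i ≤ γ i) ∧ ∑ i, γ i = ∑ i, a i + m} =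
      (fun β : σ →₀ ℕ => vz β + a) '' ((Finset.univ : Finset σ).finsuppAntidiag m : Finset (σ →₀ ℕ)) := by
    ext γ
    simp only [Set.mem_ofPred_eq, Set.mem_image, Finset.mem_coe, Finset.mem_finsuppAntidiag]
    constructor
    · rintro ⟨h4, h5⟩
      have h6 : ∀ i, 0 ≤ (γ - a) i := fun i => by have := h4 i; simp; omega
      refine ⟨vn (γ - a), ⟨?_, Finset.subset_univ _⟩, ?_⟩
      · show ∑ i, vn (γ - a) i = m
        have := sum_vn h6
        simp only [Pi.sub_apply, Finset.sum_sub_distrib] at this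
        omega
      · rw [vz_vn h6]; abel
    · rintro ⟨β, ⟨h4, _⟩, rfl⟩
      constructor
      · intro i; simp
      · simp only [Pi.add_apply, Finset.sum_add_distrib, vz_apply]
        rw [← h4]; push_cast; ring
  rw [h3, Set.InjOn.ncard_image, Set.ncard_coe_finset]
  intro x _ y _ hxy
  exact vz_injective (add_right_cancel hxy)

theorem finrank_mdl_eq {r : ℕ} {α : σ → ℤ} (h : ∑ i, α i = -1) :
    Module.finrank k ↥(Mdl (mr σ k r) α) =
      {γ : σ → ℤ | (∀ i, max 0 (α i) ≤ γ i) ∧ ∑ i, γ i = r - 1}.ncard := by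
  apply finrank_supported
  · refine (finite_DD_mr (k := k) r).subset ?_
    rintro γ ⟨h1, h2⟩
    rw [mem_DD_mr]
    exact ⟨fun i => (le_max_left _ _).trans (h1 i), by omega⟩
  · intro f
    have key : ∀ γ, (γ ∈ DD (mr σ k r) ∧ γ - α ∈ UU (mr σ k r)) ↔
        ((∀ i, max 0 (α i) ≤ γ i) ∧ ∑ i, γ i = r - 1) := by
      intro γ
      rw [mem_DD_mr, mem_UU_mr]
      simp only [Pi.sub_apply, Finset.sum_sub_distrib, h]
      constructor
      · rintro ⟨⟨h1, h2⟩, h3, h4⟩
        exact ⟨fun i => max_le (h1 i) (by have := h3 i; omega), by omega⟩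
      · rintro ⟨h1, h2⟩
        exact ⟨⟨fun i => (le_max_left _ _).trans (h1 i), by omega⟩,
          fun i => by have := (le_max_right _ _).trans (h1 i); omega, by omega⟩
    constructor
    · rintro ⟨h1, _⟩ γ hγ
      exact (key γ).1 (h1 γ hγ)
    · intro h1
      refine ⟨fun γ hγ => (key γ).2 (h1 γ hγ), fun γ i h2 h3 => ?_⟩
      exfalso
      rw [mem_UU_mr] at h2
      rw [mem_DD_mr] at h3
      simp only [Pi.sub_apply, Pi.add_apply, Finset.sum_sub_distrib, Finset.sum_add_distrib,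
        sum_single] at h2 h3
      omega

theorem sum_max (α : σ → ℤ) : ∑ i, max 0 (α i) = ∑ i, α i + ((∑ i, (-α i).toNat : ℕ) : ℤ) := by
  rw [Nat.cast_sum, ← Finset.sum_add_distrib]
  refine Finset.sum_congr rfl fun i _ => ?_
  rcases le_or_gt 0 (α i) with h | h
  · rw [max_eq_right h, Int.toNat_of_nonpos (by omega)]; simp
  · rw [max_eq_left h.le, Int.toNat_of_nonneg (by omega)]; ring

/-- the dimension of the pieces of `T(m^r)` -/
theorem finrank_mdl (hcard : 2 ≤ Fintype.card σ) (r : ℕ) (α : σ → ℤ) :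
    Module.finrank k ↥(Mdl (mr σ k r) α) =
      if (∑ i, α i = -1 ∧ ∑ i, (-α i).toNat ≤ r)
        then Nat.choose (Fintype.card σ + r - (∑ i, (-α i).toNat) - 1) (Fintype.card σ - 1) else 0 := by
  rcases lt_trichotomy (∑ i, α i) (-1) with h | h | h
  · rw [if_neg (by omega), mdl_bot_of_sum_le hcard (by omega), finrank_bot]
  · rw [finrank_mdl_eq h]
    have hm := sum_max α
    rw [h] at hm
    split_ifs with hw
    · have h1 := card_simplex (σ := σ) (by omega) (fun i => max 0 (α i)) (r - ∑ i, (-α i).toNat)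
      rw [hm] at h1
      have e : (-1 + ((∑ i, (-α i).toNat : ℕ) : ℤ) + ((r - ∑ i, (-α i).toNat : ℕ) : ℤ)) = (r : ℤ) - 1 := by
        have := hw.2
        push_cast [Nat.cast_sub this]
        ring
      rw [e] at h1
      rw [h1]
      congr 1
      have := hw.2
      omega
    · have h3 : {γ : σ → ℤ | (∀ i, max 0 (α i) ≤ γ i) ∧ ∑ i, γ i = r - 1} = ∅ := by
        rw [Set.eq_empty_iff_forall_notMem]
        rintro γ ⟨h1, h2⟩
        apply hw
        refine ⟨h, ?_⟩
        have := Finset.sum_le_sum fun i (_ : i ∈ Finset.univ) => h1 i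
        rw [hm] at this
        omega
      rw [h3, Set.ncard_empty]
  · rw [if_neg (by omega), mdl_bot_of_sum_nonneg (by omega), finrank_bot]

end K777.FatPoint
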