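import Groth.Agent.W4c1hilbpn.K777.Stair

/-! Nonzero graded pieces from socle elements and minimal generators. -/

set_option autoImplicit false
set_option linter.unusedSimpArgs false
set_option linter.unusedSectionVars false
set_option linter.unusedVariables false

namespace K777.Socle

open MvPolynomial W4c1hilbpn K777.Basic K777.Model K777.Decomp K777.Colen K777.Bound K777.Stair

section gen
variable {σ : Type*} [Finite σ] [DecidableEq σ] {k : Type*} [Field k]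
variable {I : Ideal (MvPolynomial σ k)}

theorem exists_socle (hfin : (DD I).Finite) {q : σ → ℤ} (hq : q ∈ DD I) :
    ∃ γ ∈ DD I, (∀ i, q i ≤ γ i) ∧ ∀ i, γ + Pi.single i 1 ∈ UU I := by
  have := Fintype.ofFinite σ
  have hs : {γ | γ ∈ DD I ∧ ∀ i, q i ≤ γ i}.Finite := hfin.subset fun γ hγ => hγ.1
  obtain ⟨γ, ⟨h1, h2⟩, hmax⟩ := Set.exists_max_image {γ | γ ∈ DD I ∧ ∀ i, q i ≤ γ i}
    (fun γ => ∑ i, γ i) hs ⟨q, hq, fun i => le_rfl⟩
  refine ⟨γ, h1, h2, fun i => ?_⟩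
  have h0 : ∀ j, 0 ≤ (γ + Pi.single i 1 : σ → ℤ) j := by
    intro j
    have := h1.1 j
    simp only [Pi.add_apply, Pi.single_apply]
    split_ifs <;> omega
  rcases mem_UU_or_DD (I := I) h0 with h | h
  · exact h
  · exfalso
    have h3 := hmax (γ + Pi.single i 1) ⟨h, fun j => by
      have := h2 j
      simp only [Pi.add_apply, Pi.single_apply]
      split_ifs <;> omega⟩
    simp only [Pi.add_apply, Finset.sum_add_distrib] at h3
    have h4 : ∑ j, (Pi.single i (1 : ℤ) : σ → ℤ) j = 1 := by simp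
    omega

theorem mdl_ne_bot_of_socle {γ A : σ → ℤ} (hγ : γ ∈ DD I) (hs : ∀ i, γ + Pi.single i 1 ∈ UU I)
    (hA : A ∈ UU I) (hA' : ∀ i, A - Pi.single i 1 ∉ UU I) : Mdl I (γ - A) ≠ ⊥ := by
  classical
  intro hbot
  have hf : (fun δ => if δ = γ then (1 : k) else 0) ∈ Mdl I (γ - A) := by
    constructor
    · intro δ hδ
      have : δ = γ := by by_contra h; exact hδ (if_neg h)
      subst this
      refine ⟨hγ, ?_⟩
      rwa [sub_sub_cancel]
    · intro δ i h1 h2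
      simp only
      rw [if_neg, if_neg]
      · rintro rfl
        exact not_mem_DD (hs i) h2
      · rintro h
        apply hA' i
        have : A - Pi.single i 1 = δ - (γ - A) := by rw [← h]; abel
        rwa [this]
  rw [hbot, Submodule.mem_bot] at hf
  have := congrFun hf γ
  simp at this

end gen

variable {k : Type*} [Field k] {I : Ideal (MvPolynomial (Fin 3) k)}

theorem exists_piece (hI : IsMonomial I) (hfin : (DD I).Finite) {A q : Fin 3 → ℤ} (hA : A ∈ UU I)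
    (hA' : ∀ i, A - Pi.single i 1 ∉ UU I) (hq : q ∈ DD I) :
    ∃ γ ∈ DD I, (∀ i, q i ≤ γ i) ∧ tPiece I (γ - A) ≠ ⊥ := by
  obtain ⟨γ, h1, h2, h3⟩ := exists_socle hfin hq
  refine ⟨γ, h1, h2, ?_⟩
  rw [ne_eq, tPiece_eq_bot_iff hI]
  exact mdl_ne_bot_of_socle h1 h3 hA hA'

theorem not_le_of {γ β : Fin 3 → ℤ} (hγ : γ ∈ DD I) (hβ : β ∈ UU I) :
    γ 0 < β 0 ∨ γ 1 < β 1 ∨ γ 2 < β 2 := by
  by_contra h
  push Not at h
  refine not_mem_DD (UU_up hβ fun i => ?_) hγ
  fin_cases i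
  · exact h.1
  · exact h.2.1
  · exact h.2.2

theorem sub_single_not_mem {a b c : ℕ}
    (h0 : a = 0 ∨ e3 (a - 1) b c ∉ exps I) (h1 : b = 0 ∨ e3 a (b - 1) c ∉ exps I)
    (h2 : c = 0 ∨ e3 a b (c - 1) ∉ exps I) :
    ∀ i, vz (e3 a b c) - Pi.single i 1 ∉ UU I := by
  intro i h
  fin_cases i
  · have k0 := h.1 0
    have k1 := mem_UU_e3 h
    simp at k0 k1
    rcases h0 with h0 | h0
    · omega
    · exact h0 (by simpa using k1)
  · have k0 := h.1 1
    have k1 := mem_UU_e3 h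
    simp at k0 k1
    rcases h1 with h0 | h0
    · omega
    · exact h0 (by simpa using k1)
  · have k0 := h.1 2
    have k1 := mem_UU_e3 h
    simp at k0 k1
    rcases h2 with h0 | h0
    · omega
    · exact h0 (by simpa using k1)

theorem sigPiece_ne_bot {α : Fin 3 → ℤ} {N : Set (Fin 3)} (h : tPiece I α ≠ ⊥)
    (hN : ∀ i, α i < 0 ↔ i ∈ N) : sigPiece I N ≠ ⊥ := by
  intro hbot
  apply h
  rw [eq_bot_iff, ← hbot]
  exact le_iSup (fun α' : {α : Fin 3 → ℤ // ∀ i, α i < 0 ↔ i ∈ N} => tPiece I α'.1) ⟨α, hN⟩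

theorem main (hI : IsMonomial I) (hfin : (DD I).Finite)
    (a1 a2 b1 b3 c2 c3 : ℕ) (ha1 : 0 < a1) (ha2 : 0 < a2) (hb1 : 0 < b1) (hb3 : 0 < b3)
    (hc2 : 0 < c2) (hc3 : 0 < c3)
    (hA : e3 a1 a2 0 ∈ exps I ∧ e3 (a1 - 1) a2 0 ∉ exps I ∧ e3 a1 (a2 - 1) 0 ∉ exps I)
    (hB : e3 b1 0 b3 ∈ exps I ∧ e3 (b1 - 1) 0 b3 ∉ exps I ∧ e3 b1 0 (b3 - 1) ∉ exps I)
    (hC : e3 0 c2 c3 ∈ exps I ∧ e3 0 (c2 - 1) c3 ∉ exps I ∧ e3 0 c2 (c3 - 1) ∉ exps I)
    (hcase : (b1 ≤ a1 ∧ c2 ≤ a2) ∨ (a1 ≤ b1 ∧ c3 ≤ b3) ∨ (a2 ≤ c2 ∧ b3 ≤ c3)) :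
    sigPiece I ({0, 1} : Set (Fin 3)) ≠ ⊥ ∨ sigPiece I ({0, 2} : Set (Fin 3)) ≠ ⊥ ∨
      sigPiece I ({1, 2} : Set (Fin 3)) ≠ ⊥ := by
  obtain ⟨hA0, hA1, hA2⟩ := hA
  obtain ⟨hB0, hB1, hB2⟩ := hB
  obtain ⟨hC0, hC1, hC2⟩ := hC
  have UA := vz_mem_UU.2 hA0
  have UB := vz_mem_UU.2 hB0
  have UC := vz_mem_UU.2 hC0
  have MA := sub_single_not_mem (I := I) (Or.inr hA1) (Or.inr hA2) (Or.inl rfl)
  have MB := sub_single_not_mem (I := I) (Or.inr hB1) (Or.inl rfl) (Or.inr hB2)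
  have MC := sub_single_not_mem (I := I) (Or.inl rfl) (Or.inr hC1) (Or.inr hC2)
  rcases hcase with ⟨h1, h2⟩ | ⟨h1, h2⟩ | ⟨h1, h2⟩
  · left
    have : ∃ q ∈ DD I, ∀ γ ∈ DD I, (∀ i, q i ≤ γ i) → γ 0 < a1 ∧ γ 1 < a2 := by
      rcases le_or_gt c3 b3 with h | h
      · refine ⟨_, vz_mem_DD.2 hB1, fun γ hγ hq => ?_⟩
        have n1 := not_le_of hγ UB
        have n2 := not_le_of hγ UC
        have q0 := hq 0
        have q1 := hq 1
        have q2 := hq 2
        simp at n1 n2 q0 q1 q2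
        have g0 := hγ.1 0
        have g1 := hγ.1 1
        have g2 := hγ.1 2
        omega
      · refine ⟨_, vz_mem_DD.2 hC1, fun γ hγ hq => ?_⟩
        have n1 := not_le_of hγ UB
        have n2 := not_le_of hγ UC
        have q0 := hq 0
        have q1 := hq 1
        have q2 := hq 2
        simp at n1 n2 q0 q1 q2
        have g0 := hγ.1 0
        have g1 := hγ.1 1
        have g2 := hγ.1 2
        omega
    obtain ⟨q, hq, hall⟩ := this
    obtain ⟨γ, hγ, hqγ, hne⟩ := exists_piece hI hfin UA MA hq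
    have := hall γ hγ hqγ
    refine sigPiece_ne_bot hne fun i => ?_
    have g2 := hγ.1 2
    fin_cases i <;> simp <;> omega
  · right; left
    have : ∃ q ∈ DD I, ∀ γ ∈ DD I, (∀ i, q i ≤ γ i) → γ 0 < b1 ∧ γ 2 < b3 := by
      rcases le_or_gt c2 a2 with h | h
      · refine ⟨_, vz_mem_DD.2 hA1, fun γ hγ hq => ?_⟩
        have n1 := not_le_of hγ UA
        have n2 := not_le_of hγ UC
        have q0 := hq 0
        have q1 := hq 1
        have q2 := hq 2
        simp at n1 n2 q0 q1 q2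
        have g0 := hγ.1 0
        have g1 := hγ.1 1
        have g2 := hγ.1 2
        omega
      · refine ⟨_, vz_mem_DD.2 hC2, fun γ hγ hq => ?_⟩
        have n1 := not_le_of hγ UA
        have n2 := not_le_of hγ UC
        have q0 := hq 0
        have q1 := hq 1
        have q2 := hq 2
        simp at n1 n2 q0 q1 q2
        have g0 := hγ.1 0
        have g1 := hγ.1 1
        have g2 := hγ.1 2
        omega
    obtain ⟨q, hq, hall⟩ := this
    obtain ⟨γ, hγ, hqγ, hne⟩ := exists_piece hI hfin UB MB hq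
    have := hall γ hγ hqγ
    refine sigPiece_ne_bot hne fun i => ?_
    have g2 := hγ.1 1
    fin_cases i <;> simp <;> omega
  · right; right
    have : ∃ q ∈ DD I, ∀ γ ∈ DD I, (∀ i, q i ≤ γ i) → γ 1 < c2 ∧ γ 2 < c3 := by
      rcases le_or_gt b1 a1 with h | h
      · refine ⟨_, vz_mem_DD.2 hA2, fun γ hγ hq => ?_⟩
        have n1 := not_le_of hγ UA
        have n2 := not_le_of hγ UB
        have q0 := hq 0
        have q1 := hq 1
        have q2 := hq 2
        simp at n1 n2 q0 q1 q2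
        have g0 := hγ.1 0
        have g1 := hγ.1 1
        have g2 := hγ.1 2
        omega
      · refine ⟨_, vz_mem_DD.2 hB2, fun γ hγ hq => ?_⟩
        have n1 := not_le_of hγ UA
        have n2 := not_le_of hγ UB
        have q0 := hq 0
        have q1 := hq 1
        have q2 := hq 2
        simp at n1 n2 q0 q1 q2
        have g0 := hγ.1 0
        have g1 := hγ.1 1
        have g2 := hγ.1 2
        omega
    obtain ⟨q, hq, hall⟩ := this
    obtain ⟨γ, hγ, hqγ, hne⟩ := exists_piece hI hfin UC MC hq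
    have := hall γ hγ hqγ
    refine sigPiece_ne_bot hne fun i => ?_
    have g2 := hγ.1 0
    fin_cases i <;> simp <;> omega

end K777.Socle
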