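import Groth.Agent.W4c1hilbpn.K777.FatPoint
import Groth.Agent.W4c1hilbpn.K777.Sig
import Mathlib.Combinatorics.Enumerative.Composition
import Mathlib.Data.Finset.NatAntidiagonal

/-! Dimensions for powers of the irrelevant ideal in three variables. -/

set_option autoImplicit false
set_option linter.unusedSimpArgs false
set_option linter.unusedSectionVars false

namespace K777.Fat3

open MvPolynomial W4c1hilbpn K777.Basic K777.Model K777.Decomp K777.Colen K777.FatPoint K777.Sig

theorem sum_choose_two (r : ℕ) : ∑ u ∈ Finset.range r, (u + 2).choose 2 = (r + 2).choose 3 := by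
  induction r with
  | zero => rfl
  | succ r ih => rw [Finset.sum_range_succ, ih, add_comm, ← Nat.choose_succ_succ]

theorem sum_mul_choose (r : ℕ) :
    ∑ u ∈ Finset.range r, (r - u) * (u + 2).choose 2 = (r + 3).choose 4 := by
  induction r with
  | zero => rfl
  | succ r ih =>
    have h1 : ∑ u ∈ Finset.range (r + 1), (r + 1 - u) * (u + 2).choose 2 =
        ∑ u ∈ Finset.range r, (r - u) * (u + 2).choose 2 +
          ∑ u ∈ Finset.range (r + 1), (u + 2).choose 2 := by
      rw [Finset.sum_range_succ, Finset.sum_range_succ (fun u => (u + 2).choose 2), ← add_assoc,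
        ← Finset.sum_add_distrib]
      congr 1
      · refine Finset.sum_congr rfl fun u hu => ?_
        rw [Finset.mem_range] at hu
        have : r + 1 - u = (r - u) + 1 := by omega
        rw [this]; ring
      · have : r + 1 - r = 1 := by omega
        rw [this, one_mul]
    rw [h1, ih, sum_choose_two, add_comm]
    rw [show r + 1 + 3 = (r + 3) + 1 from by ring, Nat.choose_succ_succ (r + 3) 3]

theorem sum_mul_choose' (r : ℕ) :
    ∑ s ∈ Finset.range r, (s + 1) * (r - s + 1).choose 2 = (r + 3).choose 4 := by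
  rw [← sum_mul_choose, ← Finset.sum_range_reflect]
  refine Finset.sum_congr rfl fun s hs => ?_
  rw [Finset.mem_range] at hs
  have h1 : r - 1 - s + 1 = r - s := by omega
  have h2 : r - (r - 1 - s) + 1 = s + 2 := by omega
  rw [h1, h2]

theorem sum_choose_two' (r : ℕ) :
    ∑ s ∈ Finset.range r, (r - s + 1).choose 2 = (r + 2).choose 3 := by
  rw [← sum_choose_two, ← Finset.sum_range_reflect]
  refine Finset.sum_congr rfl fun s hs => ?_
  rw [Finset.mem_range] at hs
  have h2 : r - (r - 1 - s) + 1 = s + 2 := by omega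
  rw [h2]

variable {k : Type*} [Field k]

/-- parametrisation of degrees -/
def vv (l : Fin 3) (a b : ℕ) : Fin 3 → ℤ :=
  fun i => if i = l then -1 - a - b else if i = l + 1 then a else b

theorem finrank_sig_fat (r : ℕ) (l : Fin 3) :
    Module.finrank k ↥(sigPiece (mr (Fin 3) k r) {l}) = (r + 3).choose 4 := by
  classical
  have hN : ∀ i, (Finsupp.single i r : Fin 3 →₀ ℕ) ∈ exps (mr (Fin 3) k r) := by
    intro i
    rw [mem_exps_mr]
    simp [Finsupp.single_apply]
  rw [finrank_sig (isMonomial_mr r) (finite_DD_mr r) hN]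
  have hc : 2 ≤ Fintype.card (Fin 3) := by simp
  simp only [finrank_mdl hc, Fintype.card_fin]
  rw [← Finset.sum_filter, ← sum_mul_choose' r]
  have h1 : ∀ s ∈ Finset.range r, (s + 1) * (r - s + 1).choose 2 =
      ∑ p ∈ Finset.antidiagonal s, (r - s + 1).choose 2 := by
    intro s _
    rw [Finset.sum_const, Finset.Nat.card_antidiagonal, smul_eq_mul]
  rw [Finset.sum_congr rfl h1, ← Finset.sum_sigma (Finset.range r) (fun s => Finset.antidiagonal s)
    (fun x => (r - x.1 + 1).choose 2)]
  refine Finset.sum_nbij' (i := fun α : Fin 3 → ℤ =>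
      (⟨(α (l + 1)).toNat + (α (l + 2)).toNat, ((α (l + 1)).toNat, (α (l + 2)).toNat)⟩ :
        (_ : ℕ) × (ℕ × ℕ)))
    (j := fun x => vv l x.2.1 x.2.2) ?_ ?_ ?_ ?_ ?_
  · intro α hα
    simp only [Finset.mem_filter, mem_box, forall_fin3, Fin.sum_univ_three,
      Set.mem_singleton_iff] at hα
    simp only [Finset.mem_sigma, Finset.mem_range, Finset.mem_antidiagonal, and_true]
    fin_cases l <;> simp at hα ⊢ <;> omega
  · rintro ⟨s, a, b⟩ hx
    simp only [Finset.mem_sigma, Finset.mem_range, Finset.mem_antidiagonal] at hx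
    simp only [Finset.mem_filter, mem_box, forall_fin3, Fin.sum_univ_three,
      Set.mem_singleton_iff, vv]
    fin_cases l <;> simp <;> omega
  · intro α hα
    simp only [Finset.mem_filter, mem_box, forall_fin3, Fin.sum_univ_three,
      Set.mem_singleton_iff] at hα
    fin_cases l <;> simp at hα ⊢ <;> apply K777.Stair.vec3_ext <;> simp [vv] <;> omega
  · rintro ⟨s, a, b⟩ hx
    simp only [Finset.mem_sigma, Finset.mem_range, Finset.mem_antidiagonal] at hx
    obtain ⟨hx1, rfl⟩ := hx
    fin_cases l <;> simp [vv]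
  · intro α hα
    simp only [Finset.mem_filter, mem_box, forall_fin3, Fin.sum_univ_three,
      Set.mem_singleton_iff] at hα
    rw [Fin.sum_univ_three]
    congr 1
    fin_cases l <;> simp at hα ⊢ <;> omega

theorem colength_fat (r : ℕ) : (DD (mr (Fin 3) k r)).ncard = (r + 2).choose 3 := by
  classical
  rw [← sum_choose_two]
  have h1 : ∀ s ∈ Finset.range r, (s + 2).choose 2 =
      ((Finset.univ : Finset (Fin 3)).finsuppAntidiag s).card := by
    intro s _
    rw [Finset.card_finsuppAntidiag_nat_eq_choose, Finset.card_univ, Fintype.card_fin]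
    rw [← Nat.choose_symm (show s ≤ 3 + s - 1 by omega)]
    congr 1 <;> omega
  rw [Finset.sum_congr rfl h1, ← Finset.card_biUnion]
  · have h2 : DD (mr (Fin 3) k r) = vz ''
        (((Finset.range r).biUnion fun s => (Finset.univ : Finset (Fin 3)).finsuppAntidiag s :
          Finset (Fin 3 →₀ ℕ)) : Set (Fin 3 →₀ ℕ)) := by
      ext γ
      rw [mem_DD_mr]
      simp only [Set.mem_image, Finset.mem_coe, Finset.mem_biUnion, Finset.mem_range,
        Finset.mem_finsuppAntidiag]
      constructor
      · rintro ⟨h3, h4⟩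
        refine ⟨vn γ, ⟨∑ i, vn γ i, ?_, rfl, Finset.subset_univ _⟩, vz_vn h3⟩
        rw [← sum_vn h3] at h4
        exact_mod_cast h4
      · rintro ⟨β, ⟨s, hs, h4, _⟩, rfl⟩
        refine ⟨vz_nonneg β, ?_⟩
        have h5 : ∑ i, vz β i = ((∑ i, β i : ℕ) : ℤ) := by push_cast; rfl
        have h6 : ∑ i, β i = s := h4
        rw [h5, h6]
        exact_mod_cast hs
    rw [h2, vz_injective.injOn.ncard_image, Set.ncard_coe_finset]
  · intro s _ t _ hst
    rw [Function.onFun, Finset.disjoint_left]
    intro β h3 h4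
    rw [Finset.mem_finsuppAntidiag] at h3 h4
    exact hst (h3.1.symm.trans h4.1)

theorem finrank_sig_fat_compl (r : ℕ) (l : Fin 3) :
    Module.finrank k ↥(sigPiece (mr (Fin 3) k r) ({l}ᶜ : Set (Fin 3))) = (r + 2).choose 4 := by
  have h1 := finrank_sigPiece_singleton (k := k) (isMonomial_mr r) (finite_DD_mr r) l
  have h2 : (r + 3).choose 4 = (r + 2).choose 3 + (r + 2).choose 4 := Nat.choose_succ_succ (r + 2) 3
  rw [finrank_sig_fat, colength_fat] at h1
  omega

theorem choose_identity (r : ℕ) :
    3 * ((r + 3).choose 4 + (r + 2).choose 4) = (r + 2).choose 2 * (r + 1).choose 2 := by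
  rcases r with _ | r
  · rfl
  have h1 := Nat.descFactorial_eq_factorial_mul_choose (r + 1 + 3) 4
  have h2 := Nat.descFactorial_eq_factorial_mul_choose (r + 1 + 2) 4
  have h3 := Nat.descFactorial_eq_factorial_mul_choose (r + 1 + 2) 2
  have h4 := Nat.descFactorial_eq_factorial_mul_choose (r + 1 + 1) 2
  simp only [Nat.descFactorial_succ, Nat.descFactorial_zero, Nat.factorial, Nat.succ_eq_add_one,
    mul_one, Nat.reduceMul, Nat.reduceAdd] at h1 h2 h3 h4
  have e1 : r + 1 + 3 - 3 = r + 1 := by omega
  have e2 : r + 1 + 3 - 2 = r + 2 := by omega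
  have e3 : r + 1 + 3 - 1 = r + 3 := by omega
  have e4 : r + 1 + 3 - 0 = r + 4 := by omega
  have e5 : r + 1 + 2 - 3 = r := by omega
  have e6 : r + 1 + 2 - 2 = r + 1 := by omega
  have e7 : r + 1 + 2 - 1 = r + 2 := by omega
  have e8 : r + 1 + 2 - 0 = r + 3 := by omega
  have e9 : r + 1 + 1 - 1 = r + 1 := by omega
  have e10 : r + 1 + 1 - 0 = r + 2 := by omega
  simp only [e1, e2, e3, e4, e5, e6, e7, e8, e9, e10] at h1 h2 h3 h4
  set a := (r + 1 + 3).choose 4
  set b := (r + 1 + 2).choose 4
  set c := (r + 1 + 2).choose 2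
  set d := (r + 1 + 1).choose 2
  have h5 : 4 * (c * d) = (r + 2) * (r + 3) * ((r + 1) * (r + 2)) := by
    have : 4 * (c * d) = (2 * c) * (2 * d) := by ring
    rw [this, ← h3, ← h4]
  have h6 : 24 * (3 * (a + b)) = 24 * (c * d) := by
    have : 24 * (3 * (a + b)) = 3 * (24 * a) + 3 * (24 * b) := by ring
    rw [this, ← h1, ← h2, show 24 * (c * d) = 6 * (4 * (c * d)) by ring, h5]
    ring_nf
  omega

theorem finrank_Tgt_fat (r : ℕ) :
    Module.finrank k (Tgt (mr (Fin 3) k r)) = (r + 2).choose 2 * (r + 1).choose 2 := by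
  rw [finrank_total (isMonomial_mr r) (finite_DD_mr r)]
  simp only [finrank_sig_fat, finrank_sig_fat_compl]
  rw [Finset.sum_const, Finset.card_univ, Fintype.card_fin, smul_eq_mul, choose_identity]

end K777.Fat3
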