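import Groth.Agent.W4c1hilbpn.K777.Bound2
import Groth.Agent.W4c1hilbpn.K777.Fat3
import Groth.Agent.W4c1hilbpn.K777.Socle

/-! Consequences of the bounds. -/

set_option autoImplicit false
set_option linter.unusedSimpArgs false
set_option linter.unusedSectionVars false

namespace K777.Final1

open MvPolynomial W4c1hilbpn K777.Basic K777.Model K777.Decomp K777.Colen K777.Bound K777.Stair
open K777.Sig K777.Bound2 K777.FatPoint K777.Fat3

theorem choose_id2 (r : ℕ) :
    2 * ((r + 2).choose 2 * (r + 1).choose 2) = 3 * (r + 1) * (r + 2).choose 3 := by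
  rcases r with _ | r
  · rfl
  have h1 := Nat.descFactorial_eq_factorial_mul_choose (r + 1 + 2) 3
  have h3 := Nat.descFactorial_eq_factorial_mul_choose (r + 1 + 2) 2
  have h4 := Nat.descFactorial_eq_factorial_mul_choose (r + 1 + 1) 2
  simp only [Nat.descFactorial_succ, Nat.descFactorial_zero, Nat.factorial, Nat.succ_eq_add_one,
    mul_one, Nat.reduceMul, Nat.reduceAdd] at h1 h3 h4
  have e6 : r + 1 + 2 - 2 = r + 1 := by omega
  have e7 : r + 1 + 2 - 1 = r + 2 := by omega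
  have e8 : r + 1 + 2 - 0 = r + 3 := by omega
  have e9 : r + 1 + 1 - 1 = r + 1 := by omega
  have e10 : r + 1 + 1 - 0 = r + 2 := by omega
  simp only [e6, e7, e8, e9, e10] at h1 h3 h4
  set a := (r + 1 + 2).choose 3
  set c := (r + 1 + 2).choose 2
  set d := (r + 1 + 1).choose 2
  have h5 : 4 * (c * d) = (r + 2) * (r + 3) * ((r + 1) * (r + 2)) := by
    have : 4 * (c * d) = (2 * c) * (2 * d) := by ring
    rw [this, ← h3, ← h4]
  have h6 : 12 * (2 * (c * d)) = 12 * (3 * (r + 1 + 1) * a) := by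
    have : 12 * (3 * (r + 1 + 1) * a) = 6 * (r + 2) * (6 * a) := by ring
    rw [this, ← h1, show 12 * (2 * (c * d)) = 6 * (4 * (c * d)) by ring, h5]
    ring
  omega

variable {k : Type*} [Field k] {I : Ideal (MvPolynomial (Fin 3) k)}

theorem X_pow_mem_iff (p : ℕ) (i : Fin 3) :
    (X i : MvPolynomial (Fin 3) k) ^ p ∈ I ↔ (Finsupp.single i p : Fin 3 →₀ ℕ) ∈ exps I := by
  rw [X_pow_eq_monomial]; rfl

/-- the `4/3` bound for monomial ideals containing `x^r` -/
theorem three_mul_le {r : ℕ} (hI : IsMonomial I) (hfin : (DD I).Finite)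
    (hd : (DD I).ncard ≤ (r + 2).choose 3) (hx : (Finsupp.single 0 r : Fin 3 →₀ ℕ) ∈ exps I) :
    3 * Module.finrank k (Tgt I) ≤ 4 * Module.finrank k (Tgt (mr (Fin 3) k r)) := by
  have h1 := finrank_Tgt_le hI hfin hx
  rw [finrank_Tgt_fat]
  have h2 := choose_id2 r
  have h3 : (2 * r + 1) * (DD I).ncard ≤ (2 * r + 1) * (r + 2).choose 3 :=
    Nat.mul_le_mul_left _ hd
  nlinarith [Nat.zero_le ((r + 2).choose 3)]

theorem le_of_pow_mem {r p : ℕ} (hp : 4 * p ≤ 3 * r + 1) (hI : IsMonomial I)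
    (hfin : (DD I).Finite)
    (hd : (DD I).ncard ≤ (r + 2).choose 3) (hx : (Finsupp.single 0 p : Fin 3 →₀ ℕ) ∈ exps I) :
    Module.finrank k (Tgt I) ≤ Module.finrank k (Tgt (mr (Fin 3) k r)) := by
  have h1 := finrank_Tgt_le hI hfin hx
  rw [finrank_Tgt_fat]
  have h2 := choose_id2 r
  have h3 : (2 * p + 1) * (DD I).ncard ≤ (2 * p + 1) * (r + 2).choose 3 :=
    Nat.mul_le_mul_left _ hd
  have h4 : 2 * ((2 * p + 1) * (r + 2).choose 3) ≤ 3 * (r + 1) * (r + 2).choose 3 := by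
    rw [← mul_assoc]
    exact Nat.mul_le_mul_right _ (by omega)
  omega

theorem finite_Tgt (hI : IsMonomial I) (hfin : (DD I).Finite) : Module.Finite k (Tgt I) := by
  obtain ⟨N, hN⟩ := exists_bound hfin
  have h1 : (⊤ : Submodule k (Tgt I)) ≤ ⨆ α ∈ (box (Fin 3) N), tPiece I α := by
    rw [← iSup_tPiece_top hI hfin]
    refine iSup_le fun α => ?_
    by_cases h0 : tPiece I α = ⊥
    · rw [h0]; exact bot_le
    · exact le_biSup (fun α => tPiece I α)
        (mem_box_of_ne_bot hN (fun h' => h0 ((tPiece_eq_bot_iff hI α).2 h')))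
  have h2 := (finrank_biSup_of_indep _ (iSupIndep_tPiece hI) (box (Fin 3) N)
    (fun α _ => finite_tPiece hI hfin α)).1
  have h3 : Module.Finite k ↥(⊤ : Submodule k (Tgt I)) := Submodule.finiteDimensional_of_le h1
  exact Module.Finite.equiv (Submodule.topEquiv (R := k) (M := Tgt I))

theorem sigPiece_bot_of_X_mem (hI : IsMonomial I) (hfin : (DD I).Finite)
    (hx : (Finsupp.single 0 1 : Fin 3 →₀ ℕ) ∈ exps I) (l : Fin 3) :
    sigPiece I ({l}ᶜ : Set (Fin 3)) = ⊥ := by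
  have h1 := finrank_Tgt_le hI hfin hx
  rw [finrank_total hI hfin, Fin.sum_univ_three] at h1
  have g0 := finrank_sigPiece_singleton hI hfin 0
  have g1 := finrank_sigPiece_singleton hI hfin 1
  have g2 := finrank_sigPiece_singleton hI hfin 2
  have h2 : Module.finrank k ↥(sigPiece I ({l}ᶜ : Set (Fin 3))) = 0 := by
    fin_cases l
    · show Module.finrank k ↥(sigPiece I ({0}ᶜ : Set (Fin 3))) = 0
      omega
    · show Module.finrank k ↥(sigPiece I ({1}ᶜ : Set (Fin 3))) = 0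
      omega
    · show Module.finrank k ↥(sigPiece I ({2}ᶜ : Set (Fin 3))) = 0
      omega
  have h3 := finite_Tgt hI hfin
  exact Submodule.finrank_eq_zero.1 h2

theorem pair_bot_iff_of_X_mem (hI : IsMonomial I) (hfin : (DD I).Finite)
    (hx : (Finsupp.single 0 1 : Fin 3 →₀ ℕ) ∈ exps I) :
    (sigPiece I ({1, 2} : Set (Fin 3)) = ⊥ ∧ sigPiece I ({0, 2} : Set (Fin 3)) = ⊥ ∧
        sigPiece I ({0, 1} : Set (Fin 3)) = ⊥) := by
  have e0 : ({1, 2} : Set (Fin 3)) = {0}ᶜ := by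
    ext i; fin_cases i <;> simp
  have e1 : ({0, 2} : Set (Fin 3)) = {1}ᶜ := by
    ext i; fin_cases i <;> simp
  have e2 : ({0, 1} : Set (Fin 3)) = {2}ᶜ := by
    ext i; fin_cases i <;> simp
  rw [e0, e1, e2]
  exact ⟨sigPiece_bot_of_X_mem hI hfin hx 0, sigPiece_bot_of_X_mem hI hfin hx 1,
    sigPiece_bot_of_X_mem hI hfin hx 2⟩

/-- three generators of a strongly stable ideal not containing `x` -/
theorem not_all_bot (hI : IsStronglyStable I) (hfin : (DD I).Finite)
    (hx : (Finsupp.single 0 1 : Fin 3 →₀ ℕ) ∉ exps I) :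
    sigPiece I ({0, 1} : Set (Fin 3)) ≠ ⊥ ∨ sigPiece I ({0, 2} : Set (Fin 3)) ≠ ⊥ ∨
      sigPiece I ({1, 2} : Set (Fin 3)) ≠ ⊥ := by
  classical
  have hs0 : ∀ n, (Finsupp.single 0 n : Fin 3 →₀ ℕ) = e3 n 0 0 := fun n => e3_ext (by simp) (by simp) (by simp)
  have hs1 : ∀ n, (Finsupp.single 1 n : Fin 3 →₀ ℕ) = e3 0 n 0 := fun n => e3_ext (by simp) (by simp) (by simp)
  have hs2 : ∀ n, (Finsupp.single 2 n : Fin 3 →₀ ℕ) = e3 0 0 n := fun n => e3_ext (by simp) (by simp) (by simp)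
  obtain ⟨N, hN⟩ := exists_bound hfin
  rw [hs0] at hx
  have hN1 := hN 1
  have hN2 := hN 2
  rw [hs1] at hN1
  rw [hs2] at hN2
  -- strong stability moves
  have mv01 : ∀ a b c, e3 a (b + 1) c ∈ exps I → e3 (a + 1) b c ∈ exps I := by
    intro a b c h
    have h1 := hI.2 _ h 0 1 (by decide) (by simp)
    convert h1 using 1
    symm; apply e3_ext <;> simp
  have mv02 : ∀ a b c, e3 a b (c + 1) ∈ exps I → e3 (a + 1) b c ∈ exps I := by
    intro a b c h
    have h1 := hI.2 _ h 0 2 (by decide) (by simp)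
    convert h1 using 1
    symm; apply e3_ext <;> simp
  have mv12 : ∀ a b c, e3 a b (c + 1) ∈ exps I → e3 a (b + 1) c ∈ exps I := by
    intro a b c h
    have h1 := hI.2 _ h 1 2 (by decide) (by simp)
    convert h1 using 1
    symm; apply e3_ext <;> simp
  have hy : e3 0 1 0 ∉ exps I := fun h => hx (mv01 0 0 0 h)
  have hz : e3 0 0 1 ∉ exps I := fun h => hx (mv02 0 0 0 h)
  have h1 : e3 0 0 0 ∉ exps I := fun h => hx (exps_of_le h (e3_le (by omega) le_rfl le_rfl))
  -- `c` minimal with `z^c ∈ I`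
  have hexz : ∃ c, e3 0 0 c ∈ exps I := ⟨N, hN2⟩
  have hexy : ∃ c, e3 0 c 0 ∈ exps I := ⟨N, hN1⟩
  set c := Nat.find hexz with hc
  have hc1 : e3 0 0 c ∈ exps I := Nat.find_spec hexz
  have hc2 : 2 ≤ c := by
    by_contra hcon
    have : c = 0 ∨ c = 1 := by omega
    rcases this with h | h
    · rw [h] at hc1; exact h1 hc1
    · rw [h] at hc1; exact hz hc1
  set e := Nat.find hexy with he
  have he1 : e3 0 e 0 ∈ exps I := Nat.find_spec hexy
  have he2 : 2 ≤ e := by
    by_contra hcon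
    have : e = 0 ∨ e = 1 := by omega
    rcases this with h | h
    · rw [h] at he1; exact h1 he1
    · rw [h] at he1; exact hy he1
  -- C = (0,1,c3)
  have hC' : e3 0 1 (c - 1) ∈ exps I := by
    apply mv12
    rwa [Nat.sub_add_cancel (by omega)]
  have hexC : ∃ t, e3 0 1 t ∈ exps I := ⟨_, hC'⟩
  set c3 := Nat.find hexC with hc3
  have hC0 : e3 0 1 c3 ∈ exps I := Nat.find_spec hexC
  have hc3le : c3 ≤ c - 1 := Nat.find_min' hexC hC'
  have hc3pos : 0 < c3 := by
    rcases Nat.eq_zero_or_pos c3 with h | h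
    · rw [h] at hC0; exact absurd hC0 hy
    · exact h
  have hC1 : e3 0 (1 - 1) c3 ∉ exps I := fun h => by
    have := Nat.find_min' hexz h; omega
  have hC2 : e3 0 1 (c3 - 1) ∉ exps I := fun h => by
    have := Nat.find_min' hexC h; omega
  -- B = (1,0,b3)
  have hB' : e3 1 0 c3 ∈ exps I := mv01 0 0 c3 hC0
  have hexB : ∃ t, e3 1 0 t ∈ exps I := ⟨_, hB'⟩
  set b3 := Nat.find hexB with hb3
  have hB0 : e3 1 0 b3 ∈ exps I := Nat.find_spec hexB
  have hb3le : b3 ≤ c3 := Nat.find_min' hexB hB'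
  have hb3pos : 0 < b3 := by
    rcases Nat.eq_zero_or_pos b3 with h | h
    · rw [h] at hB0; exact absurd hB0 hx
    · exact h
  have hB1 : e3 (1 - 1) 0 b3 ∉ exps I := fun h => by
    have := Nat.find_min' hexz h; omega
  have hB2 : e3 1 0 (b3 - 1) ∉ exps I := fun h => by
    have := Nat.find_min' hexB h; omega
  -- A = (1,a2,0)
  have hA' : e3 1 (e - 1) 0 ∈ exps I := by
    apply mv01
    rwa [Nat.sub_add_cancel (by omega)]
  have hexA : ∃ t, e3 1 t 0 ∈ exps I := ⟨_, hA'⟩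
  set a2 := Nat.find hexA with ha2
  have hA0 : e3 1 a2 0 ∈ exps I := Nat.find_spec hexA
  have ha2le : a2 ≤ e - 1 := Nat.find_min' hexA hA'
  have ha2pos : 0 < a2 := by
    rcases Nat.eq_zero_or_pos a2 with h | h
    · rw [h] at hA0; exact absurd hA0 hx
    · exact h
  have hA1 : e3 (1 - 1) a2 0 ∉ exps I := fun h => by
    have := Nat.find_min' hexy h; omega
  have hA2 : e3 1 (a2 - 1) 0 ∉ exps I := fun h => by
    have := Nat.find_min' hexA h; omega
  exact K777.Socle.main hI.1 hfin 1 a2 1 b3 1 c3 one_pos ha2pos one_pos hb3pos one_pos hc3pos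
    ⟨hA0, hA1, hA2⟩ ⟨hB0, hB1, hB2⟩ ⟨hC0, hC1, hC2⟩ (Or.inl ⟨le_rfl, ha2pos⟩)

end K777.Final1
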