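import Groth.Agent.W4c1hilbpn.K777.Bound
import Mathlib.Data.Fin.VecNotation
import Mathlib.Tactic.FinCases
import Mathlib.Order.Interval.Finset.Nat

/-! Three variables: staircase numbers and lattice points. -/

set_option autoImplicit false
set_option linter.unusedSimpArgs false
set_option linter.unusedSectionVars false

namespace K777.Stair

open MvPolynomial W4c1hilbpn K777.Basic K777.Model K777.Decomp K777.Colen K777.Bound

variable {k : Type*} [Field k] {I : Ideal (MvPolynomial (Fin 3) k)}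

@[simp] theorem e3_zero (a b c : ℕ) : e3 a b c 0 = a := rfl
@[simp] theorem e3_one (a b c : ℕ) : e3 a b c 1 = b := rfl
@[simp] theorem e3_two (a b c : ℕ) : e3 a b c 2 = c := rfl

theorem vec3_ext {V : Type*} {f g : Fin 3 → V} (h0 : f 0 = g 0) (h1 : f 1 = g 1) (h2 : f 2 = g 2) :
    f = g := by
  ext i; fin_cases i
  · exact h0
  · exact h1
  · exact h2

theorem e3_ext {β : Fin 3 →₀ ℕ} {a b c : ℕ} (h0 : β 0 = a) (h1 : β 1 = b) (h2 : β 2 = c) :
    β = e3 a b c := by
  apply DFunLike.coe_injective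
  exact vec3_ext h0 h1 h2

theorem mem_down_iff {s : Set ℕ} (hfin : s.Finite) (hdown : ∀ m n, m ≤ n → n ∈ s → m ∈ s) (c : ℕ) :
    c ∈ s ↔ c < Nat.card ↥s := by
  have hex : ∃ n, n ∉ s := by
    by_contra hcon
    push Not at hcon
    exact Set.infinite_univ (hfin.subset (fun n _ => hcon n) : (Set.univ : Set ℕ).Finite)
  classical
  have h1 : s = Set.Iio (Nat.find hex) := by
    ext n
    constructor
    · intro hn
      by_contra h
      exact Nat.find_spec hex (hdown _ _ (not_lt.1 h) hn)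
    · intro hn
      by_contra h
      exact absurd (Nat.find_min' hex h) (not_le.2 hn)
  rw [h1]
  simp

theorem finite_line (hI : IsMonomial I) [Module.Finite k (MvPolynomial (Fin 3) k ⧸ I)]
    (g : ℕ → (Fin 3 →₀ ℕ)) (hg : Function.Injective g) : {c : ℕ | g c ∉ exps I}.Finite := by
  have := finite_compl hI
  have h2 : Finite ↥{c : ℕ | g c ∉ exps I} := by
    refine Finite.of_injective (β := {γ : Fin 3 →₀ ℕ // γ ∉ exps I}) (fun c => ⟨g c.1, c.2⟩) ?_
    intro a b h
    exact Subtype.ext (hg (congrArg Subtype.val h))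
  exact Set.toFinite _

theorem e3_le {a b c a' b' c' : ℕ} (h0 : a ≤ a') (h1 : b ≤ b') (h2 : c ≤ c') :
    e3 a b c ≤ e3 a' b' c' := by
  intro i; fin_cases i
  · exact h0
  · exact h1
  · exact h2

theorem lt_stairZ_iff (hI : IsMonomial I) [Module.Finite k (MvPolynomial (Fin 3) k ⧸ I)]
    (a b c : ℕ) : c < stairZ I a b ↔ e3 a b c ∉ exps I := by
  rw [stairZ]
  exact (mem_down_iff (finite_line hI (fun c => e3 a b c) (fun c c' h => by
    have := DFunLike.congr_fun h 2; simpa using this))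
    (fun m n hmn hn hm => hn (exps_of_le hm (e3_le le_rfl le_rfl hmn))) c).symm

theorem lt_stairY_iff (hI : IsMonomial I) [Module.Finite k (MvPolynomial (Fin 3) k ⧸ I)]
    (a b c : ℕ) : b < stairY I a c ↔ e3 a b c ∉ exps I := by
  rw [stairY]
  exact (mem_down_iff (finite_line hI (fun b => e3 a b c) (fun c c' h => by
    have := DFunLike.congr_fun h 1; simpa using this))
    (fun m n hmn hn hm => hn (exps_of_le hm (e3_le le_rfl hmn le_rfl))) b).symm

theorem vz_e3 (a b c : ℕ) : vz (e3 a b c) = ![(a : ℤ), b, c] := by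
  apply vec3_ext <;> rfl

theorem vn_eq_e3 (γ : Fin 3 → ℤ) : vn γ = e3 (γ 0).toNat (γ 1).toNat (γ 2).toNat :=
  e3_ext rfl rfl rfl

theorem mem_DD_e3 {γ : Fin 3 → ℤ} (h : γ ∈ DD I) :
    e3 (γ 0).toNat (γ 1).toNat (γ 2).toNat ∉ exps I := by
  rw [← vn_eq_e3]; exact h.2

theorem mem_UU_e3 {γ : Fin 3 → ℤ} (h : γ ∈ UU I) :
    e3 (γ 0).toNat (γ 1).toNat (γ 2).toNat ∈ exps I := by
  rw [← vn_eq_e3]; exact h.2

end K777.Stair
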