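import Groth.Agent.W4c1hilbpn.K777.Tail

/-! Strongly stable ideals of the colength of a fat point. -/

set_option autoImplicit false
set_option linter.unusedSimpArgs false
set_option linter.unusedSectionVars false

namespace K777.Final2

open MvPolynomial W4c1hilbpn K777.Basic K777.Model K777.Decomp K777.Colen K777.Bound K777.Stair
open K777.Sig K777.Bound2 K777.FatPoint K777.Fat3 K777.Slice K777.Tail

variable {k : Type*} [Field k] {I : Ideal (MvPolynomial (Fin 3) k)}

theorem double_sum (r : ℕ) (g : ℕ → ℕ) :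
    ∑ j ∈ Finset.range r, ∑ i ∈ Finset.Ico j r, g i = ∑ i ∈ Finset.range r, (i + 1) * g i := by
  rw [Finset.sum_comm' (s' := fun i => Finset.range (i + 1)) (t' := Finset.range r)]
  · simp
  · intro j i
    simp only [Finset.mem_range, Finset.mem_Ico]
    omega

theorem singleton_le (hI : IsStronglyStable I) [Module.Finite k (MvPolynomial (Fin 3) k ⧸ I)]
    {r : ℕ} (hd : (DD I).ncard ≤ (r + 2).choose 3) (l m : Fin 3)
    (hl : l ≠ 0) (hm : m ≠ 0) (hlm : l ≠ m) :
    Module.finrank k ↥(sigPiece I {l}) ≤ (r + 3).choose 4 ∧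
      (Module.finrank k ↥(sigPiece I {l}) = (r + 3).choose 4 ↔ I = mr (Fin 3) k r) := by
  have hfin := finite_DD hI.1
  have hr := X_pow_mem hI hfin hd
  have h1 := finrank_singleton_le hI.1 hfin l m hl hm hlm
  rw [sum_DD hfin hr (fun i => i + 1), ← double_sum] at h1
  have h2 : ∀ j ∈ Finset.range r, ∑ i ∈ Finset.Ico j r, Dn I i ≤
      ∑ i ∈ Finset.Ico j r, (r - i + 1).choose 2 :=
    fun j hj => tail_le hI hd j (Finset.mem_range.1 hj).le
  have h3 := Finset.sum_le_sum h2
  have h4 := double_sum r (fun i => (r - i + 1).choose 2)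
  rw [sum_mul_choose'] at h4
  refine ⟨by omega, ?_, ?_⟩
  · intro heq
    have h5 : ∑ j ∈ Finset.range r, ∑ i ∈ Finset.Ico j r, Dn I i =
        ∑ j ∈ Finset.range r, ∑ i ∈ Finset.Ico j r, (r - i + 1).choose 2 := by omega
    have h6 := (Finset.sum_eq_sum_iff_of_le h2).1 h5
    exact eq_of_tails hI hd fun j hj => h6 j (Finset.mem_range.2 hj)
  · intro heq
    have h7 := finrank_sig_fat (k := k) r l
    rw [← heq] at h7
    exact h7

theorem compl_le (hI : IsStronglyStable I) [Module.Finite k (MvPolynomial (Fin 3) k ⧸ I)]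
    {r : ℕ} (hd : (DD I).ncard = (r + 2).choose 3) (l m : Fin 3)
    (hl : l ≠ 0) (hm : m ≠ 0) (hlm : l ≠ m) :
    Module.finrank k ↥(sigPiece I ({l}ᶜ : Set (Fin 3))) ≤ (r + 2).choose 4 ∧
      (Module.finrank k ↥(sigPiece I ({l}ᶜ : Set (Fin 3))) = (r + 2).choose 4 ↔
        I = mr (Fin 3) k r) := by
  have hfin := finite_DD hI.1
  obtain ⟨h1, h2⟩ := singleton_le hI hd.le l m hl hm hlm
  have h3 := finrank_sigPiece_singleton hI.1 hfin l
  have h4 : (r + 3).choose 4 = (r + 2).choose 3 + (r + 2).choose 4 := Nat.choose_succ_succ (r + 2) 3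
  refine ⟨by omega, ?_⟩
  rw [← h2]
  omega

end K777.Final2
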