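import Groth.Agent.W4c1hilbpn.K777.HilbB
import Groth.Agent.CalgA.RegBasic
import Groth.Agent.CalgA.RegSerre
import Mathlib.RingTheory.HopkinsLevitzki
import Mathlib.RingTheory.Ideal.KrullsHeightTheorem
import Mathlib.RingTheory.LocalRing.Module
import Mathlib.LinearAlgebra.Dimension.Localization

set_option autoImplicit false
set_option linter.unusedSimpArgs false
set_option linter.unusedSectionVars false
set_option linter.unusedVariables false

universe u

namespace K777.RegTwo

open IsLocalRing K777.GorDual K777.HilbB Matrix Pointwise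
open Groth.Agent.CalgA Groth.Agent.CalgA.RegProjDim

theorem exists_params (R : Type u) [CommRing R] [IsRegularLocalRing R] (hdim : ringKrullDim R = 2) :
    ∃ s t : R, maximalIdeal R = Ideal.span {s, t} ∧ s ≠ 0 ∧ ∀ a, s ∣ t * a → s ∣ a := by
  have hdom : IsDomain R := RegBasic.isDomain R
  have h1 : ((maximalIdeal R).spanFinrank : WithBot ℕ∞) = 2 := by
    rw [IsRegularLocalRing.spanFinrank_maximalIdeal, hdim]
  have h2 : (maximalIdeal R).spanFinrank = 2 := by exact_mod_cast h1
  have hfg : (maximalIdeal R).FG := IsNoetherian.noetherian _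
  obtain ⟨S, hS1, hS2⟩ := Submodule.FG.exists_span_set_encard_eq_spanFinrank hfg
  rw [h2] at hS1
  obtain ⟨s, t, hst, rfl⟩ := Set.encard_eq_two.1 hS1
  have hreg : RingTheory.Sequence.IsRegular R [s, t] := by
    refine RegBasic.isRegular_of_ofList_eq 2 R [s, t] (by simp) (by rw [hdim]; rfl) ?_
    rw [← hS2, Ideal.ofList]
    show Ideal.span _ = Ideal.span _
    congr 1
    ext y
    simp
  rw [RingTheory.Sequence.isRegular_cons_iff] at hreg
  obtain ⟨hs, hreg⟩ := hreg
  rw [RingTheory.Sequence.isRegular_cons_iff] at hreg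
  obtain ⟨ht, -⟩ := hreg
  refine ⟨s, t, hS2.symm, ?_, ?_⟩
  · rintro rfl
    have := hs (a₁ := 1) (a₂ := 0) (by simp)
    exact one_ne_zero this
  · intro a ha
    have h3 := (isSMulRegular_quotient_iff_mem_of_smul_mem _ _).1 ht
    have h4 : ∀ c : R, c ∈ (s • (⊤ : Submodule R R)) ↔ s ∣ c := by
      intro c
      rw [Submodule.mem_smul_pointwise_iff_exists]
      constructor
      · rintro ⟨b, -, rfl⟩
        exact ⟨b, rfl⟩
      · rintro ⟨b, rfl⟩
        exact ⟨b, trivial, rfl⟩
    rw [← h4]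
    apply h3
    rw [h4]
    exact ha

theorem exists_pow_mem {R : Type u} [CommRing R] [IsLocalRing R] {I : Ideal R}
    (hI : Module.length R (R ⧸ I) < ⊤) {c : R} (hc : c ∈ maximalIdeal R) : ∃ n, c ^ n ∈ I := by
  have h1 := Module.length_ne_top_iff.1 hI.ne
  have h2 := (isFiniteLength_iff_isNoetherian_isArtinian.1 h1).2
  obtain ⟨n, y, hy⟩ := IsArtinian.exists_pow_succ_smul_dvd c (1 : R ⧸ I)
  obtain ⟨r, rfl⟩ := Ideal.Quotient.mk_surjective y
  refine ⟨n, ?_⟩
  have h3 : c ^ (n + 1) * r - c ^ n * 1 ∈ I := by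
    rw [← Ideal.Quotient.eq]
    exact hy
  have h4 : IsUnit (1 - c * r) := by
    by_contra h
    have h5 : 1 - c * r ∈ maximalIdeal R := (mem_maximalIdeal _).2 h
    have h6 : (1 : R) ∈ maximalIdeal R := by
      have := Ideal.add_mem _ h5 (Ideal.mul_mem_right r _ hc)
      rwa [sub_add_cancel] at this
    exact (Ideal.ne_top_iff_one _).1 (maximalIdeal.isMaximal R).ne_top h6
  have h7 : c ^ n * (1 - c * r) ∈ I := by
    have := I.neg_mem h3
    convert this using 1
    ring
  obtain ⟨w, hw⟩ := h4.exists_right_inv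
  have := I.mul_mem_right w h7
  rwa [mul_assoc, hw, mul_one] at this

theorem isFiniteLength_of_pow_le {R : Type u} [CommRing R] [IsLocalRing R] [IsNoetherianRing R]
    {q : Ideal R} (n : ℕ) (h : maximalIdeal R ^ n ≤ q) : IsFiniteLength R (R ⧸ q) := by
  have hart : IsArtinianRing (R ⧸ maximalIdeal R ^ n) := by
    rcases Nat.eq_zero_or_pos n with rfl | hn
    · rw [pow_zero, Ideal.one_eq_top]
      have : Subsingleton (R ⧸ (⊤ : Ideal R)) := Ideal.Quotient.subsingleton_iff.mpr rfl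
      infer_instance
    · apply IsLocalRing.quotient_artinian_of_mem_minimalPrimes_of_isLocalRing
      rw [Ideal.minimalPrimes, Set.mem_ofPred]
      refine ⟨⟨inferInstance, Ideal.pow_le_self hn.ne'⟩, ?_⟩
      rintro J ⟨hJ, hJ'⟩ -
      exact (hJ.pow_le_iff hn.ne').mp hJ'
  have h1 : IsArtinian R (R ⧸ maximalIdeal R ^ n) :=
    isArtinian_of_surjective_algebraMap (R := R ⧸ (maximalIdeal R) ^ n) Ideal.Quotient.mk_surjective
  have h2 : IsFiniteLength R (R ⧸ maximalIdeal R ^ n) :=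
    isFiniteLength_iff_isNoetherian_isArtinian.2 ⟨inferInstance, h1⟩
  exact IsFiniteLength.of_surjective (f := Submodule.mapQ (maximalIdeal R ^ n) q LinearMap.id h) h2 (by
    intro z
    obtain ⟨c, rfl⟩ := Ideal.Quotient.mk_surjective z
    exact ⟨Ideal.Quotient.mk _ c, rfl⟩)

theorem pow_le {R : Type u} [CommRing R] {s t : R} (N : ℕ) :
    (Ideal.span {s, t}) ^ ((N + 1) + (N + 1)) ≤ Ideal.span {s ^ (N + 1), t ^ (N + 1)} := by
  rw [Ideal.span_insert, Ideal.span_insert]
  refine Ideal.sup_pow_add_le_pow_sup_pow.trans ?_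
  rw [Ideal.span_singleton_pow, Ideal.span_singleton_pow]

theorem finrank_ideal {R : Type u} [CommRing R] [IsDomain R] [IsNoetherianRing R] {I : Ideal R}
    (hI : I ≠ ⊥) : Module.finrank R ↥I = 1 := by
  have h1 : Module.finrank R ↥I ≤ Module.finrank R R := Submodule.finrank_le I
  rw [Module.finrank_self] at h1
  have : Nontrivial ↥I := Submodule.nontrivial_iff_ne_bot.2 hI
  have h2 : 0 < Module.finrank R ↥I := Module.finrank_pos
  omega

theorem exists_resolution {R : Type u} [CommRing R] [IsRegularLocalRing R] [IsDomain R]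
    (hdim : ringKrullDim R = 2) {I : Ideal R} (hI : I ≠ ⊥) :
    ∃ (a : ℕ) (M : Matrix (Fin (a + 1)) (Fin a) R) (g : (Fin (a + 1) → R) →ₗ[R] R),
      Function.Injective M.mulVec ∧ (∀ w, g w = 0 ↔ ∃ v, M *ᵥ v = w) ∧ ∀ c, c ∈ I ↔ ∃ w, g w = c := by
  have hfin : Module.Finite R ↥I := inferInstance
  obtain ⟨b, gI, hgI⟩ := Module.Finite.exists_fin' R ↥I
  have hpd : PD R (R ⧸ I) (2 + 1) :=
    RegSerre.PD_of_isRegularLocalRing R 2 (by rw [hdim]; rfl) _
  have hpd1 : PD R ↥I (1 + 1) :=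
    (PD.ses_iff (I.subtype : ↥I →ₗ[R] R) (Submodule.mkQ I) (Submodule.subtype_injective I)
      (LinearMap.exact_subtype_mkQ I) (Submodule.mkQ_surjective I) 1).1 hpd
  have hpd0 : PD R ↥(LinearMap.ker gI) (0 + 1) :=
    (PD.ses_iff (LinearMap.ker gI).subtype gI (Submodule.subtype_injective _)
      (LinearMap.exact_subtype_ker_map gI) hgI 0).1 hpd1
  have hproj : Module.Projective R ↥(LinearMap.ker gI) := PD.one_iff.1 hpd0
  have hfree : Module.Free R ↥(LinearMap.ker gI) := Module.free_of_flat_of_isLocalRing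
  have hrank : Module.finrank R ↥(LinearMap.ker gI) + 1 = b := by
    have h1 := Submodule.finrank_quotient_add_finrank (LinearMap.ker gI)
    rw [(LinearMap.quotKerEquivOfSurjective gI hgI).finrank_eq, finrank_ideal hI] at h1
    simp at h1
    omega
  obtain ⟨a, ha⟩ : ∃ a, Module.finrank R ↥(LinearMap.ker gI) = a := ⟨_, rfl⟩
  rw [ha] at hrank
  subst hrank
  let B : Module.Basis (Fin a) R ↥(LinearMap.ker gI) := Module.finBasisOfFinrankEq R _ ha
  let f : (Fin a → R) →ₗ[R] (Fin (a + 1) → R) :=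
    (LinearMap.ker gI).subtype ∘ₗ B.equivFun.symm.toLinearMap
  have hf : ∀ v, (LinearMap.toMatrix' f) *ᵥ v = f v := fun v => LinearMap.toMatrix'_mulVec f v
  refine ⟨a, LinearMap.toMatrix' f, I.subtype ∘ₗ gI, ?_, ?_, ?_⟩
  · intro v w h
    have h' : f v = f w := by rw [← hf, ← hf]; exact h
    exact B.equivFun.symm.injective (Submodule.subtype_injective _ h')
  · intro w
    have h1 : (I.subtype ∘ₗ gI) w = 0 ↔ gI w = 0 := by
      show ((gI w : ↥I) : R) = 0 ↔ _
      rw [ZeroMemClass.coe_eq_zero]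
    rw [h1]
    constructor
    · intro hw
      refine ⟨B.equivFun ⟨w, hw⟩, ?_⟩
      rw [hf]
      show (LinearMap.ker gI).subtype (B.equivFun.symm (B.equivFun ⟨w, hw⟩)) = w
      rw [LinearEquiv.symm_apply_apply]
      rfl
    · rintro ⟨v, rfl⟩
      rw [hf]
      exact (B.equivFun.symm v).2
  · intro c
    constructor
    · intro hc
      obtain ⟨w, hw⟩ := hgI ⟨c, hc⟩
      exact ⟨w, congrArg Subtype.val hw⟩
    · rintro ⟨w, rfl⟩
      exact (gI w).2

theorem main {R : Type u} [CommRing R] [IsRegularLocalRing R] (hdim : ringKrullDim R = 2)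
    (I J : Ideal R) (hI : Module.length R (R ⧸ I) < ⊤) (hJ : Module.length R (R ⧸ J) < ⊤) :
    Module.length R (↥I →ₗ[R] (R ⧸ J)) + Module.length R (R ⧸ I.colon (J : Set R)) =
      Module.length R (R ⧸ J) + Module.length R (R ⧸ I) := by
  have hdom : IsDomain R := RegBasic.isDomain R
  obtain ⟨s, t, hm, hs, hst⟩ := exists_params R hdim
  have hsm : s ∈ maximalIdeal R := by rw [hm]; exact Ideal.subset_span (by simp)
  have htm : t ∈ maximalIdeal R := by rw [hm]; exact Ideal.subset_span (by simp)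
  obtain ⟨n1, h1⟩ := exists_pow_mem hI hsm
  obtain ⟨n2, h2⟩ := exists_pow_mem hI htm
  obtain ⟨n3, h3⟩ := exists_pow_mem hJ hsm
  obtain ⟨n4, h4⟩ := exists_pow_mem hJ htm
  set N := n1 + n2 + n3 + n4 with hN
  have up : ∀ (K : Ideal R) (c : R) (n : ℕ), c ^ n ∈ K → n ≤ N + 1 → c ^ (N + 1) ∈ K := by
    intro K c n hc hn
    obtain ⟨m, hm⟩ := Nat.exists_eq_add_of_le hn
    rw [hm, pow_add]
    exact K.mul_mem_right _ hc
  have hI0 : I ≠ ⊥ := by
    rintro rfl
    rw [Ideal.mem_bot] at h1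
    exact pow_ne_zero n1 hs h1
  obtain ⟨a, M, g, hg1, hg2, hg3⟩ := exists_resolution hdim hI0
  let Q : Res (s ^ (N + 1)) (t ^ (N + 1)) I J a (a + 1) :=
    { hx := pow_ne_zero _ hs
      hreg := pow_dvd_of_dvd_pow_mul hs hst _ _
      hxI := up I s n1 h1 (by omega)
      hyI := up I t n2 h2 (by omega)
      hxJ := up J s n3 h3 (by omega)
      hyJ := up J t n4 h4 (by omega)
      M := M
      g := g
      hinj := hg1
      hex := hg2
      hrange := hg3 }
  obtain ⟨e1, e2⟩ := Q.length_hom_add rfl hJ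
  have hsoc : CyclicSocle R (Ideal.span {s ^ (N + 1), t ^ (N + 1)}) := cyclicSocle_pow hs hst N hm
  have hqf : IsFiniteLength R (R ⧸ Ideal.span {s ^ (N + 1), t ^ (N + 1)}) := by
    apply isFiniteLength_of_pow_le ((N + 1) + (N + 1))
    rw [hm]
    exact pow_le N
  have e3 := length_dual_eq hsoc hqf (Module.length_ne_top_iff.1 e2.ne) (by
    intro r hr z
    obtain ⟨v, rfl⟩ := Submodule.mkQ_surjective _ z
    rw [← map_smul, Submodule.mkQ_apply, Submodule.Quotient.mk_eq_zero]
    refine ⟨0, fun j => ?_⟩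
    rw [Matrix.mulVec_zero]
    simp only [Pi.smul_apply, smul_eq_mul, Pi.zero_apply, sub_zero]
    exact J.mul_mem_right _ (Q.q_le_J hr))
  have e4 := Q.length_dual
  rw [e1, add_assoc, ← e3, e4]

end K777.RegTwo
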