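import Groth.Agent.W4c1hilbpn.K777.Semi3
import Groth.Agent.W4c1hilbpn.K777.Final1
import Mathlib.Algebra.Order.Monoid.Prod
import Mathlib.Data.Prod.Lex
import Mathlib.RingTheory.MvPolynomial.Homogeneous
import Mathlib.Algebra.MvPolynomial.Funext

/-! The `4/3` bound for arbitrary ideals of finite colength in three variables. -/

set_option autoImplicit false
set_option linter.unusedSimpArgs false
set_option linter.unusedSectionVars false

namespace K777.Semi4

open MvPolynomial W4c1hilbpn K777.Basic K777.Model K777.Decomp K777.Colen K777.FatPoint K777.Fat3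
open K777.Semi3 K777.Final1 K777.Dual2

/-- the weight order: total degree, then `x`, then `y` -/
def wt : (Fin 3 →₀ ℕ) →+ (ℤ ×ₗ ℤ ×ₗ ℤ) where
  toFun β := toLex (((β 0 : ℤ) + β 1 + β 2), toLex ((β 0 : ℤ), (β 1 : ℤ)))
  map_zero' := by simp
  map_add' a b := by
    apply toLex.symm.injective
    refine Prod.ext ?_ ?_
    · show ((a + b) 0 : ℤ) + ((a + b) 1 : ℕ) + ((a + b) 2 : ℕ) = (a 0 + a 1 + a 2) + (b 0 + b 1 + b 2)
      simp only [Finsupp.add_apply]
      push_cast
      ring
    · apply toLex.symm.injective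
      refine Prod.ext ?_ ?_
      · show (((a + b) 0 : ℕ) : ℤ) = a 0 + b 0
        simp
      · show (((a + b) 1 : ℕ) : ℤ) = a 1 + b 1
        simp

theorem wt_lt_iff (a b : Fin 3 →₀ ℕ) : wt a < wt b ↔
    (a 0 + a 1 + a 2 < b 0 + b 1 + b 2 ∨ (a 0 + a 1 + a 2 = b 0 + b 1 + b 2 ∧
      (a 0 < b 0 ∨ (a 0 = b 0 ∧ a 1 < b 1)))) := by
  show toLex (((a 0 : ℤ) + a 1 + a 2), toLex ((a 0 : ℤ), (a 1 : ℤ))) <
    toLex (((b 0 : ℤ) + b 1 + b 2), toLex ((b 0 : ℤ), (b 1 : ℤ))) ↔ _
  rw [Prod.Lex.toLex_lt_toLex, Prod.Lex.toLex_lt_toLex]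
  simp only
  omega

theorem wt_injective : Function.Injective wt := by
  intro a b h
  have h1 : ¬ wt a < wt b := by rw [h]; exact lt_irrefl _
  have h2 : ¬ wt b < wt a := by rw [h]; exact lt_irrefl _
  rw [wt_lt_iff] at h1 h2
  have h3 : a 0 = b 0 := by omega
  have h4 : a 1 = b 1 := by omega
  have h5 : a 2 = b 2 := by omega
  apply DFunLike.coe_injective
  exact K777.Stair.vec3_ext h3 h4 h5

theorem wt_wf : WellFounded fun β β' : Fin 3 →₀ ℕ => wt β < wt β' := by
  have h : (fun β β' : Fin 3 →₀ ℕ => wt β < wt β') =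
      InvImage (· < ·) (fun β : Fin 3 →₀ ℕ => (toLex ((β 0 + β 1 + β 2), toLex (β 0, β 1)) :
        ℕ ×ₗ ℕ ×ₗ ℕ)) := by
    ext a b
    rw [wt_lt_iff]
    show _ ↔ (toLex ((a 0 + a 1 + a 2), toLex (a 0, a 1)) : ℕ ×ₗ ℕ ×ₗ ℕ) <
      toLex ((b 0 + b 1 + b 2), toLex (b 0, b 1))
    rw [Prod.Lex.toLex_lt_toLex, Prod.Lex.toLex_lt_toLex]
  rw [h]
  exact InvImage.wf _ wellFounded_lt

variable {k : Type*} [Field k]

/-! ### linear change of coordinates -/

/-- the coordinate change -/
noncomputable def gg (a b : k) : MvPolynomial (Fin 3) k →ₐ[k] MvPolynomial (Fin 3) k :=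
  aeval ![X 0, X 1 + C a * X 0, X 2 + C b * X 0]

theorem gg_comp (a b : k) : (gg a b).comp (gg (-a) (-b)) = AlgHom.id k _ := by
  apply MvPolynomial.algHom_ext
  intro i
  fin_cases i
  · simp [gg]
  · simp [gg]
  · simp [gg]

/-- the coordinate change as an equivalence -/
noncomputable def ge (a b : k) : MvPolynomial (Fin 3) k ≃ₐ[k] MvPolynomial (Fin 3) k :=
  AlgEquiv.ofAlgHom (gg a b) (gg (-a) (-b)) (gg_comp a b) (by
    have := gg_comp (-a) (-b)
    rwa [neg_neg, neg_neg] at this)

theorem ge_apply (a b : k) (f : MvPolynomial (Fin 3) k) : ge a b f = gg a b f := rfl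

section transport
variable (I : Ideal (MvPolynomial (Fin 3) k)) (g : MvPolynomial (Fin 3) k ≃ₐ[k] MvPolynomial (Fin 3) k)

/-- the transported ideal -/
noncomputable def tr : Ideal (MvPolynomial (Fin 3) k) := I.comap (g.symm : MvPolynomial (Fin 3) k →+* MvPolynomial (Fin 3) k)

theorem mem_tr (f : MvPolynomial (Fin 3) k) : f ∈ tr I g ↔ g.symm f ∈ I := Iff.rfl

/-- the quotient isomorphism -/
noncomputable def trQ : (MvPolynomial (Fin 3) k ⧸ I) →ₗ[k] (MvPolynomial (Fin 3) k ⧸ tr I g) :=
  K777.Semi2.desc I ((K777.Semi2.mkL (tr I g)).comp g.toLinearMap) (by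
    intro f hf
    show Ideal.Quotient.mk (tr I g) (g f) = 0
    rw [Ideal.Quotient.eq_zero_iff_mem, mem_tr, g.symm_apply_apply]
    exact hf)

theorem trQ_mk (f : MvPolynomial (Fin 3) k) :
    trQ I g (Ideal.Quotient.mk I f) = Ideal.Quotient.mk (tr I g) (g f) := rfl

theorem trQ_injective : Function.Injective (trQ I g) := by
  intro m m' h
  obtain ⟨f, rfl⟩ := Ideal.Quotient.mk_surjective m
  obtain ⟨f', rfl⟩ := Ideal.Quotient.mk_surjective m'
  rw [trQ_mk, trQ_mk, Ideal.Quotient.eq, mem_tr, ← map_sub, g.symm_apply_apply] at h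
  rwa [Ideal.Quotient.eq]

theorem trQ_surjective : Function.Surjective (trQ I g) := by
  intro m
  obtain ⟨f, rfl⟩ := Ideal.Quotient.mk_surjective m
  exact ⟨Ideal.Quotient.mk I (g.symm f), by rw [trQ_mk, g.apply_symm_apply]⟩

theorem trQ_smul (s : MvPolynomial (Fin 3) k) (m : MvPolynomial (Fin 3) k ⧸ I) :
    trQ I g (s • m) = g s • trQ I g m := by
  obtain ⟨f, rfl⟩ := Ideal.Quotient.mk_surjective m
  show trQ I g (Ideal.Quotient.mk I (s * f)) = Ideal.Quotient.mk (tr I g) (g s * g f)
  rw [trQ_mk, map_mul]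

/-- transport of homomorphisms -/
noncomputable def trT : Tgt I →ₗ[k] Tgt (tr I g) where
  toFun φ :=
    { toFun := fun f => trQ I g (φ ⟨g.symm f.1, f.2⟩)
      map_add' := by
        intro f f'
        rw [← map_add, ← map_add]
        congr 2
        ext1
        show g.symm (f.1 + f'.1) = g.symm f.1 + g.symm f'.1
        rw [map_add]
      map_smul' := by
        intro s f
        have h1 : (⟨g.symm (s • f).1, (s • f).2⟩ : ↥I) = g.symm s • ⟨g.symm f.1, f.2⟩ := by
          ext1
          show g.symm (s * f.1) = g.symm s * g.symm f.1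
          rw [map_mul]
        rw [h1, map_smul, trQ_smul, g.apply_symm_apply]
        rfl }
  map_add' φ ψ := by
    apply LinearMap.ext
    intro f
    exact map_add (trQ I g) _ _
  map_smul' c φ := by
    apply LinearMap.ext
    intro f
    exact map_smul (trQ I g) _ _

theorem trT_injective : Function.Injective (trT I g) := by
  intro φ ψ h
  apply LinearMap.ext
  rintro ⟨f, hf⟩
  have hf' : g f ∈ tr I g := by rw [mem_tr, g.symm_apply_apply]; exact hf
  have h1 := LinearMap.congr_fun h ⟨g f, hf'⟩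
  have h2 := trQ_injective I g h1
  have h3 : (⟨g.symm (g f), hf'⟩ : ↥I) = ⟨f, hf⟩ := Subtype.ext (g.symm_apply_apply f)
  rw [h3] at h2
  exact h2

end transport

/-! ### leading monomial after the coordinate change -/

theorem eval_homog {F : MvPolynomial (Fin 3) k} {t : ℕ} (hF : F.IsHomogeneous t) :
    eval ![1, 0, 0] F = coeff (Finsupp.single 0 t) F := by
  classical
  rw [eval_eq']
  have h1 : ∀ β ∈ F.support, coeff β F * ∏ i, (![1, 0, 0] : Fin 3 → k) i ^ β i =
      if β = Finsupp.single 0 t then coeff β F else 0 := by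
    intro β hβ
    have h2 : β 0 + β 1 + β 2 = t := by
      have := hF (mem_support_iff.1 hβ)
      rw [← this, Finsupp.weight_apply, Finsupp.sum_fintype _ _ (by simp), Fin.sum_univ_three]
      simp
    rw [Fin.prod_univ_three]
    simp only [Matrix.cons_val_zero, Matrix.cons_val_one, Matrix.cons_val, one_pow, one_mul]
    by_cases h3 : β 1 = 0 ∧ β 2 = 0
    · have h4 : β = Finsupp.single 0 t := by
        apply DFunLike.coe_injective
        apply K777.Stair.vec3_ext
        · simp; omega
        · simp [h3.1]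
        · simp [h3.2]
      rw [if_pos h4, h3.1, h3.2]; simp
    · rw [if_neg]
      · by_cases h5 : β 1 = 0
        · have h6 : β 2 ≠ 0 := fun h => h3 ⟨h5, h⟩
          rw [zero_pow h6]; simp
        · rw [zero_pow h5]; simp
      · rintro rfl
        apply h3
        simp
  rw [Finset.sum_congr rfl h1, Finset.sum_ite_eq']
  split_ifs with h
  · rfl
  · exact (notMem_support_iff.1 h).symm

theorem gg_homog (a b : k) {F : MvPolynomial (Fin 3) k} {t : ℕ} (hF : F.IsHomogeneous t) :
    (gg a b F).IsHomogeneous t := by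
  have h := hF.aeval (![X 0, X 1 + C a * X 0, X 2 + C b * X 0] : Fin 3 → MvPolynomial (Fin 3) k)
    (n := 1) (by
    intro i
    fin_cases i
    · exact isHomogeneous_X k 0
    · show (X 1 + C a * X 0 : MvPolynomial (Fin 3) k).IsHomogeneous 1
      exact (isHomogeneous_X k 1).add (by
        have := (isHomogeneous_C (Fin 3) a).mul (isHomogeneous_X k (0 : Fin 3))
        rwa [zero_add] at this)
    · show (X 2 + C b * X 0 : MvPolynomial (Fin 3) k).IsHomogeneous 1
      exact (isHomogeneous_X k 2).add (by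
        have := (isHomogeneous_C (Fin 3) b).mul (isHomogeneous_X k (0 : Fin 3))
        rwa [zero_add] at this))
  rw [one_mul] at h
  exact h

theorem eval_gg (a b : k) (F : MvPolynomial (Fin 3) k) :
    eval ![1, 0, 0] (gg a b F) = eval ![1, a, b] F := by
  have : (eval ![1, 0, 0] : MvPolynomial (Fin 3) k →+* k).comp (gg a b).toRingHom =
      eval ![1, a, b] := by
    apply MvPolynomial.ringHom_ext
    · intro c
      simp [gg]
    · intro i
      fin_cases i <;> simp [gg]
  exact RingHom.congr_fun this F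

theorem coeff_gg (a b : k) (f : MvPolynomial (Fin 3) k) (β : Fin 3 →₀ ℕ) :
    coeff β (gg a b f) = coeff β (gg a b (homogeneousComponent (β 0 + β 1 + β 2) f)) := by
  classical
  conv_lhs => rw [← sum_homogeneousComponent f]
  rw [map_sum, coeff_sum]
  have hz : ∀ s, s ≠ β 0 + β 1 + β 2 → coeff β (gg a b (homogeneousComponent s f)) = 0 := by
    intro s hs
    by_contra hne
    have h1 := gg_homog a b (homogeneousComponent_isHomogeneous s f) hne
    rw [Finsupp.weight_apply, Finsupp.sum_fintype _ _ (by simp), Fin.sum_univ_three] at h1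
    simp at h1
    exact hs h1.symm
  by_cases hmem : β 0 + β 1 + β 2 ∈ Finset.range (f.totalDegree + 1)
  · rw [Finset.sum_eq_single_of_mem _ hmem (fun s _ hs => hz s hs)]
  · rw [Finset.sum_eq_zero]
    · rw [homogeneousComponent_eq_zero, map_zero, coeff_zero]
      rw [Finset.mem_range] at hmem
      omega
    · intro s hs
      apply hz
      rintro rfl
      exact hmem hs

theorem exists_change [Infinite k] {f : MvPolynomial (Fin 3) k} (hf : f ≠ 0) :
    ∃ a b : k, IsLead wt (gg a b f) (Finsupp.single 0 f.totalDegree) := by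
  set t := f.totalDegree with ht
  set F := homogeneousComponent t f with hF
  have hF0 : F ≠ 0 := by
    intro h
    obtain ⟨β, hβ, hβ'⟩ := Finset.exists_mem_eq_sup f.support (support_nonempty.2 hf)
      (fun m => m.sum fun _ e => e)
    have h1 : coeff β F = coeff β f := by
      rw [hF, coeff_homogeneousComponent, if_pos]
      rw [Finsupp.degree_apply]
      exact hβ'.symm
    rw [h, coeff_zero] at h1
    exact (mem_support_iff.1 hβ) h1.symm
  have hFh : F.IsHomogeneous t := homogeneousComponent_isHomogeneous t f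
  obtain ⟨v, hv⟩ : ∃ v : Fin 3 → k, eval v (X 0 * F) ≠ 0 := by
    by_contra hcon
    push Not at hcon
    have : (X 0 * F : MvPolynomial (Fin 3) k) = 0 := by
      apply MvPolynomial.funext
      intro v
      rw [hcon v, map_zero]
    rcases mul_eq_zero.1 this with h | h
    · exact X_ne_zero 0 h
    · exact hF0 h
  rw [map_mul, eval_X] at hv
  have hv0 : v 0 ≠ 0 := left_ne_zero_of_mul hv
  have hv1 : eval v F ≠ 0 := right_ne_zero_of_mul hv
  have hscale : eval v F = v 0 ^ t * eval ![1, v 1 / v 0, v 2 / v 0] F := by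
    rw [eval_eq', eval_eq', Finset.mul_sum]
    refine Finset.sum_congr rfl fun β hβ => ?_
    have h2 : β 0 + β 1 + β 2 = t := by
      have := hFh (mem_support_iff.1 hβ)
      rw [← this, Finsupp.weight_apply, Finsupp.sum_fintype _ _ (by simp), Fin.sum_univ_three]
      simp
    rw [Fin.prod_univ_three, Fin.prod_univ_three, ← h2]
    simp only [Matrix.cons_val_zero, Matrix.cons_val_one, Matrix.cons_val, one_pow, one_mul]
    rw [pow_add, pow_add, div_pow, div_pow]
    field_simp
  refine ⟨v 1 / v 0, v 2 / v 0, ?_⟩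
  have hs0 : (Finsupp.single 0 t : Fin 3 →₀ ℕ) 0 + (Finsupp.single 0 t : Fin 3 →₀ ℕ) 1 +
      (Finsupp.single 0 t : Fin 3 →₀ ℕ) 2 = t := by simp
  constructor
  · rw [mem_support_iff, coeff_gg, hs0, ← hF, ← eval_homog (gg_homog _ _ hFh), eval_gg]
    intro h
    apply hv1
    rw [hscale, h, mul_zero]
  · intro β hβ
    rw [mem_support_iff, coeff_gg] at hβ
    have h1 : β 0 + β 1 + β 2 ≤ t := by
      by_contra hcon
      apply hβ
      rw [homogeneousComponent_eq_zero _ _ (by omega), map_zero, coeff_zero]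
    by_contra hcon
    rw [not_le, wt_lt_iff] at hcon
    simp at hcon
    omega

/-- an ideal of small colength contains a nonzero polynomial of small degree -/
theorem exists_small (I : Ideal (MvPolynomial (Fin 3) k))
    [Module.Finite k (MvPolynomial (Fin 3) k ⧸ I)] {r : ℕ}
    (hd : Module.finrank k (MvPolynomial (Fin 3) k ⧸ I) ≤ (r + 2).choose 3) :
    ∃ f ∈ I, f ≠ 0 ∧ f.totalDegree ≤ r := by
  classical
  by_contra hcon
  push Not at hcon
  have hfinT : Finite (Dx (mr (Fin 3) k (r + 1))) :=
    (complEquiv _).finite_iff.2 (finite_DD_mr (r + 1)).to_subtype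
  have := Fintype.ofFinite (Dx (mr (Fin 3) k (r + 1)))
  have hli : LinearIndependent k (fun β : Dx (mr (Fin 3) k (r + 1)) =>
      Ideal.Quotient.mk I (monomial β.1 (1 : k))) := by
    rw [linearIndependent_iff']
    intro s c hc
    by_contra hne
    push Not at hne
    obtain ⟨γ, hγ, hγ0⟩ := hne
    set f : MvPolynomial (Fin 3) k := ∑ β ∈ s, monomial β.1 (c β) with hf
    have hcoef : coeff γ.1 f = c γ := by
      rw [hf, coeff_sum, Finset.sum_eq_single γ]
      · rw [coeff_monomial, if_pos rfl]
      · intro β' _ hne'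
        rw [coeff_monomial, if_neg]
        exact fun h => hne' (Subtype.ext h)
      · exact fun h => absurd hγ h
    have hfI : f ∈ I := by
      rw [← Ideal.Quotient.eq_zero_iff_mem, hf, map_sum, ← hc]
      refine Finset.sum_congr rfl fun β _ => ?_
      have h1 : monomial β.1 (c β) = c β • monomial β.1 (1 : k) := by
        rw [smul_monomial, smul_eq_mul, mul_one]
      rw [h1]; rfl
    have hf0 : f ≠ 0 := by
      intro h
      rw [h, coeff_zero] at hcoef
      exact hγ0 hcoef.symm
    have hdeg := hcon f hfI hf0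
    have : f.totalDegree ≤ r := by
      rw [totalDegree, Finset.sup_le_iff]
      intro δ hδ
      rw [mem_support_iff, hf, coeff_sum] at hδ
      obtain ⟨β, hβ, hne'⟩ := Finset.exists_ne_zero_of_sum_ne_zero hδ
      rw [coeff_monomial] at hne'
      by_cases h : β.1 = δ
      · rw [← h]
        have h2 := β.2
        rw [mem_exps_mr] at h2
        rw [Finsupp.sum_fintype _ _ (by simp)]
        omega
      · rw [if_neg h] at hne'; exact absurd rfl hne'
    omega
  have h1 := hli.fintype_card_le_finrank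
  have h2 : Fintype.card (Dx (mr (Fin 3) k (r + 1))) = (r + 1 + 2).choose 3 := by
    rw [← Nat.card_eq_fintype_card, ← finrank_quot (isMonomial_mr (r + 1)),
      finrank_quot' (isMonomial_mr (r + 1)), colength_fat]
  have h3 : (r + 1 + 2).choose 3 = (r + 2).choose 2 + (r + 2).choose 3 :=
    Nat.choose_succ_succ (r + 2) 2
  have h4 : 0 < (r + 2).choose 2 := Nat.choose_pos (by omega)
  omega

theorem main [Infinite k] (I : Ideal (MvPolynomial (Fin 3) k))
    [hM : Module.Finite k (MvPolynomial (Fin 3) k ⧸ I)] {r : ℕ}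
    (hd : Module.finrank k (MvPolynomial (Fin 3) k ⧸ I) ≤ (r + 2).choose 3) :
    3 * Module.finrank k (Tgt I) ≤ 4 * Module.finrank k (Tgt (mr (Fin 3) k r)) := by
  obtain ⟨f, hfI, hf0, hfr⟩ := exists_small I hd
  obtain ⟨a, b, hlead⟩ := exists_change hf0
  set I' := tr I (ge a b) with hI'
  have hM' : Module.Finite k (MvPolynomial (Fin 3) k ⧸ I') :=
    Module.Finite.of_surjective (trQ I (ge a b)) (trQ_surjective I (ge a b))
  have hrank : Module.finrank k (MvPolynomial (Fin 3) k ⧸ I') =
      Module.finrank k (MvPolynomial (Fin 3) k ⧸ I) :=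
    (LinearEquiv.ofBijective (trQ I (ge a b)) ⟨trQ_injective I _, trQ_surjective I _⟩).finrank_eq.symm
  have hexp : (Finsupp.single 0 f.totalDegree : Fin 3 →₀ ℕ) ∈ exps (inI I' wt) := by
    rw [mem_exps_inI]
    refine ⟨gg a b f, ?_, hlead⟩
    rw [hI', mem_tr, ← ge_apply, AlgEquiv.symm_apply_apply]
    exact hfI
  have hexp' : (Finsupp.single 0 r : Fin 3 →₀ ℕ) ∈ exps (inI I' wt) :=
    exps_of_le hexp (by rw [Finsupp.single_le_single]; exact hfr)
  have hfin := finite_quot_inI I' wt wt_wf wt_injective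
  have h1 := three_mul_le (k := k) (isMonomial_inI I' wt) hfin (r := r) (by
    rw [← finrank_quot' (isMonomial_inI I' wt), finrank_quot_inI I' wt wt_wf wt_injective, hrank]
    exact hd) hexp'
  have h2 := finrank_Tgt_le_inI I' wt wt_wf wt_injective
  have hfinT : Module.Finite k (Tgt I') := by
    classical
    have := K777.Semi3.finite_Dx I' wt wt_wf wt_injective
    have := Fintype.ofFinite (Dx (inI I' wt))
    exact (K777.Semi2.finrank_Tgt_add_le I' (bB I' wt wt_wf wt_injective)).1
  have h3 : Module.finrank k (Tgt I) ≤ Module.finrank k (Tgt I') :=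
    LinearMap.finrank_le_finrank_of_injective (trT_injective I (ge a b))
  omega

end K777.Semi4
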