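import Groth.Agent.W4c1hilbpn.K777.Two

set_option autoImplicit false
set_option linter.unusedSimpArgs false
set_option linter.unusedSectionVars false
set_option linter.unusedVariables false
set_option linter.unusedTactic false
set_option linter.unreachableTactic false
set_option linter.unnecessarySeqFocus false

namespace K777.C47

open MvPolynomial W4c1hilbpn K777.Basic K777.Model K777.Decomp K777.Count K777.CountFin K777.Two

variable {k : Type*} [Field k] {n q m : ℕ}

variable (n q) in
/-- special targets -/
noncomputable def TT : Finset (Fin (n + 1) → ℤ) := open Classical in (W n q).erase (f q 1)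

theorem mem_TT (hn : 1 ≤ n) {δ : Fin (n + 1) → ℤ} :
    δ ∈ TT n q ↔ (∀ i, 0 ≤ δ i) ∧ δ 0 = 0 ∧ δ ⟨1, by omega⟩ < q ∧ ∑ i, δ i = q := by
  classical
  rw [TT, Finset.mem_erase, mem_W]
  constructor
  · rintro ⟨h1, h2, h3, h4⟩
    refine ⟨h2, h3, ?_, h4⟩
    by_contra hcon
    obtain ⟨j, hj, hj'⟩ := exists_pos (m := 1) hn h2 h4 h1
    have := add_le_sum h2 (i := j) (j := ⟨1, by omega⟩) (by intro h; rw [h] at hj; exact hj rfl)
    omega
  · rintro ⟨h1, h2, h3, h4⟩
    refine ⟨?_, h1, h2, h4⟩
    rintro rfl
    simp only [f_apply, if_true] at h3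
    omega

theorem card_TT (hn : 1 ≤ n) : (TT n q).card + 1 = (n + q - 1).choose (n - 1) := by
  classical
  have hmem : f q 1 ∈ W n q := by
    rw [mem_W]
    refine ⟨fun i => ?_, ?_, sum_f hn⟩
    · simp only [f_apply]; split_ifs <;> omega
    · simp only [f_apply, Fin.val_zero]; split_ifs <;> first | omega | contradiction
  rw [TT, Finset.card_erase_of_mem hmem, ← card_W hn]
  have := Finset.card_pos.2 ⟨_, hmem⟩
  omega

/-- the classes -/
abbrev Sx (n q m : ℕ) : Type := Fin n ⊕ (Fin n ⊕ (Fin m ⊕ (↥(TT n q) ⊕ (Fin m × Fin (n - m)))))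

/-- the degrees of the classes -/
noncomputable def AA : Sx n q m → Fin (n + 1) → ℤ
  | Sum.inl j => e 0 + e n - (e 0 + e j.val)
  | Sum.inr (Sum.inl u) => e (u.val + 1) - e 0
  | Sum.inr (Sum.inr (Sum.inl j)) => e 0 + f q n - (f q 1 + e (j.val + 1))
  | Sum.inr (Sum.inr (Sum.inr (Sum.inl δ))) => δ.1 - f q 1
  | Sum.inr (Sum.inr (Sum.inr (Sum.inr (j, u)))) => e (n - u.val) - e (j.val + 1)

/-- the classes -/
def CC : Sx n q m → Ix n m → Prop
  | Sum.inl j, Sum.inl i => i.1 = j.val
  | Sum.inl j, Sum.inr i => False
  | Sum.inr (Sum.inl u), Sum.inl j => 1 ≤ j.1 ∧ (u.val = 0 → j.1 = 1 → 2 ≤ q) ∧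
      (u.val = 0 → 2 ≤ j.1 → 2 ≤ q ∨ m < j.1) ∧ (1 ≤ u.val → j.1 = 1 → 2 ≤ q ∨ m < u.val + 1)
  | Sum.inr (Sum.inl u), Sum.inr j => False
  | Sum.inr (Sum.inr (Sum.inl j)), Sum.inl i => False
  | Sum.inr (Sum.inr (Sum.inl j)), Sum.inr i => i.1 = j.val + 1
  | Sum.inr (Sum.inr (Sum.inr (Sum.inl δ))), Sum.inl i => False
  | Sum.inr (Sum.inr (Sum.inr (Sum.inl δ))), Sum.inr i => i.1 = 1 → ∀ a : Fin (n + 1), a.val = 1 → δ.1 a + 1 < q
  | Sum.inr (Sum.inr (Sum.inr (Sum.inr (j, u)))), Sum.inl i => False
  | Sum.inr (Sum.inr (Sum.inr (Sum.inr (j, u)))), Sum.inr i => i.1 = j.val + 1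

/-- the representatives -/
def rr (hm : 2 ≤ m) (hmn : m + 2 ≤ n) : Sx n q m → Ix n m
  | Sum.inl j => Sum.inl ⟨j.val, j.2⟩
  | Sum.inr (Sum.inl u) => Sum.inl ⟨n - 1, by omega⟩
  | Sum.inr (Sum.inr (Sum.inl j)) => Sum.inr ⟨j.val + 1, by omega, by have := j.2; omega⟩
  | Sum.inr (Sum.inr (Sum.inr (Sum.inl δ))) => Sum.inr ⟨2, by omega⟩
  | Sum.inr (Sum.inr (Sum.inr (Sum.inr (j, u)))) => Sum.inr ⟨j.val + 1, by omega, by have := j.2; omega⟩

/-- evaluation tactic -/
macro "ew" : tactic => `(tactic| (simp only [gs, AA, rr, Pi.add_apply, Pi.sub_apply, e_apply, f_apply, Fin.val_zero, eq_self_iff_true, if_true] <;> (try split_ifs) <;> first | omega | contradiction))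
/-- evaluation tactic -/
macro "es" " at " h:ident : tactic => `(tactic| simp only [gs, AA, rr, Pi.add_apply, Pi.sub_apply, e_apply, f_apply, Fin.val_zero, eq_self_iff_true, if_true] at $h:ident)
/-- evaluation tactic -/
macro "eo" " at " h:ident : tactic => `(tactic| ((try split_ifs at $h:ident) <;> first | omega | contradiction))

theorem D1 (hm : 2 ≤ m) (hmn : m + 2 ≤ n) (hq : 1 ≤ q) (v : ℕ) :
    e 0 + f v n ∈ DD (II n q m : Ideal (MvPolynomial (Fin (n + 1)) k)) := by
  rw [mem_D (by omega) (by omega) hq]
  refine ⟨fun a => ?_, Or.inr (Or.inr ⟨?_, fun a ha ha' => ?_⟩)⟩ <;> ew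

theorem D2 (hm : 2 ≤ m) (hmn : m + 2 ≤ n) (hq : 1 ≤ q) {u : ℕ} (hu : m < u) :
    f q 1 + e u ∈ DD (II n q m : Ideal (MvPolynomial (Fin (n + 1)) k)) := by
  rw [mem_D (by omega) (by omega) hq]
  refine ⟨fun a => ?_, Or.inr (Or.inl ⟨?_, ?_, fun a ha ha' => ?_⟩)⟩ <;> ew

/-- the data -/
noncomputable def data (hm : 2 ≤ m) (hmn : m + 2 ≤ n) (hq : 1 ≤ q) (hcase : m + 3 ≤ n ∨ 3 ≤ q) :
    Data (II n q m : Ideal (MvPolynomial _ k)) (Ix n m) (Sx n q m) (fun α => ∑ i, α i = 0) where
  gens := gs n q m
  gens_nonneg := gs_nonneg n q m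
  mem_U := mem_UU_span (gs n q m) (gs_nonneg n q m) _ (hT n q m (by omega) (by omega))
  A := AA
  r := rr hm hmn
  C := CC
  h1 := by
    rintro (⟨j, hj⟩ | ⟨u, hu⟩ | ⟨j, hj⟩ | ⟨δ, hδ⟩ | ⟨⟨j, hj⟩, ⟨u, hu⟩⟩)
    · simp only [AA, Pi.sub_apply, Pi.add_apply, Finset.sum_sub_distrib, Finset.sum_add_distrib]
      rw [sum_e (by omega), sum_e (by omega), sum_e (by omega)]; rfl
    · simp only [AA, Pi.sub_apply, Finset.sum_sub_distrib]
      rw [sum_e (by omega), sum_e (by omega)]; rfl
    · simp only [AA, Pi.sub_apply, Pi.add_apply, Finset.sum_sub_distrib, Finset.sum_add_distrib]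
      rw [sum_e (by omega), sum_e (by omega), sum_f (by omega), sum_f (by omega)]; omega
    · simp only [AA, Pi.sub_apply, Pi.add_apply, Finset.sum_sub_distrib, Finset.sum_add_distrib]
      rw [sum_f (by omega), ((mem_TT (by omega)).1 hδ).2.2.2]; omega
    · simp only [AA, Pi.sub_apply, Finset.sum_sub_distrib]
      rw [sum_e (by omega), sum_e (by omega)]; rfl
  h2 := by
    rintro (⟨j, hj⟩ | ⟨u, hu⟩ | ⟨j, hj⟩ | ⟨δ, hδ⟩ | ⟨⟨j, hj⟩, ⟨u, hu⟩⟩) (⟨i, hi⟩ | ⟨i, hi, hi'⟩) hC
    · simp only [CC] at hC
      subst hC
      rw [mem_D (by omega) (by omega) hq]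
      refine ⟨fun a => ?_, Or.inr (Or.inr ⟨?_, fun a ha ha' => ?_⟩)⟩ <;> ew
    · exact hC.elim
    · simp only [CC] at hC
      rw [mem_D (by omega) (by omega) hq]
      by_cases h1 : (gs n q m (Sum.inl ⟨i, hi⟩) + AA (Sum.inr (Sum.inl ⟨u, hu⟩) : Sx n q m)) ⟨1, by omega⟩ < q
      · refine ⟨fun a => ?_, Or.inl ⟨?_, h1⟩⟩ <;> ew
      · es at h1
        refine ⟨fun a => ?_, Or.inr (Or.inl ⟨?_, ?_, fun a ha ha' => ?_⟩)⟩
        · ew
        · ew
        · ew
        · simp only [gs, AA, Pi.add_apply, Pi.sub_apply, e_apply]
          split_ifs at h1 ⊢ <;> first | omega | contradiction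
    · exact hC.elim
    · exact hC.elim
    · simp only [CC] at hC
      subst hC
      rw [mem_D (by omega) (by omega) hq]
      refine ⟨fun a => ?_, Or.inr (Or.inr ⟨?_, fun a ha ha' => ?_⟩)⟩ <;> ew
    · exact hC.elim
    · simp only [CC] at hC
      obtain ⟨hδ1, hδ2, hδ3, hδ4⟩ := (mem_TT (by omega)).1 hδ
      have h5 := fun h => hC h ⟨1, by omega⟩ rfl
      rw [mem_D (by omega) (by omega) hq]
      refine ⟨fun a => ?_, Or.inl ⟨?_, ?_⟩⟩
      · have := hδ1 a; ew
      · ew
      · ew
    · exact hC.elim
    · simp only [CC] at hC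
      subst hC
      rw [mem_D (by omega) (by omega) hq]
      refine ⟨fun a => ?_, Or.inr (Or.inl ⟨?_, ?_, fun a ha ha' => ?_⟩)⟩ <;> ew
  hr := by
    rintro (⟨j, hj⟩ | ⟨u, hu⟩ | ⟨j, hj⟩ | ⟨δ, hδ⟩ | ⟨⟨j, hj⟩, ⟨u, hu⟩⟩)
    · rfl
    · simp only [CC, rr]; omega
    · rfl
    · simp only [CC, rr]; intro h; omega
    · rfl
  h3 := by
    rintro (⟨j, hj⟩ | ⟨u, hu⟩ | ⟨j, hj⟩ | ⟨δ, hδ⟩ | ⟨⟨j, hj⟩, ⟨u, hu⟩⟩) (⟨i, hi⟩ | ⟨i, hi, hi'⟩) i' γ hC hC' h h' hD <;>
      rw [mem_D (by omega) (by omega) hq] at hD
    · simp only [CC] at hC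
      subst hC
      have h1 := h 0
      es at h1
      rcases hD.2 with h8 | h8 | h8
      · eo at h1
      · eo at h1
      · apply hC'
        have : i' = Sum.inl ⟨i, hi⟩ := by
          apply eq_of_le (q := q) (by omega) (by omega) hq
          intro a ha
          have h2 := h' a
          simp only [AA, gs, Pi.add_apply, Pi.sub_apply] at h2 ⊢
          by_cases ha0 : a = 0
          · subst ha0
            rw [h8.1] at h2
            simp only [e_apply, Fin.val_zero, eq_self_iff_true, if_true] at h2 ⊢
            split_ifs at h2 ⊢ <;> first | omega | contradiction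
          · have ha0' : a.val ≠ 0 := fun h => ha0 (Fin.ext (by simpa using h))
            rw [h8.2 a (by omega) ha] at h2
            simp only [e_apply, Fin.val_zero, eq_self_iff_true, if_true] at h2 ⊢
            split_ifs at h2 ⊢ <;> first | omega | contradiction
        rw [this]; rfl
    · exact hC.elim
    · simp only [CC] at hC
      have h1 := h ⟨i, by omega⟩
      es at h1
      have h4 : 1 ≤ γ ⟨i, by omega⟩ := by eo at h1
      have h5 : γ 0 = 0 := by
        rcases hD.2 with h8 | h8 | h8
        · exact h8.1
        · exact h8.1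
        · have := h8.2 ⟨i, by omega⟩ (by simp only; omega) (by simp only; omega)
          omega
      rcases i' with ⟨i', hi'⟩ | ⟨i', hi', hi''⟩
      · simp only [CC] at hC'
        have h2 := h' 0
        es at h2
        by_cases hi0 : i' = 0
        · eo at h2
        · have h3 := h' ⟨1, by omega⟩
          have h6 := h' ⟨i', by omega⟩
          have h7 := h' ⟨u + 1, by omega⟩
          es at h3
          es at h6
          es at h7
          rcases hD.2 with h8 | h8 | h8
          · eo at h3
          · by_cases hi1 : i' = 1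
            · by_cases hu0 : u = 0
              · eo at h3
              · have := h8.2.2 ⟨u + 1, by omega⟩ (by simp only; omega) (by simp only; omega)
                eo at h7
            · have := h8.2.2 ⟨i', by omega⟩ (by simp only; omega) (by simp only; omega)
              eo at h6
          · omega
      · have h3 := h' ⟨1, by omega⟩
        have h6 := h' ⟨i', by omega⟩
        es at h3
        es at h6
        rcases hD.2 with h8 | h8 | h8
        · eo at h3
        · by_cases hi1 : i' = 1
          · eo at h3
          · have := h8.2.2 ⟨i', by omega⟩ (by simp only; omega) (by simp only; omega)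
            eo at h6
        · omega
    · exact hC.elim
    · exact hC.elim
    · simp only [CC] at hC
      subst hC
      have h1 := h 0
      es at h1
      rcases hD.2 with h8 | h8 | h8
      · eo at h1
      · eo at h1
      · apply hC'
        have : i' = Sum.inr ⟨j + 1, hi, hi'⟩ := by
          apply eq_of_le (q := q) (by omega) (by omega) hq
          intro a ha
          have h2 := h' a
          simp only [AA, gs, Pi.add_apply, Pi.sub_apply] at h2 ⊢
          by_cases ha0 : a = 0
          · subst ha0
            rw [h8.1] at h2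
            simp only [e_apply, f_apply, Fin.val_zero, eq_self_iff_true, if_true] at h2 ⊢
            split_ifs at h2 ⊢ <;> first | omega | contradiction
          · have ha0' : a.val ≠ 0 := fun h => ha0 (Fin.ext (by simpa using h))
            rw [h8.2 a (by omega) ha] at h2
            simp only [e_apply, f_apply, Fin.val_zero, eq_self_iff_true, if_true] at h2 ⊢
            split_ifs at h2 ⊢ <;> first | omega | contradiction
        rw [this]; rfl
    · exact hC.elim
    · simp only [CC] at hC
      obtain ⟨hδ1, hδ2, hδ3, hδ4⟩ := (mem_TT (by omega)).1 hδ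
      have h9 := fun h => hC h ⟨1, by omega⟩ rfl
      have h1 := h ⟨i, by omega⟩
      have h1' := hδ1 ⟨i, by omega⟩
      es at h1
      have h4 : 1 ≤ γ ⟨i, by omega⟩ := by eo at h1
      have h5 : γ 0 = 0 := by
        rcases hD.2 with h8 | h8 | h8
        · exact h8.1
        · exact h8.1
        · have := h8.2 ⟨i, by omega⟩ (by simp only; omega) (by simp only; omega)
          omega
      rcases i' with ⟨i', hi'⟩ | ⟨i', hi', hi''⟩
      · have h2 := h' 0
        es at h2
        eo at h2
      · simp only [CC] at hC'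
        push Not at hC'
        obtain ⟨hC1, a, ha, ha'⟩ := hC'
        have haa : a = ⟨1, by omega⟩ := Fin.ext ha
        rw [haa] at ha'
        have h3 := h' ⟨1, by omega⟩
        es at h3
        rcases hD.2 with h8 | h8 | h8
        · eo at h3
        · by_cases hi1 : i = 1
          · have := h9 hi1
            omega
          · have := h8.2.2 ⟨i, by omega⟩ (by simp only; omega) (by simp only; omega)
            omega
        · omega
    · exact hC.elim
    · simp only [CC] at hC
      subst hC
      have h1 := h ⟨1, by omega⟩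
      es at h1
      have h8 : γ 0 = 0 ∧ γ ⟨1, by omega⟩ = q ∧ ∀ a : Fin (n + 1), 2 ≤ a.val → a.val ≤ m → γ a = 0 := by
        rcases hD.2 with h8 | h8 | h8
        · exfalso; eo at h1
        · exact h8
        · have := h8.2 ⟨1, by omega⟩ (by simp only; omega) (by simp only; omega)
          exfalso; eo at h1
      rcases i' with ⟨i', hi'⟩ | ⟨i', hi', hi''⟩
      · have h2 := h' 0
        es at h2
        eo at h2
      · simp only [CC] at hC'
        by_cases hi1 : i' = 1
        · have h3 := h' ⟨1, by omega⟩
          es at h3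
          eo at h3
        · have h3 := h' ⟨i', by omega⟩
          have := h8.2.2 ⟨i', by omega⟩ (by simp only; omega) (by simp only; omega)
          es at h3
          eo at h3
  h4 := by
    rintro (⟨j, hj⟩ | ⟨u, hu⟩ | ⟨j, hj⟩ | ⟨δ, hδ⟩ | ⟨⟨j, hj⟩, ⟨u, hu⟩⟩)
      (⟨j', hj'⟩ | ⟨u', hu'⟩ | ⟨j', hj'⟩ | ⟨δ', hδ'⟩ | ⟨⟨j', hj'⟩, ⟨u', hu'⟩⟩) (⟨i, hi⟩ | ⟨i, hi, hi'⟩) hA hC hC' <;>
      try (first | exact hC.elim | exact hC'.elim)
    · simp only [CC] at hC hC'
      have : j = j' := by omega
      subst this; rfl
    · simp only [CC] at hC hC'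
      have h1 := congrFun hA 0
      es at h1; eo at h1
    · simp only [CC] at hC hC'
      have h1 := congrFun hA 0
      es at h1; eo at h1
    · have h1 := congrFun hA ⟨u + 1, by omega⟩
      es at h1
      have : u = u' := by eo at h1
      subst this; rfl
    · simp only [CC] at hC hC'
      have : j = j' := by omega
      subst this; rfl
    · simp only [CC] at hC
      obtain ⟨hδ1, hδ2, hδ3, hδ4⟩ := (mem_TT (by omega)).1 hδ'
      have h1 := congrFun hA 0
      es at h1; eo at h1
    · simp only [CC] at hC
      have h1 := congrFun hA 0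
      es at h1; eo at h1
    · simp only [CC] at hC'
      obtain ⟨hδ1, hδ2, hδ3, hδ4⟩ := (mem_TT (by omega)).1 hδ
      have h1 := congrFun hA 0
      es at h1; eo at h1
    · simp only [AA, sub_left_inj] at hA
      subst hA; rfl
    · simp only [CC] at hC hC'
      obtain ⟨hδ1, hδ2, hδ3, hδ4⟩ := (mem_TT (by omega)).1 hδ
      have h9 : i = 1 → δ ⟨1, by omega⟩ + 1 < q := fun h => hC h ⟨1, by omega⟩ rfl
      have h1 := congrFun hA ⟨1, by omega⟩
      es at h1; eo at h1
    · simp only [CC] at hC'
      have h1 := congrFun hA 0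
      es at h1; eo at h1
    · simp only [CC] at hC hC'
      obtain ⟨hδ1, hδ2, hδ3, hδ4⟩ := (mem_TT (by omega)).1 hδ'
      have h9 : i = 1 → δ' ⟨1, by omega⟩ + 1 < q := fun h => hC' h ⟨1, by omega⟩ rfl
      have h1 := congrFun hA ⟨1, by omega⟩
      es at h1; eo at h1
    · simp only [CC] at hC hC'
      have h0 : j = j' := by omega
      subst h0
      have h1 := congrFun hA ⟨n - u, by omega⟩
      es at h1
      have : u = u' := by eo at h1
      subst this; rfl
  h5 := by
    rintro (⟨j, hj⟩ | ⟨u, hu⟩ | ⟨j, hj⟩ | ⟨δ, hδ⟩ | ⟨⟨j, hj⟩, ⟨u, hu⟩⟩) (⟨i, hi⟩ | ⟨i, hi, hi'⟩) hC <;>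
      try (exact hC.elim)
    · simp only [CC] at hC
      subst hC
      exact ⟨e 0 + f 1 n, D1 hm hmn hq 1, fun a => by ew, fun a => by ew⟩
    · simp only [CC] at hC
      refine ⟨e i + e (u + 1) + e (n - 1), ?_, fun a => ?_, fun a => ?_⟩
      · rw [mem_D (by omega) (by omega) hq]
        by_cases h1 : (e i + e (u + 1) + e (n - 1) : Fin (n + 1) → ℤ) ⟨1, by omega⟩ < q
        · refine ⟨fun a => ?_, Or.inl ⟨?_, h1⟩⟩ <;> ew
        · es at h1
          refine ⟨fun a => ?_, Or.inr (Or.inl ⟨?_, ?_, fun a ha ha' => ?_⟩)⟩
          · ew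
          · ew
          · ew
          · simp only [Pi.add_apply, e_apply]
            split_ifs at h1 ⊢ <;> first | omega | contradiction
      · ew
      · ew
    · simp only [CC] at hC
      subst hC
      exact ⟨e 0 + f q n, D1 hm hmn hq q, fun a => by ew, fun a => by ew⟩
    · simp only [CC] at hC
      obtain ⟨hδ1, hδ2, hδ3, hδ4⟩ := (mem_TT (by omega)).1 hδ
      have h9 := fun h => hC h ⟨1, by omega⟩ rfl
      refine ⟨δ + e i + e 2, ?_, fun a => ?_, fun a => ?_⟩
      · rw [mem_D (by omega) (by omega) hq]
        refine ⟨fun a => ?_, Or.inl ⟨?_, ?_⟩⟩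
        · have := hδ1 a; ew
        · ew
        · ew
      · ew
      · ew
    · simp only [CC] at hC
      subst hC
      exact ⟨f q 1 + e (n - u), D2 hm hmn hq (by omega), fun a => by ew, fun a => by ew⟩
  h6 := by
    rintro α (⟨j, hj⟩ | ⟨j, hj, hj'⟩) hα hD
    · set γ : Fin (n + 1) → ℤ := gs n q m (Sum.inl ⟨j, hj⟩) + α with hγ
      have hαγ : α = γ - (e 0 + e j) := by rw [hγ, gs]; abel
      have hsum : ∑ i, γ i = 2 := by
        rw [hγ]
        simp only [gs, Pi.add_apply, Finset.sum_add_distrib]
        rw [sum_e (by omega), sum_e (by omega), hα]; rfl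
      have hD' := (mem_D (by omega) (by omega) hq γ).1 hD
      obtain ⟨h0, h1⟩ := hD'
      have h10 := h0 ⟨1, by omega⟩
      by_cases h00 : γ 0 = 1
      · left
        have h2 : ∀ j : Fin (n + 1), 1 ≤ j.val → j.val < n → γ j = 0 := by
          rcases h1 with h1 | h1 | h1
          · omega
          · omega
          · exact h1.2
        refine ⟨Sum.inl ⟨j, hj⟩, ?_, rfl⟩
        simp only [AA]
        rw [hαγ, eq_e0 (by omega) h0 hsum h00 h2]
      · have h1 : γ 0 = 0 ∧ (γ ⟨1, by omega⟩ < q ∨ (γ ⟨1, by omega⟩ = q ∧
            ∀ j : Fin (n + 1), 2 ≤ j.val → j.val ≤ m → γ j = 0)) := by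
          rcases h1 with h1 | h1 | h1
          · exact ⟨h1.1, Or.inl h1.2⟩
          · exact ⟨h1.1, Or.inr h1.2⟩
          · omega
        obtain ⟨h1, h2⟩ := h1
        have hup : ∀ b, m < b → b < n → γ + e b ∈ DD (II n q m : Ideal (MvPolynomial _ k)) := by
          intro b hb hb'
          rw [mem_D (by omega) (by omega) hq]
          refine ⟨fun a => ?_, ?_⟩
          · have := h0 a; ew
          · rcases h2 with h2 | h2
            · left
              exact ⟨by ew, by ew⟩
            · right; left
              refine ⟨by ew, by ew, fun a ha ha' => ?_⟩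
              have := h2.2 a ha ha'
              ew
        by_cases hg : 1 ≤ j ∧ 1 ≤ γ ⟨j, by omega⟩
        · left
          obtain ⟨hj1, hg⟩ := hg
          obtain ⟨u, hu, hu'⟩ := exists_e (sub_e_nonneg h0 hg) (by
            simp only [Pi.sub_apply, Finset.sum_sub_distrib]
            rw [hsum, sum_e (by omega)]; norm_num)
          simp only at hu'
          have hγ' : γ = e u + e j := by rw [← hu']; abel
          have hα' : α = e u - e 0 := by rw [hαγ, hγ']; abel
          have hu0 : 1 ≤ u := by
            by_contra h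
            rw [hγ'] at h1
            es at h1
            eo at h1
          refine ⟨Sum.inr (Sum.inl ⟨u - 1, by omega⟩), ?_, ?_⟩
          · simp only [AA]
            rw [hα']
            congr 2
            omega
          · simp only [CC]
            have h3 : ∀ a : Fin (n + 1), γ a = (if a.val = u then 1 else 0) + (if a.val = j then 1 else 0) := by
              intro a; rw [hγ']; simp only [Pi.add_apply, e_apply]
            refine ⟨hj1, fun h4 h5 => ?_, fun h4 h5 => ?_, fun h4 h5 => ?_⟩
            · have h6 := h3 ⟨1, by omega⟩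
              simp only at h6
              rcases h2 with h2 | h2
              · eo at h6
              · eo at h6
            · have h6 := h3 ⟨1, by omega⟩
              have h7 := h3 ⟨j, by omega⟩
              simp only [if_true] at h6 h7
              rcases h2 with h2 | h2
              · eo at h6
              · by_contra hcon
                have := h2.2 ⟨j, by omega⟩ h5 (by simp only; omega)
                eo at h7
            · have h6 := h3 ⟨1, by omega⟩
              have h7 := h3 ⟨u, by omega⟩
              simp only [if_true] at h6 h7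
              rcases h2 with h2 | h2
              · eo at h6
              · by_contra hcon
                have := h2.2 ⟨u, by omega⟩ (by simp only; omega) (by simp only; omega)
                eo at h7
        · right
          have hneg : γ ⟨j, by omega⟩ = 0 := by
            by_cases hj0 : j = 0
            · subst hj0; exact h1
            · have := h0 ⟨j, by omega⟩
              omega
          by_cases hjn : j = n - 1
          · by_cases hc : γ ⟨1, by omega⟩ < q
            · refine ⟨Sum.inl ⟨2, by omega⟩, γ + e 2, ?_, fun a => ?_, fun a => ?_, ⟨j, by omega⟩, ?_⟩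
              · rw [mem_D (by omega) (by omega) hq]
                refine ⟨fun a => ?_, Or.inl ⟨?_, ?_⟩⟩
                · have := h0 a; ew
                · ew
                · ew
              · ew
              · rw [hαγ]; ew
              · rw [hαγ]; ew
            · have hm3 : m + 3 ≤ n := by
                rcases hcase with h | h
                · exact h
                · have := le_sum h0 ⟨1, by omega⟩
                  omega
              refine ⟨Sum.inl ⟨n - 2, by omega⟩, γ + e (n - 2), hup _ (by omega) (by omega), fun a => ?_, fun a => ?_, ⟨j, by omega⟩, ?_⟩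
              · ew
              · rw [hαγ]; ew
              · rw [hαγ]; ew
          · refine ⟨Sum.inl ⟨n - 1, by omega⟩, γ + e (n - 1), hup _ (by omega) (by omega), fun a => ?_, fun a => ?_, ⟨j, by omega⟩, ?_⟩
            · ew
            · rw [hαγ]; ew
            · rw [hαγ]; ew
    · set γ : Fin (n + 1) → ℤ := gs n q m (Sum.inr ⟨j, hj, hj'⟩) + α with hγ
      have hαγ : α = γ - (f q 1 + e j) := by rw [hγ, gs]; abel
      have hsum : ∑ i, γ i = q + 1 := by
        rw [hγ]
        simp only [gs, Pi.add_apply, Finset.sum_add_distrib]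
        rw [sum_e (by omega), sum_f (by omega), hα]; omega
      have hD' := (mem_D (by omega) (by omega) hq γ).1 hD
      obtain ⟨h0, h1⟩ := hD'
      have h10 := h0 ⟨1, by omega⟩
      rcases h1 with ⟨h1, h2⟩ | ⟨h1, h2, h3⟩ | ⟨h1, h2⟩
      · by_cases hj1 : j = 1
        · subst hj1
          by_cases hg : 1 ≤ γ ⟨1, by omega⟩
          · left
            have hW : γ - e 1 ∈ TT n q := by
              rw [mem_TT (by omega)]
              refine ⟨sub_e_nonneg h0 hg, by ew, by ew, ?_⟩
              simp only [Pi.sub_apply, Finset.sum_sub_distrib]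
              rw [hsum, sum_e (by omega)]; omega
            refine ⟨Sum.inr (Sum.inr (Sum.inr (Sum.inl ⟨γ - e 1, hW⟩))), ?_, ?_⟩
            · simp only [AA]
              rw [hαγ]; abel
            · simp only [CC]
              intro _ a ha
              have haa : a = ⟨1, by omega⟩ := Fin.ext ha
              rw [haa]
              ew
          · right
            refine ⟨Sum.inr ⟨2, by omega⟩, γ + e 2, ?_, fun a => ?_, fun a => ?_, ⟨1, by omega⟩, ?_⟩
            · rw [mem_D (by omega) (by omega) hq]
              refine ⟨fun a => ?_, Or.inl ⟨?_, ?_⟩⟩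
              · have := h0 a; ew
              · ew
              · ew
            · ew
            · rw [hαγ]; ew
            · rw [hαγ]; ew
        · by_cases hg : 1 ≤ γ ⟨j, by omega⟩
          · left
            have hW : γ - e j ∈ TT n q := by
              rw [mem_TT (by omega)]
              refine ⟨sub_e_nonneg h0 hg, by ew, by ew, ?_⟩
              simp only [Pi.sub_apply, Finset.sum_sub_distrib]
              rw [hsum, sum_e (by omega)]; omega
            refine ⟨Sum.inr (Sum.inr (Sum.inr (Sum.inl ⟨γ - e j, hW⟩))), ?_, ?_⟩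
            · simp only [AA]
              rw [hαγ]; abel
            · simp only [CC]
              intro h; exact absurd h hj1
          · right
            by_cases hb : ∃ b, 2 ≤ b ∧ b ≤ m ∧ b ≠ j
            · obtain ⟨b, hb1, hb2, hb3⟩ := hb
              refine ⟨Sum.inr ⟨b, by omega⟩, γ + e b, ?_, fun a => ?_, fun a => ?_, ⟨j, by omega⟩, ?_⟩
              · rw [mem_D (by omega) (by omega) hq]
                refine ⟨fun a => ?_, Or.inl ⟨?_, ?_⟩⟩
                · have := h0 a; ew
                · ew
                · ew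
              · ew
              · rw [hαγ]; ew
              · rw [hαγ]; ew
            · have hj2 : j = 2 := by
                by_contra h
                exact hb ⟨2, le_rfl, by omega, by omega⟩
              have hm2 : m = 2 := by
                by_contra h
                exact hb ⟨3, by omega, by omega, by omega⟩
              subst hj2
              have h20 := h0 ⟨2, by omega⟩
              refine ⟨Sum.inr ⟨1, by omega⟩, γ + e 1, ?_, fun a => ?_, fun a => ?_, ⟨2, by omega⟩, ?_⟩
              · rw [mem_D (by omega) (by omega) hq]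
                refine ⟨fun a => ?_, ?_⟩
                · have := h0 a; ew
                · by_cases h : γ ⟨1, by omega⟩ + 1 < q
                  · left
                    exact ⟨by ew, by ew⟩
                  · right; left
                    refine ⟨by ew, by ew, fun a ha ha' => ?_⟩
                    have h5 : γ a = 0 := by
                      have h6 : a.val = 2 := by omega
                      have : a = ⟨2, by omega⟩ := Fin.ext h6
                      rw [this]; omega
                    ew
              · ew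
              · rw [hαγ]; ew
              · rw [hαγ]; ew
      · -- `γ = q e₁ + e_u`
        left
        have h4 : ∃ u, (m < u ∧ u ≤ n) ∧ γ = f q 1 + e u := by
          have hnn : ∀ a, 0 ≤ (γ - f q 1 : Fin (n + 1) → ℤ) a := by
            intro a
            have := h0 a
            by_cases ha : a = ⟨1, by omega⟩
            · rw [ha]; ew
            · have ha' : a.val ≠ 1 := fun h => ha (Fin.ext h)
              ew
          obtain ⟨u, hu, hu'⟩ := exists_e hnn (by
            simp only [Pi.sub_apply, Finset.sum_sub_distrib]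
            rw [hsum, sum_f (by omega)]; omega)
          refine ⟨u, ⟨?_, hu⟩, by rw [← hu']; abel⟩
          by_contra hcon
          have h3' := congrFun hu' ⟨u, by omega⟩
          simp only [Pi.sub_apply, e_apply, f_apply, if_true] at h3'
          by_cases hu0 : u = 0
          · subst hu0
            have h4 : γ ⟨0, by omega⟩ = 0 := h1
            simp at h3'
            omega
          · by_cases hu1 : u = 1
            · subst hu1
              rw [if_pos rfl] at h3'
              omega
            · have h4 := h3 ⟨u, by omega⟩ (by simp only; omega) (by simp only; omega)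
              eo at h3'
        obtain ⟨u, ⟨hu, hu'⟩, hγu⟩ := h4
        refine ⟨Sum.inr (Sum.inr (Sum.inr (Sum.inr (⟨j - 1, by omega⟩, ⟨n - u, by omega⟩)))), ?_, ?_⟩
        · simp only [AA]
          rw [hαγ, hγu]
          ext a
          ew
        · simp only [CC]; omega
      · left
        have h6 : ∀ a, 0 ≤ (γ - e 0 : Fin (n + 1) → ℤ) a := by
          have := sub_e_nonneg h0 (i := 0) (by omega)
          simpa using this
        have h5 : ∀ a : Fin (n + 1), a.val ≠ n → (γ - e 0 : Fin (n + 1) → ℤ) a ≤ 0 := by
          intro a ha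
          by_cases ha0 : a = 0
          · subst ha0; ew
          · have h6 : a.val ≠ 0 := fun h => ha0 (Fin.ext (by simpa using h))
            have := h2 a (by omega) (by have := a.2; omega)
            ew
        have h7 : γ - e 0 = f q n := by
          by_contra hne
          obtain ⟨a, ha, ha'⟩ := exists_pos (m := n) (q := q) le_rfl h6 (by
            simp only [Pi.sub_apply, Finset.sum_sub_distrib]
            rw [hsum, sum_e (by omega)]; omega) hne
          have := h5 a ha
          omega
        have h8 : γ = e 0 + f q n := by rw [← h7]; abel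
        refine ⟨Sum.inr (Sum.inr (Sum.inl ⟨j - 1, by omega⟩)), ?_, ?_⟩
        · simp only [AA]
          rw [hαγ, h8]
          ext a
          ew
        · simp only [CC]; omega

theorem main (hm : 2 ≤ m) (hmn : m + 2 ≤ n) (hq : 1 ≤ q) (hcase : m + 3 ≤ n ∨ 3 ≤ q) :
    Module.finrank k ↥(⨆ α : {α : Fin (n + 1) → ℤ // ∑ i, α i = 0},
      tPiece (II n q m : Ideal (MvPolynomial _ k)) α.1) + 1 =
      2 * n + m + (n + q - 1).choose (n - 1) + m * (n - m) := by
  rw [count_of (by omega) (by omega) (data hm hmn hq hcase)]
  simp only [Fintype.card_sum, Fintype.card_fin, Fintype.card_prod, Fintype.card_coe]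
  have := card_TT (n := n) (q := q) (by omega)
  omega

end K777.C47
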