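import Groth.Agent.W4c1hilbpn.K777.Two

set_option autoImplicit false
set_option linter.unusedSimpArgs false
set_option linter.unusedSectionVars false
set_option linter.unusedVariables false
set_option linter.unusedTactic false
set_option linter.unreachableTactic false
set_option linter.unnecessarySeqFocus false

namespace K777.C49

open MvPolynomial W4c1hilbpn K777.Basic K777.Model K777.Decomp K777.Count K777.CountFin K777.Two

variable {k : Type*} [Field k] {n : ℕ}

/-- the classes -/
abbrev Sx (n : ℕ) : Type := (Ix n (n - 1)) ⊕ ((Ix n (n - 1)) ⊕ (Fin (n - 1) ⊕ Fin (n - 1)))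

/-- the degrees of the classes -/
noncomputable def AA : Sx n → Fin (n + 1) → ℤ
  | Sum.inl g => e 0 + e n - gs n 1 (n - 1) g
  | Sum.inr (Sum.inl g) => e 1 + e n - gs n 1 (n - 1) g
  | Sum.inr (Sum.inr (Sum.inl u)) => e (u.val + 2) - e 0
  | Sum.inr (Sum.inr (Sum.inr u)) => e (u.val + 2) - e 1

/-- the classes -/
def CC : Sx n → Ix n (n - 1) → Prop
  | Sum.inl g, i => i = g
  | Sum.inr (Sum.inl g), i => i = g
  | Sum.inr (Sum.inr (Sum.inl u)), Sum.inl j => 2 ≤ j.1
  | Sum.inr (Sum.inr (Sum.inl u)), Sum.inr j => False
  | Sum.inr (Sum.inr (Sum.inr u)), Sum.inl j => False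
  | Sum.inr (Sum.inr (Sum.inr u)), Sum.inr j => 2 ≤ j.1

/-- the representatives -/
def rr (hn : 3 ≤ n) : Sx n → Ix n (n - 1)
  | Sum.inl g => g
  | Sum.inr (Sum.inl g) => g
  | Sum.inr (Sum.inr (Sum.inl u)) => Sum.inl ⟨2, by omega⟩
  | Sum.inr (Sum.inr (Sum.inr u)) => Sum.inr ⟨2, by omega⟩

/-- evaluation tactic -/
macro "ew" : tactic => `(tactic| (simp only [gs, AA, rr, Pi.add_apply, Pi.sub_apply, e_apply, f_apply, Fin.val_zero, eq_self_iff_true, if_true] <;> (try split_ifs) <;> first | omega | contradiction))
/-- evaluation tactic -/
macro "es" " at " h:ident : tactic => `(tactic| simp only [gs, AA, rr, Pi.add_apply, Pi.sub_apply, e_apply, f_apply, Fin.val_zero, eq_self_iff_true, if_true] at $h:ident)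
/-- evaluation tactic -/
macro "eo" " at " h:ident : tactic => `(tactic| ((try split_ifs at $h:ident) <;> first | omega | contradiction))

theorem A1 (i : Ix n (n - 1)) : gs n 1 (n - 1) i + AA (Sum.inl i) = e 0 + e n := by
  simp only [AA]; abel

theorem A2 (i : Ix n (n - 1)) : gs n 1 (n - 1) i + AA (Sum.inr (Sum.inl i)) = e 1 + e n := by
  simp only [AA]; abel

theorem D1 (hn : 3 ≤ n) : e 0 + e n ∈ DD (II n 1 (n - 1) : Ideal (MvPolynomial (Fin (n + 1)) k)) := by
  rw [mem_D (by omega) (by omega) le_rfl]
  refine ⟨fun a => ?_, Or.inr (Or.inr ⟨?_, fun a ha ha' => ?_⟩)⟩ <;> ew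

theorem D2 (hn : 3 ≤ n) : e 1 + e n ∈ DD (II n 1 (n - 1) : Ideal (MvPolynomial (Fin (n + 1)) k)) := by
  rw [mem_D (by omega) (by omega) le_rfl]
  refine ⟨fun a => ?_, Or.inr (Or.inl ⟨?_, ?_, fun a ha ha' => ?_⟩)⟩ <;> ew

/-- the data -/
noncomputable def data (hn : 3 ≤ n) :
    Data (II n 1 (n - 1) : Ideal (MvPolynomial _ k)) (Ix n (n - 1)) (Sx n) (fun α => ∑ i, α i = 0) where
  gens := gs n 1 (n - 1)
  gens_nonneg := gs_nonneg n 1 (n - 1)
  mem_U := mem_UU_span (gs n 1 (n - 1)) (gs_nonneg n 1 (n - 1)) _ (hT n 1 (n - 1) (by omega) (by omega))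
  A := AA
  r := rr hn
  C := CC
  h1 := by
    have hg : ∀ g : Ix n (n - 1), ∑ i, gs n 1 (n - 1) g i = 2 := by
      rintro (⟨j, hj⟩ | ⟨j, hj, hj'⟩)
      · simp only [gs, Pi.add_apply, Finset.sum_add_distrib]
        rw [sum_e (by omega), sum_e (by omega)]; rfl
      · simp only [gs, Pi.add_apply, Finset.sum_add_distrib]
        rw [sum_f (by omega), sum_e (by omega)]; rfl
    rintro (g | g | ⟨u, hu⟩ | ⟨u, hu⟩)
    · simp only [AA, Pi.sub_apply, Pi.add_apply, Finset.sum_sub_distrib, Finset.sum_add_distrib]
      rw [sum_e (by omega), sum_e (by omega), hg]; rfl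
    · simp only [AA, Pi.sub_apply, Pi.add_apply, Finset.sum_sub_distrib, Finset.sum_add_distrib]
      rw [sum_e (by omega), sum_e (by omega), hg]; rfl
    · simp only [AA, Pi.sub_apply, Finset.sum_sub_distrib]
      rw [sum_e (by omega), sum_e (by omega)]; rfl
    · simp only [AA, Pi.sub_apply, Finset.sum_sub_distrib]
      rw [sum_e (by omega), sum_e (by omega)]; rfl
  h2 := by
    rintro (g | g | ⟨u, hu⟩ | ⟨u, hu⟩) i hC
    · simp only [CC] at hC
      subst hC
      rw [A1]; exact D1 hn
    · simp only [CC] at hC
      subst hC
      rw [A2]; exact D2 hn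
    · rcases i with ⟨j, hj⟩ | ⟨j, hj, hj'⟩
      · simp only [CC] at hC
        rw [mem_D (by omega) (by omega) le_rfl]
        refine ⟨fun a => ?_, Or.inl ⟨?_, ?_⟩⟩ <;> ew
      · exact hC.elim
    · rcases i with ⟨j, hj⟩ | ⟨j, hj, hj'⟩
      · exact hC.elim
      · simp only [CC] at hC
        rw [mem_D (by omega) (by omega) le_rfl]
        refine ⟨fun a => ?_, Or.inl ⟨?_, ?_⟩⟩ <;> ew
  hr := by
    rintro (g | g | ⟨u, hu⟩ | ⟨u, hu⟩)
    · rfl
    · rfl
    · simp only [CC, rr]; omega
    · simp only [CC, rr]; omega
  h3 := by
    rintro (g | g | ⟨u, hu⟩ | ⟨u, hu⟩) i i' γ hC hC' h h' hD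
    · simp only [CC] at hC hC'
      subst hC
      rw [mem_D (by omega) (by omega) le_rfl] at hD
      rw [A1] at h
      have h1 := h 0
      es at h1
      rcases hD.2 with h8 | h8 | h8
      · eo at h1
      · eo at h1
      · apply hC'
        apply eq_of_le (by omega) (by omega) le_rfl
        intro a ha
        have h2 := h' a
        simp only [AA, Pi.add_apply, Pi.sub_apply] at h2
        by_cases ha0 : a = 0
        · subst ha0
          rw [h8.1] at h2
          simp only [e_apply, Fin.val_zero, eq_self_iff_true, if_true] at h2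
          eo at h2
        · have ha0' : a.val ≠ 0 := fun h => ha0 (Fin.ext (by simpa using h))
          rw [h8.2 a (by omega) ha] at h2
          simp only [e_apply, Fin.val_zero, eq_self_iff_true, if_true] at h2
          eo at h2
    · simp only [CC] at hC hC'
      subst hC
      rw [mem_D (by omega) (by omega) le_rfl] at hD
      rw [A2] at h
      have h1 := h ⟨1, by omega⟩
      es at h1
      rcases hD.2 with h8 | h8 | h8
      · eo at h1
      · apply hC'
        apply eq_of_le (by omega) (by omega) le_rfl
        intro a ha
        have h2 := h' a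
        simp only [AA, Pi.add_apply, Pi.sub_apply] at h2
        by_cases ha0 : a = 0
        · subst ha0
          rw [h8.1] at h2
          simp only [e_apply, Fin.val_zero, eq_self_iff_true, if_true] at h2
          eo at h2
        · have ha0' : a.val ≠ 0 := fun h => ha0 (Fin.ext (by simpa using h))
          by_cases ha1 : a = ⟨1, by omega⟩
          · rw [ha1, h8.2.1] at h2
            simp only [e_apply, Fin.val_zero, eq_self_iff_true, if_true] at h2
            rw [ha1]
            eo at h2
          · have ha1' : a.val ≠ 1 := fun h => ha1 (Fin.ext (by simpa using h))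
            rw [h8.2.2 a (by omega) (by omega)] at h2
            simp only [e_apply, Fin.val_zero, eq_self_iff_true, if_true] at h2
            eo at h2
      · have := h8.2 ⟨1, by omega⟩ le_rfl (by simp only; omega)
        eo at h1
    · rcases i with ⟨j, hj⟩ | ⟨j, hj, hj'⟩
      · simp only [CC] at hC
        rw [mem_D (by omega) (by omega) le_rfl] at hD
        have h1 := h ⟨j, by omega⟩
        es at h1
        have h4 : 1 ≤ γ ⟨j, by omega⟩ := by eo at h1
        have h5 : γ 0 = 0 ∧ γ ⟨1, by omega⟩ = 0 := by
          rcases hD.2 with h8 | h8 | h8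
          · have := hD.1 ⟨1, by omega⟩
            exact ⟨h8.1, by omega⟩
          · have := h8.2.2 ⟨j, by omega⟩ hC (by simp only; omega)
            omega
          · have := h8.2 ⟨j, by omega⟩ (by simp only; omega) (by simp only; omega)
            omega
        rcases i' with ⟨i, hi⟩ | ⟨i, hi, hi'⟩
        · simp only [CC] at hC'
          have h2 := h' 0
          have h3 := h' ⟨1, by omega⟩
          es at h2
          es at h3
          by_cases hi0 : i = 0
          · eo at h2
          · eo at h3
        · have h3 := h' ⟨1, by omega⟩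
          es at h3
          eo at h3
      · exact hC.elim
    · rcases i with ⟨j, hj⟩ | ⟨j, hj, hj'⟩
      · exact hC.elim
      · simp only [CC] at hC
        rw [mem_D (by omega) (by omega) le_rfl] at hD
        have h1 := h ⟨j, by omega⟩
        es at h1
        have h4 : 1 ≤ γ ⟨j, by omega⟩ := by eo at h1
        have h5 : γ 0 = 0 ∧ γ ⟨1, by omega⟩ = 0 := by
          rcases hD.2 with h8 | h8 | h8
          · have := hD.1 ⟨1, by omega⟩
            exact ⟨h8.1, by omega⟩
          · have := h8.2.2 ⟨j, by omega⟩ hC (by simp only; omega)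
            omega
          · have := h8.2 ⟨j, by omega⟩ (by simp only; omega) (by simp only; omega)
            omega
        rcases i' with ⟨i, hi⟩ | ⟨i, hi, hi'⟩
        · have h2 := h' 0
          es at h2
          eo at h2
        · simp only [CC] at hC'
          have h3 := h' ⟨1, by omega⟩
          es at h3
          eo at h3
  h4 := by
    rintro (g | g | ⟨u, hu⟩ | ⟨u, hu⟩) (g' | g' | ⟨u', hu'⟩ | ⟨u', hu'⟩) i hA hC hC'
    · simp only [CC] at hC hC'
      subst hC hC'; rfl
    · simp only [CC] at hC hC'
      subst hC hC'
      have h1 := congrFun hA 0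
      rcases i with ⟨j, hj⟩ | ⟨j, hj, hj'⟩ <;> (es at h1; eo at h1)
    · simp only [CC] at hC
      subst hC
      have h1 := congrFun hA 0
      rcases i with ⟨j, hj⟩ | ⟨j, hj, hj'⟩
      · simp only [CC] at hC'
        es at h1; eo at h1
      · exact hC'.elim
    · simp only [CC] at hC
      subst hC
      have h1 := congrFun hA 0
      rcases i with ⟨j, hj⟩ | ⟨j, hj, hj'⟩
      · exact hC'.elim
      · simp only [CC] at hC'
        es at h1; eo at h1
    · simp only [CC] at hC hC'
      subst hC hC'
      have h1 := congrFun hA 0
      rcases i with ⟨j, hj⟩ | ⟨j, hj, hj'⟩ <;> (es at h1; eo at h1)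
    · simp only [CC] at hC hC'
      subst hC hC'; rfl
    · simp only [CC] at hC
      subst hC
      have h1 := congrFun hA ⟨1, by omega⟩
      rcases i with ⟨j, hj⟩ | ⟨j, hj, hj'⟩
      · simp only [CC] at hC'
        es at h1; eo at h1
      · exact hC'.elim
    · simp only [CC] at hC
      subst hC
      have h1 := congrFun hA ⟨1, by omega⟩
      rcases i with ⟨j, hj⟩ | ⟨j, hj, hj'⟩
      · exact hC'.elim
      · simp only [CC] at hC'
        es at h1; eo at h1
    · simp only [CC] at hC'
      subst hC'
      have h1 := congrFun hA 0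
      rcases i with ⟨j, hj⟩ | ⟨j, hj, hj'⟩
      · simp only [CC] at hC
        es at h1; eo at h1
      · exact hC.elim
    · simp only [CC] at hC'
      subst hC'
      have h1 := congrFun hA ⟨1, by omega⟩
      rcases i with ⟨j, hj⟩ | ⟨j, hj, hj'⟩
      · simp only [CC] at hC
        es at h1; eo at h1
      · exact hC.elim
    · have h1 := congrFun hA ⟨u + 2, by omega⟩
      es at h1
      have : u = u' := by eo at h1
      subst this; rfl
    · rcases i with ⟨j, hj⟩ | ⟨j, hj, hj'⟩
      · exact hC'.elim
      · exact hC.elim
    · simp only [CC] at hC'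
      subst hC'
      have h1 := congrFun hA 0
      rcases i with ⟨j, hj⟩ | ⟨j, hj, hj'⟩
      · exact hC.elim
      · simp only [CC] at hC
        es at h1; eo at h1
    · simp only [CC] at hC'
      subst hC'
      have h1 := congrFun hA ⟨1, by omega⟩
      rcases i with ⟨j, hj⟩ | ⟨j, hj, hj'⟩
      · exact hC.elim
      · simp only [CC] at hC
        es at h1; eo at h1
    · rcases i with ⟨j, hj⟩ | ⟨j, hj, hj'⟩
      · exact hC.elim
      · exact hC'.elim
    · have h1 := congrFun hA ⟨u + 2, by omega⟩
      es at h1
      have : u = u' := by eo at h1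
      subst this; rfl
  h5 := by
    rintro (g | g | ⟨u, hu⟩ | ⟨u, hu⟩) i hC
    · simp only [CC] at hC
      subst hC
      refine ⟨e 0 + e n, D1 hn, fun a => ?_, fun a => ?_⟩
      · rw [A1]
      · simp only [rr]; rw [A1]
    · simp only [CC] at hC
      subst hC
      refine ⟨e 1 + e n, D2 hn, fun a => ?_, fun a => ?_⟩
      · rw [A2]
      · simp only [rr]; rw [A2]
    · rcases i with ⟨j, hj⟩ | ⟨j, hj, hj'⟩
      · simp only [CC] at hC
        refine ⟨e j + e (u + 2) + e 2, ?_, fun a => ?_, fun a => ?_⟩
        · rw [mem_D (by omega) (by omega) le_rfl]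
          refine ⟨fun a => ?_, Or.inl ⟨?_, ?_⟩⟩ <;> ew
        · ew
        · ew
      · exact hC.elim
    · rcases i with ⟨j, hj⟩ | ⟨j, hj, hj'⟩
      · exact hC.elim
      · simp only [CC] at hC
        refine ⟨e j + e (u + 2) + e 2, ?_, fun a => ?_, fun a => ?_⟩
        · rw [mem_D (by omega) (by omega) le_rfl]
          refine ⟨fun a => ?_, Or.inl ⟨?_, ?_⟩⟩ <;> ew
        · ew
        · ew
  h6 := by
    rintro α i hα hD
    have hg : ∑ a, gs n 1 (n - 1) i a = 2 := by
      rcases i with ⟨j, hj⟩ | ⟨j, hj, hj'⟩
      · simp only [gs, Pi.add_apply, Finset.sum_add_distrib]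
        rw [sum_e (by omega), sum_e (by omega)]; rfl
      · simp only [gs, Pi.add_apply, Finset.sum_add_distrib]
        rw [sum_f (by omega), sum_e (by omega)]; rfl
    set γ : Fin (n + 1) → ℤ := gs n 1 (n - 1) i + α with hγ
    have hαγ : α = γ - gs n 1 (n - 1) i := by rw [hγ]; abel
    have hsum : ∑ i, γ i = 2 := by
      rw [hγ]
      simp only [Pi.add_apply, Finset.sum_add_distrib]
      rw [hα, hg]; rfl
    have hD' := (mem_D (by omega) (by omega) le_rfl γ).1 hD
    obtain ⟨h0, h1⟩ := hD'
    rcases h1 with ⟨h1, h2⟩ | ⟨h1, h2, h3⟩ | ⟨h1, h2⟩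
    · have h2' : γ ⟨1, by omega⟩ = 0 := by have := h0 ⟨1, by omega⟩; omega
      rcases i with ⟨j, hj⟩ | ⟨j, hj, hj'⟩
      · by_cases hj1 : j ≤ 1
        · right
          refine ⟨Sum.inl ⟨2, by omega⟩, γ + e 2, ?_, fun a => ?_, fun a => ?_, ⟨j, by omega⟩, ?_⟩
          · rw [mem_D (by omega) (by omega) le_rfl]
            refine ⟨fun a => ?_, Or.inl ⟨?_, ?_⟩⟩
            · have := h0 a; ew
            · ew
            · ew
          · ew
          · rw [hαγ]; ew
          · rw [hαγ]
            have h5 : γ ⟨j, by omega⟩ = 0 := by
              by_cases hj0 : j = 0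
              · subst hj0; exact h1
              · have : j = 1 := by omega
                subst this; exact h2'
            ew
        · by_cases hg : 1 ≤ γ ⟨j, by omega⟩
          · left
            obtain ⟨u, hu, hu'⟩ := exists_e (sub_e_nonneg h0 hg) (by
              simp only [Pi.sub_apply, Finset.sum_sub_distrib]
              rw [hsum, sum_e (by omega)]; norm_num)
            simp only at hu'
            have hγ' : γ = e u + e j := by rw [← hu']; abel
            have hα' : α = e u - e 0 := by rw [hαγ, hγ']; simp only [gs]; abel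
            have hu0 : 2 ≤ u := by
              rw [hγ'] at h1 h2'
              es at h1
              es at h2'
              by_cases h : u = 0
              · eo at h1
              · by_contra h3
                eo at h2'
            refine ⟨Sum.inr (Sum.inr (Sum.inl ⟨u - 2, by omega⟩)), ?_, ?_⟩
            · simp only [AA]
              rw [hα']
              congr 2
              omega
            · simp only [CC]; omega
          · right
            by_cases hb : ∃ b, 2 ≤ b ∧ b < n ∧ b ≠ j
            · obtain ⟨b, hb1, hb2, hb3⟩ := hb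
              refine ⟨Sum.inl ⟨b, hb2⟩, γ + e b, ?_, fun a => ?_, fun a => ?_, ⟨j, by omega⟩, ?_⟩
              · rw [mem_D (by omega) (by omega) le_rfl]
                refine ⟨fun a => ?_, Or.inl ⟨?_, ?_⟩⟩
                · have := h0 a; ew
                · ew
                · ew
              · ew
              · rw [hαγ]; ew
              · rw [hαγ]; ew
            · have hj2 : j = 2 := by
                by_contra h
                exact hb ⟨2, le_rfl, by omega, by omega⟩
              have hn3 : n = 3 := by
                by_contra h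
                exact hb ⟨3, by omega, by omega, by omega⟩
              subst hj2 hn3
              have := h0 ⟨2, by omega⟩
              refine ⟨Sum.inl ⟨0, by omega⟩, γ + e 0, ?_, fun a => ?_, fun a => ?_, ⟨2, by omega⟩, ?_⟩
              · rw [mem_D (by omega) (by omega) le_rfl]
                refine ⟨fun a => ?_, Or.inr (Or.inr ⟨?_, fun a ha ha' => ?_⟩)⟩
                · have := h0 a; ew
                · ew
                · have h5 : γ a = 0 := by
                    have h6 : a.val = 1 ∨ a.val = 2 := by omega
                    rcases h6 with h6 | h6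
                    · have : a = ⟨1, by omega⟩ := Fin.ext h6
                      rw [this]; exact h2'
                    · have : a = ⟨2, by omega⟩ := Fin.ext h6
                      rw [this]; omega
                  ew
              · ew
              · rw [hαγ]; ew
              · rw [hαγ]; ew
      · by_cases hj1 : j = 1
        · subst hj1
          right
          refine ⟨Sum.inr ⟨2, by omega⟩, γ + e 2, ?_, fun a => ?_, fun a => ?_, ⟨1, by omega⟩, ?_⟩
          · rw [mem_D (by omega) (by omega) le_rfl]
            refine ⟨fun a => ?_, Or.inl ⟨?_, ?_⟩⟩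
            · have := h0 a; ew
            · ew
            · ew
          · ew
          · rw [hαγ]; ew
          · rw [hαγ]
            ew
        · by_cases hg : 1 ≤ γ ⟨j, by omega⟩
          · left
            obtain ⟨u, hu, hu'⟩ := exists_e (sub_e_nonneg h0 hg) (by
              simp only [Pi.sub_apply, Finset.sum_sub_distrib]
              rw [hsum, sum_e (by omega)]; norm_num)
            simp only at hu'
            have hγ' : γ = e u + e j := by rw [← hu']; abel
            have hα' : α = e u - e 1 := by
              rw [hαγ, hγ']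
              ext a
              ew
            have hu0 : 2 ≤ u := by
              rw [hγ'] at h1 h2'
              es at h1
              es at h2'
              by_cases h : u = 0
              · eo at h1
              · by_contra h3
                eo at h2'
            refine ⟨Sum.inr (Sum.inr (Sum.inr ⟨u - 2, by omega⟩)), ?_, ?_⟩
            · simp only [AA]
              rw [hα']
              congr 2
              omega
            · simp only [CC]; omega
          · right
            by_cases hb : ∃ b, 2 ≤ b ∧ b < n ∧ b ≠ j
            · obtain ⟨b, hb1, hb2, hb3⟩ := hb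
              refine ⟨Sum.inr ⟨b, by omega⟩, γ + e b, ?_, fun a => ?_, fun a => ?_, ⟨j, by omega⟩, ?_⟩
              · rw [mem_D (by omega) (by omega) le_rfl]
                refine ⟨fun a => ?_, Or.inl ⟨?_, ?_⟩⟩
                · have := h0 a; ew
                · ew
                · ew
              · ew
              · rw [hαγ]; ew
              · rw [hαγ]; ew
            · have hj2 : j = 2 := by
                by_contra h
                exact hb ⟨2, le_rfl, by omega, by omega⟩
              have hn3 : n = 3 := by
                by_contra h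
                exact hb ⟨3, by omega, by omega, by omega⟩
              subst hj2 hn3
              have := h0 ⟨2, by omega⟩
              refine ⟨Sum.inr ⟨1, by omega⟩, γ + e 1, ?_, fun a => ?_, fun a => ?_, ⟨2, by omega⟩, ?_⟩
              · rw [mem_D (by omega) (by omega) le_rfl]
                refine ⟨fun a => ?_, Or.inr (Or.inl ⟨?_, ?_, fun a ha ha' => ?_⟩)⟩
                · have := h0 a; ew
                · ew
                · ew
                · have h5 : γ a = 0 := by
                    have h6 : a.val = 2 := by omega
                    have : a = ⟨2, by omega⟩ := Fin.ext h6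
                    rw [this]; omega
                  ew
              · ew
              · rw [hαγ]; ew
              · rw [hαγ]; ew
    · left
      refine ⟨Sum.inr (Sum.inl i), ?_, rfl⟩
      have h4 : γ = e 1 + e n := by
        obtain ⟨u, hu, hu'⟩ := exists_e (sub_e_nonneg h0 (i := ⟨1, by omega⟩) (by omega)) (by
          simp only [Pi.sub_apply, Finset.sum_sub_distrib]
          rw [hsum, sum_e (by omega)]; norm_num)
        simp only at hu'
        have hun : u = n := by
          by_contra hne
          have h3' := congrFun hu' ⟨u, by omega⟩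
          simp only [Pi.sub_apply, e_apply, if_true] at h3'
          by_cases hu0 : u = 0
          · subst hu0
            have h4 : γ ⟨0, by omega⟩ = 0 := h1
            simp at h3'
            omega
          · by_cases hu1 : u = 1
            · subst hu1
              rw [if_pos rfl] at h3'
              omega
            · have h4 := h3 ⟨u, by omega⟩ (by simp only; omega) (by simp only; omega)
              eo at h3'
        subst hun
        rw [← hu']; abel
      simp only [AA]
      rw [hαγ, h4]
    · left
      refine ⟨Sum.inl i, ?_, rfl⟩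
      simp only [AA]
      rw [hαγ, eq_e0 (by omega) h0 hsum h1 h2]

theorem main (hn : 3 ≤ n) :
    Module.finrank k ↥(⨆ α : {α : Fin (n + 1) → ℤ // ∑ i, α i = 0},
      tPiece (II n 1 (n - 1) : Ideal (MvPolynomial _ k)) α.1) = 6 * n - 4 := by
  have hfin1 : Fintype {j : ℕ // j < n} := Fintype.ofEquiv (Fin n) Fin.equivSubtype
  have e2 : {j : ℕ // 1 ≤ j ∧ j ≤ n - 1} ≃ Fin (n - 1) :=
    { toFun := fun j => ⟨j.1 - 1, by have := j.2; omega⟩
      invFun := fun j => ⟨j.1 + 1, by have := j.2; omega⟩
      left_inv := fun j => by ext; simp; have := j.2; omega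
      right_inv := fun j => by ext; simp }
  have hfin2 : Fintype {j : ℕ // 1 ≤ j ∧ j ≤ n - 1} := Fintype.ofEquiv _ e2.symm
  rw [count_of (by omega) (by omega) (data hn)]
  simp only [Fintype.card_sum, Fintype.card_fin]
  rw [Fintype.card_congr e2, Fintype.card_fin, ← Fintype.card_congr (Fin.equivSubtype (n := n)), Fintype.card_fin]
  omega

end K777.C49
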