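import Groth.Agent.W4c1hilbpn.K777.CountFin

set_option autoImplicit false
set_option linter.unusedSimpArgs false
set_option linter.unusedSectionVars false
set_option linter.unusedVariables false
set_option linter.unusedTactic false
set_option linter.unreachableTactic false
set_option linter.unnecessarySeqFocus false

namespace K777.C50

open MvPolynomial W4c1hilbpn K777.Basic K777.Model K777.Decomp K777.Count K777.CountFin

variable {k : Type*} [Field k] (n q : ℕ)

/-- index of generators -/
abbrev Ix : Type := Option {j : ℕ // j < n}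

/-- the generators -/
def gs : Ix n → Fin (n + 1) → ℤ
  | none => f q 1
  | some j => e 0 + e j.1

/-- the ideal -/
noncomputable abbrev II : Ideal (MvPolynomial (Fin (n + 1)) k) :=
  Ideal.span ({f : MvPolynomial (Fin (n + 1)) k | ∃ i : Fin (n + 1), i.val + 1 ≤ n ∧ f = MvPolynomial.X 0 * MvPolynomial.X i} ∪ {MvPolynomial.X 1 ^ q})

theorem hT (hn : 3 ≤ n) : ({f : MvPolynomial (Fin (n + 1)) k | ∃ i : Fin (n + 1), i.val + 1 ≤ n ∧ f = MvPolynomial.X 0 * MvPolynomial.X i} ∪ {MvPolynomial.X 1 ^ q}) =
    Set.range fun i => monomial (vn (gs n q i)) (1 : k) := by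
  have h1 : (1 : Fin (n + 1)) = ⟨1, by omega⟩ := by
    apply Fin.ext; rw [Fin.val_one']; exact Nat.mod_eq_of_lt (by omega)
  have h1' : (1 : Fin (n + 1)).val = 1 := by rw [h1]
  have hk : ∀ i : Fin (n + 1), monomial (vn (e 0 + e i.val) : Fin (n + 1) →₀ ℕ) (1 : k) = X 0 * X i := by
    intro i
    have := vn_e_add_e (i := (0 : Fin (n + 1))) (j := i)
    rw [Fin.val_zero] at this
    rw [this, X, X, monomial_mul, one_mul]
  have hk' : monomial (vn (K777.CountFin.f q 1) : Fin (n + 1) →₀ ℕ) (1 : k) = X 1 ^ q := by
    have := vn_f (q := q) (i := (1 : Fin (n + 1)))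
    rw [h1'] at this
    rw [this, X_pow_eq_monomial]
  ext g
  constructor
  · rintro (⟨i, hi, rfl⟩ | hg)
    · exact ⟨some ⟨i.val, by omega⟩, hk i⟩
    · rw [Set.mem_singleton_iff] at hg
      subst hg
      exact ⟨none, hk'⟩
  · rintro ⟨_ | ⟨j, hj⟩, rfl⟩
    · right; exact hk'
    · left
      exact ⟨⟨j, by omega⟩, by simpa using hj, hk ⟨j, by omega⟩⟩

theorem gs_nonneg (i : Ix n) (j : Fin (n + 1)) : 0 ≤ gs n q i j := by
  rcases i with _ | i
  · simp only [gs, f_apply]; split_ifs <;> omega
  · simp only [gs, Pi.add_apply, e_apply]; split_ifs <;> omega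

variable {n q}

theorem mem_D (hn : 3 ≤ n) (hq : 2 ≤ q) (γ : Fin (n + 1) → ℤ) :
    γ ∈ DD (II n q : Ideal (MvPolynomial _ k)) ↔
    (∀ i, 0 ≤ γ i) ∧ ((γ 0 = 0 ∧ γ ⟨1, by omega⟩ < q) ∨ (γ 0 = 1 ∧ ∀ j : Fin (n + 1), 1 ≤ j.val → j.val < n → γ j = 0)) := by
  rw [mem_DD_iff, mem_UU_span (gs n q) (gs_nonneg n q) _ (hT n q hn)]
  refine and_congr_right fun h0 => ?_
  constructor
  · intro h
    by_contra hcon
    apply h
    have h0' := h0 0
    by_cases h1 : (q : ℤ) ≤ γ ⟨1, by omega⟩
    · refine ⟨none, fun j => ?_⟩
      simp only [gs, f_apply]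
      have := h0 j
      split_ifs with h2
      · have : j = ⟨1, by omega⟩ := Fin.ext h2
        rw [this]; exact h1
      · exact this
    · by_cases h2 : 2 ≤ γ 0
      · refine ⟨some ⟨0, by omega⟩, fun j => ?_⟩
        simp only [gs, Pi.add_apply, e_apply]
        have := h0 j
        split_ifs with h2
        · have : j = 0 := Fin.ext (by simpa using h2)
          subst this; omega
        · omega
      · have h3 : γ 0 = 1 := by
          by_contra h3; apply hcon; left; omega
        have h4 : ¬ ∀ j : Fin (n + 1), 1 ≤ j.val → j.val < n → γ j = 0 := fun h => hcon (Or.inr ⟨h3, h⟩)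
        push Not at h4
        obtain ⟨j, hj, hj', hj''⟩ := h4
        refine ⟨some ⟨j.val, by omega⟩, fun a => ?_⟩
        simp only [gs, Pi.add_apply, e_apply]
        have h5 := h0 a
        have h6 := h0 j
        split_ifs with h7 h8 h8
        · omega
        · have : a = 0 := Fin.ext (by simpa using h7)
          subst this; omega
        · have : a = j := Fin.ext h8
          subst this; omega
        · omega
  · rintro h ⟨_ | ⟨j, hj⟩, hi⟩
    · have h1 := hi ⟨1, by omega⟩
      simp only [gs, f_apply, if_true] at h1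
      rcases h with h | h
      · omega
      · have := h.2 ⟨1, by omega⟩ le_rfl (by simp only; omega)
        omega
    · have h1 := hi 0
      have h2 := hi ⟨j, by omega⟩
      simp only [gs, Pi.add_apply, e_apply, Fin.val_zero] at h1 h2
      rcases h with h | h
      · split_ifs at h1 <;> first | omega | contradiction
      · by_cases hj0 : j = 0
        · subst hj0; simp at h1; omega
        · have := h.2 ⟨j, by omega⟩ (by simp only; omega) hj
          split_ifs at h2 <;> first | omega | contradiction

variable (n q) in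
/-- targets of the last generator -/
noncomputable def TT : Finset (Fin (n + 1) → ℤ) :=
  open Classical in insert (e 0 + f (q - 1) n) (((W n q).erase (f q 1)).erase (f q n))

theorem f_mem_W {m : ℕ} (hm : 1 ≤ m) (hm' : m ≤ n) : f q m ∈ W n q := by
  rw [mem_W]
  refine ⟨fun i => ?_, ?_, sum_f hm'⟩
  · simp only [f_apply]; split_ifs <;> omega
  · simp only [f_apply, Fin.val_zero]; split_ifs <;> omega

theorem card_TT (hn : 3 ≤ n) (hq : 2 ≤ q) :
    (TT n q).card + 1 = (n + q - 1).choose (n - 1) := by
  classical
  rw [TT, Finset.card_insert_of_notMem, Finset.card_erase_of_mem, Finset.card_erase_of_mem, ← card_W (by omega)]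
  · have h1 : 2 ≤ (W n q).card := by
      have h2 : ({f q 1, f q n} : Finset (Fin (n + 1) → ℤ)) ⊆ W n q := by
        intro x hx
        rw [Finset.mem_insert, Finset.mem_singleton] at hx
        rcases hx with rfl | rfl
        · exact f_mem_W le_rfl (by omega)
        · exact f_mem_W (by omega) le_rfl
      have h3 := Finset.card_le_card h2
      rwa [Finset.card_pair] at h3
      intro h
      have := congrFun h ⟨1, by omega⟩
      simp only [f_apply] at this
      split_ifs at this <;> omega
    omega
  · exact f_mem_W le_rfl (by omega)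
  · rw [Finset.mem_erase]
    refine ⟨?_, f_mem_W (by omega) le_rfl⟩
    intro h
    have := congrFun h ⟨1, by omega⟩
    simp only [f_apply] at this
    split_ifs at this <;> omega
  · rw [Finset.mem_erase, Finset.mem_erase, mem_W]
    rintro ⟨-, -, -, h, -⟩
    simp only [Pi.add_apply, e_apply, f_apply, Fin.val_zero, eq_self_iff_true, if_true] at h
    split_ifs at h <;> first | omega | contradiction

theorem mem_TT (hn : 3 ≤ n) (hq : 2 ≤ q) {δ : Fin (n + 1) → ℤ} :
    δ ∈ TT n q ↔ δ ∈ DD (II n q : Ideal (MvPolynomial _ k)) ∧ ∑ i, δ i = q ∧ δ ≠ f q n := by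
  classical
  rw [TT, Finset.mem_insert, Finset.mem_erase, Finset.mem_erase, mem_W, mem_D hn hq]
  constructor
  · rintro (rfl | ⟨h1, h2, h3, h4, h5⟩)
    · refine ⟨⟨fun i => ?_, Or.inr ⟨?_, fun j hj hj' => ?_⟩⟩, ?_, fun h => ?_⟩
      · simp only [Pi.add_apply, e_apply, f_apply]; split_ifs <;> omega
      · simp only [Pi.add_apply, e_apply, f_apply, Fin.val_zero]; split_ifs <;> omega
      · simp only [Pi.add_apply, e_apply, f_apply]; split_ifs <;> omega
      · simp only [Pi.add_apply, Finset.sum_add_distrib]
        rw [sum_e (by omega), sum_f le_rfl]; omega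
      · have := congrFun h 0
        simp only [Pi.add_apply, e_apply, f_apply, Fin.val_zero, eq_self_iff_true, if_true] at this
        split_ifs at this <;> omega
    · refine ⟨⟨h3, Or.inl ⟨h4, ?_⟩⟩, h5, h1⟩
      by_contra hcon
      obtain ⟨j, hj, hj'⟩ := exists_pos (m := 1) (by omega) h3 h5 h2
      have := add_le_sum h3 (i := j) (j := ⟨1, by omega⟩) (by intro h; rw [h] at hj; exact hj rfl)
      omega
  · rintro ⟨⟨h1, h2⟩, h3, h4⟩
    rcases h2 with h2 | h2
    · right
      refine ⟨h4, ?_, h1, h2.1, h3⟩
      rintro rfl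
      simp only [f_apply, if_true] at h2
      omega
    · left
      have h5 : ∀ j : Fin (n + 1), j.val ≠ n → (δ - e 0 : Fin (n + 1) → ℤ) j ≤ 0 := by
        intro j hj
        by_cases hj0 : j = 0
        · subst hj0
          simp only [Pi.sub_apply, e_apply, Fin.val_zero, if_true]; omega
        · have h6 : j.val ≠ 0 := fun h => hj0 (Fin.ext (by simpa using h))
          have := h2.2 j (by omega) (by have := j.2; omega)
          simp only [Pi.sub_apply, e_apply]; split_ifs <;> omega
      have h6 : ∀ j, 0 ≤ (δ - e 0 : Fin (n + 1) → ℤ) j := by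
        have := sub_e_nonneg h1 (i := 0) (by omega)
        simpa using this
      have h7 : δ - e 0 = f (q - 1) n := by
        by_contra hne
        obtain ⟨j, hj, hj'⟩ := exists_pos (m := n) (q := q - 1) le_rfl h6 (by
          simp only [Pi.sub_apply, Finset.sum_sub_distrib]
          rw [h3, sum_e (by omega)]; omega) hne
        have := h5 j hj
        omega
      rw [← h7]; abel


/-- the classes -/
abbrev Sx (n q : ℕ) : Type := (↥(TT n q)) ⊕ (Unit ⊕ (Fin n ⊕ Fin (n - 1)))

/-- the degrees of the classes -/
noncomputable def AA : Sx n q → Fin (n + 1) → ℤ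
  | Sum.inl δ => δ.1 - f q 1
  | Sum.inr (Sum.inl _) => e n - e 0
  | Sum.inr (Sum.inr (Sum.inl u)) => e (u.val + 1) - e 0
  | Sum.inr (Sum.inr (Sum.inr j)) => e n - e (j.val + 1)

/-- the classes -/
def CC : Sx n q → Ix n → Prop
  | Sum.inl _, none => True
  | Sum.inl _, some _ => False
  | Sum.inr (Sum.inl _), none => False
  | Sum.inr (Sum.inl _), some j => j.1 = 0
  | Sum.inr (Sum.inr (Sum.inl u)), none => False
  | Sum.inr (Sum.inr (Sum.inl u)), some j => 1 ≤ j.1 ∧ (u.val = 0 → j.1 = 1 → 3 ≤ q)
  | Sum.inr (Sum.inr (Sum.inr j)), none => False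
  | Sum.inr (Sum.inr (Sum.inr j)), some i => i.1 = j.val + 1

/-- the representatives -/
def rr (hn : 3 ≤ n) : Sx n q → Ix n
  | Sum.inl _ => none
  | Sum.inr (Sum.inl _) => some ⟨0, by omega⟩
  | Sum.inr (Sum.inr (Sum.inl _)) => some ⟨2, by omega⟩
  | Sum.inr (Sum.inr (Sum.inr j)) => some ⟨j.val + 1, by have := j.2; omega⟩

macro "ev" : tactic => `(tactic| (simp only [gs, AA, rr, Pi.add_apply, Pi.sub_apply, e_apply, f_apply, Fin.val_zero, eq_self_iff_true, if_true] <;> (try split_ifs) <;> first | omega | contradiction))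

/-- the data -/
noncomputable def data (hn : 3 ≤ n) (hq : 2 ≤ q) (hq' : 4 ≤ n ∨ 4 ≤ q) :
    Data (II n q : Ideal (MvPolynomial _ k)) (Ix n) (Sx n q) (fun α => ∑ i, α i = 0) where
  gens := gs n q
  gens_nonneg := gs_nonneg n q
  mem_U := mem_UU_span (gs n q) (gs_nonneg n q) _ (hT n q hn)
  A := AA
  r := rr hn
  C := CC
  h1 := by
    rintro (⟨δ, hδ⟩ | _ | ⟨u, hu⟩ | ⟨j, hj⟩)
    · simp only [AA, Pi.sub_apply, Finset.sum_sub_distrib]
      rw [sum_f (by omega), ((mem_TT (k := k) hn hq).1 hδ).2.1]; omega
    · simp only [AA, Pi.sub_apply, Finset.sum_sub_distrib]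
      rw [sum_e le_rfl, sum_e (by omega)]; rfl
    · simp only [AA, Pi.sub_apply, Finset.sum_sub_distrib]
      rw [sum_e (by omega), sum_e (by omega)]; rfl
    · simp only [AA, Pi.sub_apply, Finset.sum_sub_distrib]
      rw [sum_e le_rfl, sum_e (by omega)]; rfl
  h2 := by
    rintro (⟨δ, hδ⟩ | _ | ⟨u, hu⟩ | ⟨j, hj⟩) (_ | ⟨i, hi⟩) hC
    · have h1 := ((mem_TT (k := k) hn hq).1 hδ).1
      have : gs n q none + AA (Sum.inl ⟨δ, hδ⟩ : Sx n q) = δ := by
        simp only [gs, AA]; abel
      rwa [this]
    · exact hC.elim
    · exact hC.elim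
    · simp only [CC] at hC
      subst hC
      rw [mem_D hn hq]
      refine ⟨fun a => ?_, Or.inr ⟨?_, fun a ha ha' => ?_⟩⟩
      · ev
      · ev
      · ev
    · exact hC.elim
    · simp only [CC] at hC
      rw [mem_D hn hq]
      refine ⟨fun a => ?_, Or.inl ⟨?_, ?_⟩⟩
      · ev
      · ev
      · ev
    · exact hC.elim
    · simp only [CC] at hC
      subst hC
      rw [mem_D hn hq]
      refine ⟨fun a => ?_, Or.inr ⟨?_, fun a ha ha' => ?_⟩⟩
      · ev
      · ev
      · ev
  hr := by
    rintro (⟨δ, hδ⟩ | _ | ⟨u, hu⟩ | ⟨j, hj⟩)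
    · trivial
    · rfl
    · simp only [CC, rr]; omega
    · rfl
  h3 := by
    rintro (⟨δ, hδ⟩ | _ | ⟨u, hu⟩ | ⟨j, hj⟩) (_ | ⟨i, hi⟩) (_ | ⟨i', hi'⟩) γ hC hC' h h' hD
    · exact hC' trivial
    · obtain ⟨hδ1, hδ2, hδ3⟩ := (mem_TT (k := k) hn hq).1 hδ
      rw [mem_D hn hq] at hD
      obtain ⟨j, hj, hj'⟩ := exists_pos le_rfl hδ1.1 hδ2 hδ3
      have h4 := h' 0
      have h5 := h j
      have h6 := hδ1.1 0
      simp only [gs, AA, Pi.add_apply, Pi.sub_apply, e_apply, f_apply, Fin.val_zero, eq_self_iff_true, if_true] at h4 h5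
      have h7 : 1 ≤ γ 0 := by split_ifs at h4 <;> first | omega | contradiction
      rcases hD.2 with h8 | h8
      · omega
      · by_cases hj0 : j = 0
        · subst hj0
          split_ifs at h4 <;> first | omega | contradiction
        · have h9 : j.val ≠ 0 := fun h => hj0 (Fin.ext (by simpa using h))
          have := h8.2 j (by omega) (by have := j.2; omega)
          split_ifs at h5 <;> first | omega | contradiction
    · exact hC.elim
    · exact hC.elim
    · exact hC.elim
    · exact hC.elim
    · simp only [CC] at hC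
      subst hC
      rw [mem_D hn hq] at hD
      have h1 := h 0
      have h2 := h' ⟨1, by omega⟩
      simp only [gs, AA, Pi.add_apply, Pi.sub_apply, e_apply, f_apply, Fin.val_zero, eq_self_iff_true, if_true] at h1 h2
      rcases hD.2 with h8 | h8
      · split_ifs at h1 <;> first | omega | contradiction
      · have := h8.2 ⟨1, by omega⟩ le_rfl (by simp only; omega)
        split_ifs at h2 <;> first | omega | contradiction
    · simp only [CC] at hC hC'
      subst hC
      rw [mem_D hn hq] at hD
      have h1 := h 0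
      have h2 := h' ⟨i', by omega⟩
      simp only [gs, AA, Pi.add_apply, Pi.sub_apply, e_apply, f_apply, Fin.val_zero, eq_self_iff_true, if_true] at h1 h2
      rcases hD.2 with h8 | h8
      · split_ifs at h1 <;> first | omega | contradiction
      · have := h8.2 ⟨i', by omega⟩ (by simp only; omega) (by simp only; omega)
        split_ifs at h2 <;> first | omega | contradiction
    · exact hC.elim
    · exact hC.elim
    · simp only [CC] at hC
      rw [mem_D hn hq] at hD
      have h2 := h' ⟨1, by omega⟩
      simp only [gs, AA, Pi.add_apply, Pi.sub_apply, e_apply, f_apply, Fin.val_zero, eq_self_iff_true, if_true] at h2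
      rcases hD.2 with h8 | h8
      · split_ifs at h2 <;> first | omega | contradiction
      · have := h8.2 ⟨1, by omega⟩ le_rfl (by simp only; omega)
        split_ifs at h2 <;> first | omega | contradiction
    · simp only [CC] at hC hC'
      rw [mem_D hn hq] at hD
      have h1 := h ⟨i, by omega⟩
      have h2 := h' 0
      have h3 := h' ⟨1, by omega⟩
      have h4 := h ⟨1, by omega⟩
      simp only [gs, AA, Pi.add_apply, Pi.sub_apply, e_apply, f_apply, Fin.val_zero, eq_self_iff_true, if_true] at h1 h2 h3 h4
      rcases hD.2 with h8 | h8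
      · by_cases hi0 : i' = 0
        · split_ifs at h2 <;> first | omega | contradiction
        · split_ifs at h3 h4 <;> first | omega | contradiction
      · have := h8.2 ⟨i, by omega⟩ hC.1 (by simp only; omega)
        split_ifs at h1 <;> first | omega | contradiction
    · exact hC.elim
    · exact hC.elim
    · simp only [CC] at hC
      subst hC
      rw [mem_D hn hq] at hD
      have h1 := h 0
      have h2 := h' ⟨1, by omega⟩
      simp only [gs, AA, Pi.add_apply, Pi.sub_apply, e_apply, f_apply, Fin.val_zero, eq_self_iff_true, if_true] at h1 h2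
      rcases hD.2 with h8 | h8
      · split_ifs at h1 <;> first | omega | contradiction
      · have := h8.2 ⟨1, by omega⟩ le_rfl (by simp only; omega)
        split_ifs at h2 <;> first | omega | contradiction
    · simp only [CC] at hC hC'
      subst hC
      rw [mem_D hn hq] at hD
      have h1 := h 0
      have h2 := h' ⟨i', by omega⟩
      have h3 := h' 0
      simp only [gs, AA, Pi.add_apply, Pi.sub_apply, e_apply, f_apply, Fin.val_zero, eq_self_iff_true, if_true] at h1 h2 h3
      rcases hD.2 with h8 | h8
      · split_ifs at h1 <;> first | omega | contradiction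
      · by_cases hi0 : i' = 0
        · split_ifs at h3 <;> first | omega | contradiction
        · have := h8.2 ⟨i', by omega⟩ (by simp only; omega) (by simp only; omega)
          split_ifs at h2 <;> first | omega | contradiction
  h4 := by
    rintro (⟨δ, hδ⟩ | _ | ⟨u, hu⟩ | ⟨j, hj⟩) (⟨δ', hδ'⟩ | _ | ⟨u', hu'⟩ | ⟨j', hj'⟩) (_ | ⟨i, hi⟩) hA hC hC' <;>
      try (first | exact hC.elim | exact hC'.elim)
    · simp only [AA, sub_left_inj] at hA
      subst hA; rfl
    · rfl
    · simp only [CC] at hC hC'; omega
    · simp only [CC] at hC hC'; omega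
    · simp only [CC] at hC hC'; omega
    · have h1 := congrFun hA ⟨u + 1, by omega⟩
      simp only [AA, Pi.sub_apply, e_apply] at h1
      have : u = u' := by split_ifs at h1 <;> first | omega | contradiction
      subst this
      rfl
    · have h1 := congrFun hA 0
      simp only [AA, Pi.sub_apply, e_apply, Fin.val_zero] at h1
      split_ifs at h1 <;> first | omega | contradiction
    · simp only [CC] at hC hC'; omega
    · have h1 := congrFun hA 0
      simp only [AA, Pi.sub_apply, e_apply, Fin.val_zero] at h1
      split_ifs at h1 <;> first | omega | contradiction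
    · simp only [CC] at hC hC'
      have : j = j' := by omega
      subst this
      rfl
  h5 := by
    rintro (⟨δ, hδ⟩ | _ | ⟨u, hu⟩ | ⟨j, hj⟩) (_ | ⟨i, hi⟩) hC
    · have h1 := ((mem_TT (k := k) hn hq).1 hδ).1
      have : gs n q none + AA (Sum.inl ⟨δ, hδ⟩ : Sx n q) = δ := by
        simp only [gs, AA]; abel
      refine ⟨δ, h1, fun j => ?_, fun j => ?_⟩
      · rw [this]
      · show (gs n q none + AA (Sum.inl ⟨δ, hδ⟩ : Sx n q)) j ≤ _
        rw [this]
    · exact hC.elim
    · exact hC.elim
    · simp only [CC] at hC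
      subst hC
      refine ⟨e 0 + e n, ?_, fun a => ?_, fun a => ?_⟩
      · rw [mem_D hn hq]
        refine ⟨fun a => ?_, Or.inr ⟨?_, fun a ha ha' => ?_⟩⟩
        · ev
        · ev
        · ev
      · ev
      · ev
    · exact hC.elim
    · simp only [CC] at hC
      refine ⟨e (u + 1) + e i + e 2, ?_, fun a => ?_, fun a => ?_⟩
      · rw [mem_D hn hq]
        refine ⟨fun a => ?_, Or.inl ⟨?_, ?_⟩⟩
        · ev
        · ev
        · ev
      · ev
      · ev
    · exact hC.elim
    · simp only [CC] at hC
      subst hC
      refine ⟨e 0 + e n, ?_, fun a => ?_, fun a => ?_⟩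
      · rw [mem_D hn hq]
        refine ⟨fun a => ?_, Or.inr ⟨?_, fun a ha ha' => ?_⟩⟩
        · ev
        · ev
        · ev
      · ev
      · ev
  h6 := by
    rintro α (_ | ⟨j, hj⟩) hα hD
    · -- last generator
      set γ : Fin (n + 1) → ℤ := gs n q none + α with hγ
      have hαγ : α = γ - f q 1 := by rw [hγ, gs]; abel
      have hsum : ∑ i, γ i = q := by
        rw [hγ]
        simp only [gs, Pi.add_apply, Finset.sum_add_distrib]
        rw [sum_f (by omega), hα]; omega
      by_cases hne : γ = f q n
      · right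
        refine ⟨some ⟨1, by omega⟩, e 0 + f q n, ?_, fun a => ?_, fun a => ?_, ⟨1, by omega⟩, ?_⟩
        · rw [mem_D hn hq]
          refine ⟨fun a => ?_, Or.inr ⟨?_, fun a ha ha' => ?_⟩⟩
          · ev
          · ev
          · ev
        · rw [hne]; ev
        · rw [hαγ, hne]; ev
        · rw [hαγ, hne]; ev
      · left
        exact ⟨Sum.inl ⟨γ, (mem_TT (k := k) hn hq).2 ⟨hD, hsum, hne⟩⟩, hαγ.symm, trivial⟩
    · set γ : Fin (n + 1) → ℤ := gs n q (some ⟨j, hj⟩) + α with hγ
      have hαγ : α = γ - e 0 - e j := by rw [hγ, gs]; abel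
      have hsum : ∑ i, γ i = 2 := by
        rw [hγ]
        simp only [gs, Pi.add_apply, Finset.sum_add_distrib]
        rw [sum_e (by omega), sum_e (by omega), hα]; rfl
      have hD' := (mem_D hn hq γ).1 hD
      obtain ⟨h0, h1⟩ := hD'
      rcases h1 with ⟨h1, h2⟩ | ⟨h1, h2⟩
      · by_cases hj0 : j = 0
        · right
          subst hj0
          refine ⟨some ⟨2, by omega⟩, γ + e 2, ?_, fun a => ?_, fun a => ?_, 0, ?_⟩
          · rw [mem_D hn hq]
            refine ⟨fun a => ?_, Or.inl ⟨?_, ?_⟩⟩
            · have := h0 a; ev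
            · ev
            · simp only [Pi.add_apply, e_apply]; split_ifs <;> omega
          · ev
          · rw [hαγ]; ev
          · rw [hαγ]; ev
        · by_cases hg : 1 ≤ γ ⟨j, by omega⟩
          · left
            obtain ⟨u, hu, hu'⟩ := exists_e (sub_e_nonneg h0 hg) (by
              simp only [Pi.sub_apply, Finset.sum_sub_distrib]
              rw [hsum, sum_e (by omega)]; norm_num)
            have hα' : α = e u - e 0 := by rw [hαγ, ← hu']; abel
            have hγ' : γ = e u + e j := by rw [← hu']; abel
            have hu0 : u ≠ 0 := by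
              rintro rfl
              rw [hγ'] at h1
              simp only [Pi.add_apply, e_apply, Fin.val_zero] at h1
              split_ifs at h1 <;> first | omega | contradiction
            refine ⟨Sum.inr (Sum.inr (Sum.inl ⟨u - 1, by omega⟩)), ?_, ?_⟩
            · simp only [AA]
              rw [hα']
              congr 2
              omega
            · simp only [CC]
              refine ⟨by omega, fun h5 h6 => ?_⟩
              rw [hγ'] at h2
              simp only [Pi.add_apply, e_apply] at h2
              split_ifs at h2 <;> first | omega | contradiction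
          · right
            obtain ⟨b, hb1, hb2, hb3, hb4⟩ : ∃ b, 1 ≤ b ∧ b < n ∧ b ≠ j ∧ (b = 1 → γ ⟨1, by omega⟩ + 1 < q) := by
              by_cases h : j = 2
              · by_cases h4 : 4 ≤ n
                · exact ⟨3, by omega, by omega, by omega, by omega⟩
                · refine ⟨1, by omega, by omega, by omega, fun _ => ?_⟩
                  have := le_sum h0 ⟨1, by omega⟩
                  omega
              · exact ⟨2, by omega, by omega, by omega, by omega⟩
            refine ⟨some ⟨b, hb2⟩, γ + e b, ?_, fun a => ?_, fun a => ?_, ⟨j, by omega⟩, ?_⟩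
            · rw [mem_D hn hq]
              refine ⟨fun a => ?_, Or.inl ⟨?_, ?_⟩⟩
              · have := h0 a; ev
              · ev
              · simp only [Pi.add_apply, e_apply]; split_ifs <;> omega
            · ev
            · rw [hαγ]; ev
            · rw [hαγ]; ev
      · left
        obtain ⟨u, hu, hu'⟩ := exists_e (sub_e_nonneg h0 (i := 0) (by omega)) (by
          simp only [Pi.sub_apply, Finset.sum_sub_distrib]
          rw [hsum, Fin.val_zero, sum_e (by omega)]; norm_num)
        rw [Fin.val_zero] at hu'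
        have hun : u = n := by
          by_contra hne
          have h3 := congrFun hu' ⟨u, by omega⟩
          simp only [Pi.sub_apply, e_apply, if_true] at h3
          by_cases hu0 : u = 0
          · subst hu0
            have h4 : γ ⟨0, by omega⟩ = 1 := h1
            simp at h3
            omega
          · have h4 := h2 ⟨u, by omega⟩ (by simp only; omega) (by simp only; omega)
            split_ifs at h3 <;> first | omega | contradiction
        subst hun
        have hα' : α = e u - e j := by rw [hαγ, ← hu']
        by_cases hj0 : j = 0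
        · refine ⟨Sum.inr (Sum.inl ()), ?_, hj0⟩
          simp only [AA]
          rw [hα', hj0]
        · refine ⟨Sum.inr (Sum.inr (Sum.inr ⟨j - 1, by omega⟩)), ?_, ?_⟩
          · simp only [AA]
            rw [hα']
            congr 2
            omega
          · simp only [CC]; omega

theorem main (hn : 3 ≤ n) (hq : 2 ≤ q) (hq' : 4 ≤ n ∨ 4 ≤ q) :
    Module.finrank k ↥(⨆ α : {α : Fin (n + 1) → ℤ // ∑ i, α i = 0},
      tPiece (II n q : Ideal (MvPolynomial _ k)) α.1) = 2 * n - 1 + (n + q - 1).choose (n - 1) := by
  rw [(data hn hq hq').count (isMonomial_span _ _ (hT n q hn))]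
  simp only [Fintype.card_sum, Fintype.card_prod, Fintype.card_fin, Fintype.card_coe, Fintype.card_unit]
  have := card_TT hn hq
  omega

end K777.C50
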