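import Groth.Agent.W4c1hilbpn.K777.CountFin

set_option autoImplicit false
set_option linter.unusedSimpArgs false
set_option linter.unusedSectionVars false
set_option linter.unusedVariables false

namespace K777.C51

open MvPolynomial W4c1hilbpn K777.Basic K777.Model K777.Decomp K777.Count K777.CountFin

variable {k : Type*} [Field k] (n c d : ℕ)

/-- index of generators -/
abbrev Ix : Type := {p : ℕ × ℕ // p.1 < c ∧ n < p.2 + d ∧ p.2 ≤ n}

/-- the generators -/
def gs (p : Ix n c d) : Fin (n + 1) → ℤ := e p.1.1 + e p.1.2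

/-- the ideal -/
noncomputable abbrev II : Ideal (MvPolynomial (Fin (n + 1)) k) :=
  Ideal.span {f : MvPolynomial (Fin (n + 1)) k | ∃ i j : Fin (n + 1), i.val + 1 ≤ c ∧ n + 1 ≤ j.val + d ∧
        f = MvPolynomial.X i * MvPolynomial.X j}

theorem hT (hn : c + d ≤ n) : {f : MvPolynomial (Fin (n + 1)) k | ∃ i j : Fin (n + 1), i.val + 1 ≤ c ∧ n + 1 ≤ j.val + d ∧
        f = MvPolynomial.X i * MvPolynomial.X j} =
    Set.range fun i => monomial (vn (gs n c d i)) (1 : k) := by
  have key : ∀ i j : Fin (n + 1), i ≠ j → (vn (e i.val + e j.val) : Fin (n + 1) →₀ ℕ) =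
      Finsupp.single i 1 + Finsupp.single j 1 := by
    intro i j hij
    ext a
    simp only [vn_apply, Pi.add_apply, e_apply, Finsupp.add_apply, Finsupp.single_apply, Fin.ext_iff]
    split_ifs <;> omega
  ext f
  constructor
  · rintro ⟨i, j, hi, hj, rfl⟩
    refine ⟨⟨(i.val, j.val), by omega, by omega, by have := j.2; omega⟩, ?_⟩
    show monomial (vn (e i.val + e j.val)) (1 : k) = _
    rw [key i j (by intro h; subst h; omega), X, X, monomial_mul, one_mul]
  · rintro ⟨⟨⟨i, j⟩, hi, hj, hj'⟩, rfl⟩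
    simp only at hi hj hj'
    refine ⟨⟨i, by omega⟩, ⟨j, by omega⟩, by simpa using hi, by simpa using hj, ?_⟩
    show monomial (vn (e i + e j)) (1 : k) = _
    have := key ⟨i, by omega⟩ ⟨j, by omega⟩ (by intro h; rw [Fin.ext_iff] at h; simp only at h; omega)
    simp only at this
    rw [this, X, X, monomial_mul, one_mul]

variable {n c d}

theorem mem_D (hn : c + d ≤ n) (γ : Fin (n + 1) → ℤ) : γ ∈ DD (II n c d : Ideal (MvPolynomial _ k)) ↔
    (∀ i, 0 ≤ γ i) ∧ ((∀ a : Fin (n + 1), a.val < c → γ a = 0) ∨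
      (∀ b : Fin (n + 1), n < b.val + d → γ b = 0)) := by
  rw [mem_DD_iff, mem_UU_span (gs n c d) (fun i j => by
    simp only [gs, Pi.add_apply, e_apply]; split_ifs <;> omega) _ (hT n c d hn)]
  refine and_congr_right fun h0 => ?_
  constructor
  · intro h
    by_contra hcon
    push Not at hcon
    obtain ⟨⟨a, ha, ha'⟩, b, hb, hb'⟩ := hcon
    apply h
    refine ⟨⟨(a.val, b.val), ha, hb, by have := b.2; omega⟩, fun j => ?_⟩
    simp only [gs, Pi.add_apply, e_apply]
    have h1 := h0 a
    have h2 := h0 b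
    have h3 := h0 j
    split_ifs with h4 h5 h5
    · omega
    · have : j = a := Fin.ext h4
      subst this; omega
    · have : j = b := Fin.ext h5
      subst this; omega
    · omega
  · rintro (h | h) ⟨⟨⟨a, b⟩, ha, hb, hb'⟩, hi⟩
    · have := hi ⟨a, by simp only at ha; omega⟩
      rw [h _ ha] at this
      simp only [gs, Pi.add_apply, e_apply] at this
      split_ifs at this <;> omega
    · have := hi ⟨b, by simp only at hb'; omega⟩
      rw [h _ hb] at this
      simp only [gs, Pi.add_apply, e_apply] at this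
      split_ifs at this <;> omega



/-- the classes -/
abbrev Sx (n c d : ℕ) : Type := (Fin c × Fin (n + 1 - c)) ⊕ (Fin d × Fin (n + 1 - d))

/-- the degrees of the classes -/
def AA : Sx n c d → Fin (n + 1) → ℤ
  | Sum.inl (i, u) => e (c + u.val) - e i.val
  | Sum.inr (j, u) => e u.val - e (n - j.val)

/-- the classes -/
def CC : Sx n c d → Ix n c d → Prop
  | Sum.inl (i, u), p => p.1.1 = i.val
  | Sum.inr (j, u), p => p.1.2 = n - j.val

/-- the representatives -/
def rr (hc : 2 ≤ c) (hcd : c ≤ d) (hn : c + d ≤ n) : Sx n c d → Ix n c d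
  | Sum.inl (i, u) => ⟨(i.val, n), i.2, by simp only; omega, le_rfl⟩
  | Sum.inr (j, u) => ⟨(0, n - j.val), by simp only; omega, by
      simp only
      have := j.2
      omega, by simp only; omega⟩

/-- the data -/
noncomputable def data (hc : 2 ≤ c) (hcd : c ≤ d) (hn : c + d ≤ n) :
    Data (II n c d : Ideal (MvPolynomial _ k)) (Ix n c d) (Sx n c d) (fun α => ∑ i, α i = 0) where
  gens := gs n c d
  gens_nonneg i j := by simp only [gs, Pi.add_apply, e_apply]; split_ifs <;> omega
  mem_U := mem_UU_span (gs n c d) (fun i j => by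
    simp only [gs, Pi.add_apply, e_apply]; split_ifs <;> omega) _ (hT n c d hn)
  A := AA
  r := rr hc hcd hn
  C := CC
  h1 := by
    rintro (⟨i, u⟩ | ⟨j, u⟩)
    · simp only [AA, Pi.sub_apply, Finset.sum_sub_distrib]
      rw [sum_e (by have := u.2; omega), sum_e (by have := i.2; omega)]; rfl
    · simp only [AA, Pi.sub_apply, Finset.sum_sub_distrib]
      rw [sum_e (by have := u.2; omega), sum_e (by omega)]; rfl
  h2 := by
    rintro (⟨⟨i, hi⟩, ⟨u, hu⟩⟩ | ⟨⟨j, hj⟩, ⟨u, hu⟩⟩) ⟨⟨p1, p2⟩, hp1, hp2, hp3⟩ hC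
    · simp only [CC] at *
      subst hC
      rw [mem_D hn]
      refine ⟨fun a => ?_, Or.inl fun a ha => ?_⟩
      · simp only [gs, AA, Pi.add_apply, Pi.sub_apply, e_apply]; split_ifs <;> omega
      · simp only [gs, AA, Pi.add_apply, Pi.sub_apply, e_apply]; split_ifs <;> omega
    · simp only [CC] at *
      subst hC
      rw [mem_D hn]
      refine ⟨fun a => ?_, Or.inr fun a ha => ?_⟩
      · simp only [gs, AA, Pi.add_apply, Pi.sub_apply, e_apply]; split_ifs <;> omega
      · simp only [gs, AA, Pi.add_apply, Pi.sub_apply, e_apply]; split_ifs <;> omega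
  hr := by
    rintro (⟨i, u⟩ | ⟨j, u⟩)
    · rfl
    · rfl
  h3 := by
    rintro (⟨⟨i, hi⟩, ⟨u, hu⟩⟩ | ⟨⟨j, hj⟩, ⟨u, hu⟩⟩) ⟨⟨p1, p2⟩, hp1, hp2, hp3⟩ ⟨⟨q1, q2⟩, hq1, hq2, hq3⟩ γ hC hC' h h' hD
    · simp only [CC] at *
      subst hC
      rw [mem_D hn] at hD
      have h1 := h ⟨p2, by omega⟩
      have h2 := h' ⟨q1, by omega⟩
      simp only [gs, AA, Pi.add_apply, Pi.sub_apply, e_apply] at h1 h2
      rcases hD.2 with h3 | h3
      · have := h3 ⟨q1, by omega⟩ hq1
        split_ifs at h2 <;> omega
      · have := h3 ⟨p2, by omega⟩ hp2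
        split_ifs at h1 <;> omega
    · simp only [CC] at *
      subst hC
      rw [mem_D hn] at hD
      have h1 := h ⟨p1, by omega⟩
      have h2 := h' ⟨q2, by omega⟩
      simp only [gs, AA, Pi.add_apply, Pi.sub_apply, e_apply] at h1 h2
      rcases hD.2 with h3 | h3
      · have := h3 ⟨p1, by omega⟩ hp1
        split_ifs at h1 <;> omega
      · have := h3 ⟨q2, by omega⟩ hq2
        split_ifs at h2 <;> omega
  h4 := by
    rintro (⟨⟨i, hi⟩, ⟨u, hu⟩⟩ | ⟨⟨j, hj⟩, ⟨u, hu⟩⟩) (⟨⟨i', hi'⟩, ⟨u', hu'⟩⟩ | ⟨⟨j', hj'⟩, ⟨u', hu'⟩⟩)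
      ⟨⟨p1, p2⟩, hp1, hp2, hp3⟩ hA hC hC'
    · simp only [CC] at *
      subst hC hC'
      have h1 := congrFun hA ⟨c + u, by omega⟩
      simp only [AA, Pi.sub_apply, e_apply] at h1
      have : u = u' := by split_ifs at h1 <;> omega
      subst this
      rfl
    · simp only [CC] at *
      have h1 := congrFun hA ⟨i, by omega⟩
      have h2 := congrFun hA ⟨n - j', by omega⟩
      simp only [AA, Pi.sub_apply, e_apply] at h1 h2
      split_ifs at h1 h2 <;> omega
    · simp only [CC] at *
      have h1 := congrFun hA ⟨i', by omega⟩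
      have h2 := congrFun hA ⟨n - j, by omega⟩
      simp only [AA, Pi.sub_apply, e_apply] at h1 h2
      split_ifs at h1 h2 <;> omega
    · simp only [CC] at *
      have h0 : j = j' := by omega
      subst h0
      have h1 := congrFun hA ⟨u, by omega⟩
      simp only [AA, Pi.sub_apply, e_apply] at h1
      have : u = u' := by split_ifs at h1 <;> omega
      subst this
      rfl
  h5 := by
    rintro (⟨⟨i, hi⟩, ⟨u, hu⟩⟩ | ⟨⟨j, hj⟩, ⟨u, hu⟩⟩) ⟨⟨p1, p2⟩, hp1, hp2, hp3⟩ hC
    · simp only [CC] at *
      subst hC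
      refine ⟨e (c + u) + e p2 + e n, ?_, fun a => ?_, fun a => ?_⟩
      · rw [mem_D hn]
        refine ⟨fun a => ?_, Or.inl fun a ha => ?_⟩
        · simp only [gs, AA, Pi.add_apply, Pi.sub_apply, e_apply]; split_ifs <;> omega
        · simp only [gs, AA, Pi.add_apply, Pi.sub_apply, e_apply]; split_ifs <;> omega
      · simp only [gs, AA, Pi.add_apply, Pi.sub_apply, e_apply]; split_ifs <;> omega
      · simp only [gs, AA, rr, Pi.add_apply, Pi.sub_apply, e_apply]; split_ifs <;> omega
    · simp only [CC] at *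
      subst hC
      refine ⟨e u + e p1 + e 0, ?_, fun a => ?_, fun a => ?_⟩
      · rw [mem_D hn]
        refine ⟨fun a => ?_, Or.inr fun a ha => ?_⟩
        · simp only [gs, AA, Pi.add_apply, Pi.sub_apply, e_apply]; split_ifs <;> omega
        · simp only [gs, AA, Pi.add_apply, Pi.sub_apply, e_apply]; split_ifs <;> omega
      · simp only [gs, AA, Pi.add_apply, Pi.sub_apply, e_apply]; split_ifs <;> omega
      · simp only [gs, AA, rr, Pi.add_apply, Pi.sub_apply, e_apply]; split_ifs <;> omega
  h6 := by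
    rintro α ⟨⟨p1, p2⟩, hp1, hp2, hp3⟩ hα hD
    simp only at hp1 hp2 hp3
    set γ : Fin (n + 1) → ℤ := gs n c d ⟨(p1, p2), hp1, hp2, hp3⟩ + α with hγ
    have hαγ : α = γ - e p1 - e p2 := by rw [hγ, gs]; abel
    have hsum : ∑ i, γ i = 2 := by
      rw [hγ]
      simp only [gs, Pi.add_apply, Finset.sum_add_distrib]
      rw [sum_e (by omega), sum_e hp3, hα]; rfl
    have hD' := (mem_D hn γ).1 hD
    obtain ⟨h0, h1⟩ := hD'
    by_cases hg1 : 1 ≤ γ ⟨p2, by omega⟩
    · left
      obtain ⟨u, hu, hu'⟩ := exists_e (sub_e_nonneg h0 hg1) (by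
        simp only [Pi.sub_apply, Finset.sum_sub_distrib]
        rw [hsum, sum_e hp3]; norm_num)
      have hα' : α = e u - e p1 := by rw [hαγ, ← hu']; abel
      have hcu : c ≤ u := by
        by_contra hcu
        rcases h1 with h1 | h1
        · have h3 := h1 ⟨u, by omega⟩ (by simp only; omega)
          have h4 := congrFun hu' ⟨u, by omega⟩
          simp only [Pi.sub_apply, e_apply] at h4
          split_ifs at h4 <;> omega
        · have := h1 ⟨p2, by omega⟩ hp2
          omega
      refine ⟨Sum.inl (⟨p1, hp1⟩, ⟨u - c, by omega⟩), ?_, rfl⟩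
      simp only [AA]
      rw [hα']
      congr 2
      omega
    · by_cases hg2 : 1 ≤ γ ⟨p1, by omega⟩
      · left
        obtain ⟨u, hu, hu'⟩ := exists_e (sub_e_nonneg h0 hg2) (by
          simp only [Pi.sub_apply, Finset.sum_sub_distrib]
          rw [hsum, sum_e (by omega)]; norm_num)
        have hα' : α = e u - e p2 := by rw [hαγ, ← hu']
        have hcu : u ≤ n - d := by
          by_contra hcu
          rcases h1 with h1 | h1
          · have := h1 ⟨p1, by omega⟩ hp1
            omega
          · have h3 := h1 ⟨u, by omega⟩ (by simp only; omega)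
            have h4 := congrFun hu' ⟨u, by omega⟩
            simp only [Pi.sub_apply, e_apply] at h4
            split_ifs at h4 <;> omega
        refine ⟨Sum.inr (⟨n - p2, by omega⟩, ⟨u, by omega⟩), ?_, ?_⟩
        · simp only [AA]
          rw [hα']
          congr 2
          omega
        · simp only [CC]; omega
      · right
        rcases h1 with h1 | h1
        · obtain ⟨b, hb, hb', hb''⟩ : ∃ b, b ≠ p2 ∧ n < b + d ∧ b ≤ n := by
            by_cases h : p2 = n
            · exact ⟨n - 1, by omega, by omega, by omega⟩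
            · exact ⟨n, by omega, by omega, by omega⟩
          refine ⟨⟨(p1, b), hp1, hb', hb''⟩, γ + e b, ?_, fun a => ?_, fun a => ?_, ⟨p2, by omega⟩, ?_⟩
          · rw [mem_D hn]
            refine ⟨fun a => ?_, Or.inl fun a ha => ?_⟩
            · have := h0 a
              simp only [Pi.add_apply, e_apply]; split_ifs <;> omega
            · have := h1 a ha
              simp only [Pi.add_apply, e_apply]; split_ifs <;> omega
          · simp only [Pi.add_apply, e_apply]; split_ifs <;> omega
          · rw [hαγ]; simp only [gs, Pi.add_apply, Pi.sub_apply, e_apply]; split_ifs <;> omega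
          · rw [hαγ]; simp only [gs, Pi.add_apply, Pi.sub_apply, e_apply]; split_ifs <;> omega
        · obtain ⟨b, hb, hb'⟩ : ∃ b, b ≠ p1 ∧ b < c := by
            by_cases h : p1 = 0
            · exact ⟨1, by omega, by omega⟩
            · exact ⟨0, by omega, by omega⟩
          refine ⟨⟨(b, p2), hb', hp2, hp3⟩, γ + e b, ?_, fun a => ?_, fun a => ?_, ⟨p1, by omega⟩, ?_⟩
          · rw [mem_D hn]
            refine ⟨fun a => ?_, Or.inr fun a ha => ?_⟩
            · have := h0 a
              simp only [Pi.add_apply, e_apply]; split_ifs <;> omega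
            · have := h1 a ha
              simp only [Pi.add_apply, e_apply]; split_ifs <;> omega
          · simp only [Pi.add_apply, e_apply]; split_ifs <;> omega
          · rw [hαγ]; simp only [gs, Pi.add_apply, Pi.sub_apply, e_apply]; split_ifs <;> omega
          · rw [hαγ]; simp only [gs, Pi.add_apply, Pi.sub_apply, e_apply]; split_ifs <;> omega

theorem main (hc : 2 ≤ c) (hcd : c ≤ d) (hn : c + d ≤ n) :
    Module.finrank k ↥(⨆ α : {α : Fin (n + 1) → ℤ // ∑ i, α i = 0},
      tPiece (II n c d : Ideal (MvPolynomial _ k)) α.1) = c * (n - c + 1) + d * (n - d + 1) := by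
  rw [(data hc hcd hn).count (isMonomial_span _ _ (hT n c d hn))]
  simp only [Fintype.card_sum, Fintype.card_prod, Fintype.card_fin]
  congr 2 <;> omega

end K777.C51
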