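import Groth.Agent.W4c1hilbpn.K777.Colen
import Mathlib.Combinatorics.SimpleGraph.Connectivity.Connected

/-! The dimension of a graded piece is the number of bounded components. -/

set_option autoImplicit false
set_option linter.unusedSimpArgs false
set_option linter.unusedSectionVars false

namespace K777.Comp

open MvPolynomial W4c1hilbpn K777.Basic K777.Model K777.Decomp K777.Colen

variable {σ : Type*} [Fintype σ] [DecidableEq σ] {k : Type*} [Field k]
variable {I : Ideal (MvPolynomial σ k)}

theorem mem_region_iff {α γ : σ → ℤ} : γ ∈ region I α ↔ γ - α ∈ UU I ∧ γ ∉ UU I := by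
  constructor
  · rintro ⟨⟨β, hβ, rfl⟩, h2⟩
    refine ⟨?_, ?_⟩
    · have : (fun i => (β i : ℤ) + α i) - α = vz β := by ext i; simp
      rw [this]; exact vz_mem_UU.2 hβ
    · rintro ⟨h3, h4⟩; exact h2 ⟨h3, h4⟩
  · rintro ⟨h1, h2⟩
    refine ⟨⟨vn (γ - α), h1.2, ?_⟩, ?_⟩
    · ext i
      have := h1.1 i
      simp only [Pi.sub_apply, vn_apply] at *
      omega
    · rintro ⟨h3, h4⟩; exact h2 ⟨h3, h4⟩

theorem adj_of_step (a : σ → ℤ) (i : σ) : (stepGraph σ).Adj a (a + Pi.single i 1) := by
  rw [stepGraph, SimpleGraph.fromRel_adj]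
  refine ⟨?_, Or.inl ?_⟩
  · intro h
    have := congrFun h i
    simp at this
  · rw [Finset.sum_eq_single i]
    · simp
    · intro j _ hj; simp [Pi.single_apply, hj]
    · intro h; exact absurd (Finset.mem_univ i) h

theorem step_of_adj {a b : σ → ℤ} (h : (stepGraph σ).Adj a b) :
    ∃ i, b = a + Pi.single i 1 ∨ a = b + Pi.single i 1 := by
  rw [stepGraph, SimpleGraph.fromRel_adj] at h
  have h1 : ∑ i, |a i - b i| = 1 := by
    rcases h.2 with h | h
    · exact h
    · rw [← h]; exact Finset.sum_congr rfl fun i _ => abs_sub_comm _ _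
  have h2 : ∃ i, |a i - b i| ≠ 0 := by
    by_contra hcon
    push Not at hcon
    rw [Finset.sum_eq_zero fun i _ => hcon i] at h1
    omega
  obtain ⟨i, hi⟩ := h2
  rw [← Finset.add_sum_erase _ _ (Finset.mem_univ i)] at h1
  have h3 : 0 ≤ ∑ j ∈ Finset.univ.erase i, |a j - b j| :=
    Finset.sum_nonneg fun _ _ => abs_nonneg _
  have h4 : 0 ≤ |a i - b i| := abs_nonneg _
  have h5 : |a i - b i| = 1 := by omega
  have h6 : ∑ j ∈ Finset.univ.erase i, |a j - b j| = 0 := by omega
  rw [Finset.sum_eq_zero_iff_of_nonneg fun _ _ => abs_nonneg _] at h6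
  have h7 : ∀ j, j ≠ i → a j = b j := by
    intro j hj
    have := h6 j (Finset.mem_erase.2 ⟨hj, Finset.mem_univ j⟩)
    rw [abs_eq_zero] at this
    omega
  refine ⟨i, ?_⟩
  rcases abs_eq (by norm_num : (0 : ℤ) ≤ 1) |>.1 h5 with h8 | h8
  · right
    ext j
    by_cases hj : j = i
    · subst hj; simp; omega
    · simp [Pi.single_apply, hj, h7 j hj]
  · left
    ext j
    by_cases hj : j = i
    · subst hj; simp; omega
    · simp [Pi.single_apply, hj, h7 j hj]

variable (I) in
/-- the graph on the region -/
abbrev G (α : σ → ℤ) := (stepGraph σ).induce (region I α)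

theorem not_mem_DD_of {α γ : σ → ℤ} (h : γ ∈ region I α) (hD : γ ∉ DD I) : ∃ i, γ i < 0 := by
  by_contra hcon
  push Not at hcon
  rcases mem_UU_or_DD (I := I) hcon with h1 | h1
  · exact (mem_region_iff.1 h).2 h1
  · exact hD h1

theorem mdl_adj {α : σ → ℤ} {f : (σ → ℤ) → k} (hf : f ∈ Mdl I α) {a b : ↥(region I α)}
    (h : (G I α).Adj a b) : f a.1 = f b.1 := by
  have key : ∀ {a b : σ → ℤ}, a ∈ region I α → b ∈ region I α → ∀ i, b = a + Pi.single i 1 →
      f a = f b := by
    intro a b ha hb i hab
    subst hab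
    by_cases hD : a + Pi.single i 1 ∈ DD I
    · exact (hf.2 a i (mem_region_iff.1 ha).1 hD).symm
    · obtain ⟨j, hj⟩ := not_mem_DD_of hb hD
      rw [mdl_zero_of_neg hf hj, mdl_zero_of_neg hf (i := j)]
      simp only [Pi.add_apply, Pi.single_apply] at hj
      split_ifs at hj <;> omega
  obtain ⟨i, hi | hi⟩ := step_of_adj (SimpleGraph.induce_adj.1 h)
  · exact key a.2 b.2 i hi
  · exact (key b.2 a.2 i hi).symm

theorem mdl_reachable {α : σ → ℤ} {f : (σ → ℤ) → k} (hf : f ∈ Mdl I α) {a b : ↥(region I α)}
    (h : (G I α).Reachable a b) : f a.1 = f b.1 := by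
  obtain ⟨p⟩ := h
  induction p with
  | nil => rfl
  | cons h _ ih => exact (mdl_adj hf h).trans ih

/-- a bounded component lies in `DD` -/
theorem mem_DD_of_finite (hn : 2 ≤ Fintype.card σ) {α : σ → ℤ} (a : ↥(region I α))
    (h : ((G I α).connectedComponentMk a).supp.Finite) : a.1 ∈ DD I := by
  by_contra hD
  obtain ⟨i, hi⟩ := not_mem_DD_of a.2 hD
  have : Nontrivial σ := Fintype.one_lt_card_iff_nontrivial.1 (by omega)
  obtain ⟨j, hj⟩ := exists_ne i
  have hreg : ∀ t : ℕ, a.1 + Pi.single j (t : ℤ) ∈ region I α := by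
    intro t
    rw [mem_region_iff]
    constructor
    · refine UU_up (mem_region_iff.1 a.2).1 fun l => ?_
      simp only [Pi.sub_apply, Pi.add_apply, Pi.single_apply]
      split_ifs <;> omega
    · intro h'
      have := h'.1 i
      simp only [Pi.add_apply, Pi.single_apply, if_neg (Ne.symm hj)] at this
      omega
  have hreach : ∀ t : ℕ, (G I α).Reachable ⟨_, hreg t⟩ a := by
    intro t
    induction t with
    | zero =>
      have : (⟨a.1 + Pi.single j ((0 : ℕ) : ℤ), hreg 0⟩ : ↥(region I α)) = a := by
        ext1; simp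
      rw [this]
    | succ t ih =>
      refine (SimpleGraph.Adj.reachable ?_).trans ih
      symm
      rw [SimpleGraph.induce_adj]
      have e : a.1 + Pi.single j ((t + 1 : ℕ) : ℤ) = (a.1 + Pi.single j (t : ℤ)) + Pi.single j 1 := by
        rw [add_assoc, ← Pi.single_add]; push_cast; rfl
      show (stepGraph σ).Adj (a.1 + Pi.single j (t : ℤ)) (a.1 + Pi.single j ((t + 1 : ℕ) : ℤ))
      rw [e]
      exact adj_of_step _ j
  have hinf : ((G I α).connectedComponentMk a).supp.Infinite := by
    refine Set.infinite_of_injective_forall_mem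
      (f := fun t : ℕ => (⟨a.1 + Pi.single j (t : ℤ), hreg t⟩ : ↥(region I α))) ?_ ?_
    · intro s t hst
      have := congrFun (congrArg Subtype.val hst) j
      simpa using this
    · intro t
      rw [SimpleGraph.ConnectedComponent.mem_supp_iff, SimpleGraph.ConnectedComponent.eq]
      exact hreach t
  exact hinf h

open Classical in
/-- function attached to values on bounded components -/
noncomputable def ofComp (α : σ → ℤ) (g : {c : (G I α).ConnectedComponent // c.supp.Finite} → k) :
    (σ → ℤ) → k := fun γ =>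
  if h : γ ∈ region I α then
    if hc : ((G I α).connectedComponentMk ⟨γ, h⟩).supp.Finite then g ⟨_, hc⟩ else 0
  else 0

theorem ofComp_mem (hn : 2 ≤ Fintype.card σ) (α : σ → ℤ)
    (g : {c : (G I α).ConnectedComponent // c.supp.Finite} → k) : ofComp α g ∈ Mdl I α := by
  classical
  constructor
  · intro γ hγ
    rw [ofComp] at hγ
    by_cases h : γ ∈ region I α
    · rw [dif_pos h] at hγ
      by_cases hc : ((G I α).connectedComponentMk ⟨γ, h⟩).supp.Finite
      · exact ⟨mem_DD_of_finite hn ⟨γ, h⟩ hc, (mem_region_iff.1 h).1⟩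
      · rw [dif_neg hc] at hγ; exact absurd rfl hγ
    · rw [dif_neg h] at hγ; exact absurd rfl hγ
  · intro γ i h1 h2
    have r1 : γ ∈ region I α := by
      rw [mem_region_iff]
      exact ⟨h1, fun h => not_mem_DD (UU_add_single h i) h2⟩
    have r2 : γ + Pi.single i 1 ∈ region I α := by
      rw [mem_region_iff]
      refine ⟨?_, fun h => not_mem_DD h h2⟩
      have : γ + Pi.single i 1 - α = γ - α + Pi.single i 1 := by abel
      rw [this]; exact UU_add_single h1 i
    have hadj : (G I α).connectedComponentMk ⟨γ + Pi.single i 1, r2⟩ =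
        (G I α).connectedComponentMk ⟨γ, r1⟩ := by
      rw [SimpleGraph.ConnectedComponent.eq]
      apply SimpleGraph.Adj.reachable
      symm
      rw [SimpleGraph.induce_adj]
      exact adj_of_step _ i
    unfold ofComp
    rw [dif_pos r1, dif_pos r2]
    simp only [hadj]

/-- the model of a piece and functions on bounded components -/
noncomputable def compEquiv (hn : 2 ≤ Fintype.card σ) (hfin : (DD I).Finite) (α : σ → ℤ) :
    ↥(Mdl I α) ≃ₗ[k] ({c : (G I α).ConnectedComponent // c.supp.Finite} → k) where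
  toFun f c := f.1 c.1.out.1
  map_add' f g := rfl
  map_smul' a f := rfl
  invFun g := ⟨ofComp α g, ofComp_mem hn α g⟩
  left_inv := by
    classical
    rintro ⟨f, hf⟩
    ext γ
    simp only [ofComp]
    by_cases h : γ ∈ region I α
    · rw [dif_pos h]
      have hr : (G I α).Reachable ((G I α).connectedComponentMk ⟨γ, h⟩).out ⟨γ, h⟩ := by
        rw [← SimpleGraph.ConnectedComponent.eq]
        exact Quot.out_eq _
      by_cases hc : ((G I α).connectedComponentMk ⟨γ, h⟩).supp.Finite
      · rw [dif_pos hc]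
        exact mdl_reachable hf hr
      · rw [dif_neg hc]
        -- infinite component: `f` vanishes
        have : ∃ b ∈ ((G I α).connectedComponentMk ⟨γ, h⟩).supp, b.1 ∉ DD I := by
          by_contra hcon
          push Not at hcon
          apply hc
          exact Set.Finite.of_finite_image (hfin.subset (by
            rintro _ ⟨b, hb, rfl⟩; exact hcon b hb)) Subtype.val_injective.injOn
        obtain ⟨b, hb, hbD⟩ := this
        rw [SimpleGraph.ConnectedComponent.mem_supp_iff, SimpleGraph.ConnectedComponent.eq] at hb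
        have h1 := mdl_reachable hf hb
        have h2 : f b.1 = 0 := by
          by_contra h2; exact hbD (hf.1 _ h2).1
        rw [← h2, h1]
    · rw [dif_neg h]
      by_contra hne
      apply h
      have := hf.1 γ (Ne.symm hne)
      rw [mem_region_iff]
      exact ⟨this.2, fun h' => not_mem_DD h' this.1⟩
  right_inv := by
    classical
    intro g
    ext ⟨c, hc⟩
    simp only [ofComp]
    have h1 : c.out.1 ∈ region I α := c.out.2
    have h2 : (G I α).connectedComponentMk ⟨c.out.1, h1⟩ = c := Quot.out_eq c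
    rw [dif_pos h1, dif_pos (by rw [h2]; exact hc)]
    congr 1
    exact Subtype.ext h2

theorem finrank_eq (hn : 2 ≤ Fintype.card σ) (hfin : (DD I).Finite) (α : σ → ℤ) :
    Module.finrank k ↥(Mdl I α) = nBddComp I α := by
  rw [(compEquiv hn hfin α).finrank_eq]
  have : Finite {c : (G I α).ConnectedComponent // c.supp.Finite} := by
    have := hfin.to_subtype
    have hD : ∀ c : {c : (G I α).ConnectedComponent // c.supp.Finite}, c.1.out.1 ∈ DD I := by
      rintro ⟨c, hc⟩
      apply mem_DD_of_finite hn
      have h2 : (G I α).connectedComponentMk c.out = c := Quot.out_eq c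
      rw [h2]; exact hc
    refine Finite.of_injective (β := ↥(DD I)) (fun c => ⟨_, hD c⟩) ?_
    intro c c' h
    have h0 : c.1.out.1 = c'.1.out.1 := congrArg (fun x : ↥(DD I) => x.1) h
    have h1 : c.1.out = c'.1.out := Subtype.ext h0
    apply Subtype.ext
    rw [← Quot.out_eq c.1, ← Quot.out_eq c'.1, h1]
  have := Fintype.ofFinite {c : (G I α).ConnectedComponent // c.supp.Finite}
  rw [Module.finrank_fintype_fun_eq_card, nBddComp, Nat.card_eq_fintype_card]

end K777.Comp
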