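import Groth.Agent.W4c1hilbpn.K777.Stair
import Mathlib.Algebra.MvPolynomial.Rename

/-! Slices of a monomial ideal in three variables. -/

set_option autoImplicit false
set_option linter.unusedSimpArgs false
set_option linter.unusedSectionVars false

namespace K777.Slice

open MvPolynomial W4c1hilbpn K777.Basic K777.Model K777.Decomp K777.Colen K777.Bound K777.Stair

variable {k : Type*} [Field k] {I : Ideal (MvPolynomial (Fin 3) k)}

theorem emb_eq (a : ℕ) (β : Fin 2 →₀ ℕ) :
    Finsupp.single 0 a + Finsupp.mapDomain Fin.succ β = e3 a (β 0) (β 1) := by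
  apply e3_ext
  · rw [Finsupp.add_apply, Finsupp.mapDomain_of_notMem_range, Finsupp.single_eq_same, add_zero]
    rintro ⟨i, hi⟩
    exact Fin.succ_ne_zero i hi
  · have : (1 : Fin 3) = Fin.succ (0 : Fin 2) := rfl
    rw [Finsupp.add_apply, this, Finsupp.mapDomain_apply (Fin.succ_injective 2)]
    simp [Finsupp.single_apply, Fin.succ_ne_zero]
  · have : (2 : Fin 3) = Fin.succ (1 : Fin 2) := rfl
    rw [Finsupp.add_apply, this, Finsupp.mapDomain_apply (Fin.succ_injective 2)]
    simp [Finsupp.single_apply, Fin.succ_ne_zero]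

theorem mem_sliceX_iff (a : ℕ) (f : MvPolynomial (Fin 2) k) :
    f ∈ sliceX I a ↔ (X 0 ^ a * rename Fin.succ f : MvPolynomial (Fin 3) k) ∈ I := by
  rw [sliceX, Ideal.mem_comap, Submodule.mem_colon_singleton, smul_eq_mul, mul_comm]
  rfl

theorem X_pow_mul_rename_monomial (a : ℕ) (β : Fin 2 →₀ ℕ) (c : k) :
    (X 0 ^ a * rename Fin.succ (monomial β c) : MvPolynomial (Fin 3) k) =
      monomial (e3 a (β 0) (β 1)) c := by
  rw [rename_monomial, X_pow_eq_monomial, monomial_mul, one_mul, emb_eq]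

theorem mem_sliceX_iff' (hI : IsMonomial I) (a : ℕ) (f : MvPolynomial (Fin 2) k) :
    f ∈ sliceX I a ↔ ∀ β ∈ f.support, e3 a (β 0) (β 1) ∈ exps I := by
  rw [mem_sliceX_iff]
  constructor
  · intro h β hβ
    apply hI _ h
    rw [mem_support_iff] at hβ ⊢
    rw [← emb_eq, X_pow_eq_monomial, coeff_monomial_mul, one_mul,
      coeff_rename_mapDomain _ (Fin.succ_injective 2)]
    exact hβ
  · intro h
    rw [f.as_sum, map_sum, Finset.mul_sum]
    refine I.sum_mem fun β hβ => ?_
    rw [X_pow_mul_rename_monomial]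
    have h1 : monomial (e3 a (β 0) (β 1)) (coeff β f) =
        C (coeff β f) * monomial (e3 a (β 0) (β 1)) 1 := by
      rw [C_mul_monomial, mul_one]
    rw [h1]; exact I.mul_mem_left _ (h β hβ)

theorem mem_exps_sliceX (a : ℕ) (β : Fin 2 →₀ ℕ) :
    β ∈ exps (sliceX I a) ↔ e3 a (β 0) (β 1) ∈ exps I := by
  show monomial β (1 : k) ∈ sliceX I a ↔ _
  rw [mem_sliceX_iff, X_pow_mul_rename_monomial]
  rfl

theorem isMonomial_sliceX (hI : IsMonomial I) (a : ℕ) : IsMonomial (sliceX I a) := by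
  intro f hf β hβ
  show β ∈ exps (sliceX I a)
  rw [mem_exps_sliceX]
  exact (mem_sliceX_iff' hI a f).1 hf β hβ

theorem isStronglyStable_sliceX (hI : IsStronglyStable I) (a : ℕ) :
    IsStronglyStable (sliceX I a) := by
  refine ⟨isMonomial_sliceX hI.1 a, ?_⟩
  intro β hβ i j hij hj
  rw [mem_exps_sliceX] at hβ ⊢
  have hi0 : i = 0 := by omega
  have hj1 : j = 1 := by omega
  subst hi0 hj1
  have h1 := hI.2 _ hβ 1 2 (by decide) (by simpa using hj)
  convert h1 using 1
  symm
  apply e3_ext <;> simp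

theorem colon_sliceX_le (hI : IsStronglyStable I) (a : ℕ) :
    (sliceX I a).colon {(X 0 : MvPolynomial (Fin 2) k)} ≤ sliceX I (a + 1) := by
  intro f hf
  rw [Submodule.mem_colon_singleton, smul_eq_mul, mul_comm, mem_sliceX_iff' hI.1] at hf
  rw [mem_sliceX_iff' hI.1]
  intro β hβ
  have h1 := hf (Finsupp.single 0 1 + β) (by
    rw [mem_support_iff] at hβ ⊢
    rwa [coeff_X_mul])
  have h2 := hI.2 _ h1 0 1 (by decide) (by simp)
  convert h2 using 1
  symm
  apply e3_ext <;> simp

end K777.Slice
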