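import Groth.Agent.W4c1hilbpn.K777.Strat2
import Groth.Agent.FlatA.NagataOpen

/-! Representing the stratum of a family of modules which is generically projective modulo each prime. -/

set_option autoImplicit false
set_option linter.unusedSimpArgs false
set_option linter.unusedSectionVars false
set_option linter.unusedVariables false

universe u v

namespace K777.Strat

open TensorProduct

theorem exists_ideals (A : Type u) [CommRing A] [IsNoetherianRing A] (ι : Type v) (N : ι → Type u)
    [∀ i, AddCommGroup (N i)] [∀ i, Module A (N i)] [∀ i, Module.Finite A (N i)] (h : ι → ℕ)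
    (gen : ∀ p : PrimeSpectrum A, ∃ f : A, f ∉ p.asIdeal ∧
      ∀ (K : Type u) [CommRing K] [Algebra A K] [Algebra (A ⧸ p.asIdeal) K] [IsScalarTower A (A ⧸ p.asIdeal) K]
        [IsLocalization.Away (Ideal.Quotient.mk p.asIdeal f) K] (i : ι), Module.Projective K (K ⊗[A] N i)) :
    ∃ a b : Ideal A, ∀ (B : Type u) [CommRing B] [Algebra A B],
      ((∀ i, Module.Finite B (B ⊗[A] N i) ∧ Module.Projective B (B ⊗[A] N i) ∧
          ∀ p : PrimeSpectrum B, Module.rankAtStalk (B ⊗[A] N i) p = h i) ↔
        (Ideal.map (algebraMap A B) a = ⊥ ∧ Ideal.map (algebraMap A B) b = ⊤)) := by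
  classical
  let a : Ideal A := ⨆ i, aI A (N i) (h i)
  let U : Set (PrimeSpectrum A) := {p | ¬ a ≤ p.asIdeal ∨ ∀ i, ¬ bI A (N i) (h i) ≤ p.asIdeal}
  have hai : ∀ i, aI A (N i) (h i) ≤ a := fun i => le_iSup (fun i => aI A (N i) (h i)) i
  have hU : IsOpen U := by
    apply Groth.Agent.FlatA.NagataOpen.isOpen_of_nagata
    · intro x y hxy hy
      have hle : x.asIdeal ≤ y.asIdeal := (PrimeSpectrum.le_iff_specializes x y).mpr hxy
      rcases hy with hy | hy
      · exact Or.inl fun hx => hy (hx.trans hle)
      · exact Or.inr fun i hx => hy i (hx.trans hle)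
    · intro x hx
      by_cases hax : a ≤ x.asIdeal
      · have hbx : ∀ i, ¬ bI A (N i) (h i) ≤ x.asIdeal := by
          rcases hx with hx | hx
          · exact absurd hax hx
          · exact hx
        obtain ⟨f, hf, hproj⟩ := gen x
        refine ⟨PrimeSpectrum.basicOpen f, (PrimeSpectrum.basicOpen f).2, hf, ?_⟩
        intro y hy hxy
        have hle : x.asIdeal ≤ y.asIdeal := (PrimeSpectrum.le_iff_specializes x y).mpr hxy
        right
        intro i
        set fb : A ⧸ x.asIdeal := Ideal.Quotient.mk x.asIdeal f with hfb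
        have hfb0 : fb ≠ 0 := fun h0 => hf (Ideal.Quotient.eq_zero_iff_mem.mp h0)
        set K := Localization.Away fb with hK
        have hdom : IsDomain K := IsLocalization.isDomain_localization
          (powers_le_nonZeroDivisors_of_noZeroDivisors hfb0)
        have hinj : Function.Injective (algebraMap (A ⧸ x.asIdeal) K) :=
          IsLocalization.injective K (powers_le_nonZeroDivisors_of_noZeroDivisors hfb0)
        have hpr : Module.Projective K (K ⊗[A] N i) := hproj K i
        have hker : RingHom.ker (algebraMap A K) = x.asIdeal := by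
          ext z
          rw [RingHom.mem_ker, IsScalarTower.algebraMap_apply A (A ⧸ x.asIdeal) K,
            map_eq_zero_iff _ hinj, Ideal.Quotient.algebraMap_eq, Ideal.Quotient.eq_zero_iff_mem]
        -- the generic point
        have hcb : (PrimeSpectrum.comap (algebraMap A K) ⊥).asIdeal = x.asIdeal := by
          exact hker
        have ha' : aI A (N i) (h i) ≤ RingHom.ker (algebraMap A K) := by
          rw [hker]; exact (hai i).trans hax
        obtain ⟨e⟩ := basis_of_not_le (B := K) ha' ⊥ (by rw [hcb]; exact hbx i)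
        have hrk0 : Module.rankAtStalk (K ⊗[A] N i) (⊥ : PrimeSpectrum K) = h i := by
          have hnt : Nontrivial (Localization.AtPrime (⊥ : PrimeSpectrum K).asIdeal) := inferInstance
          rw [Module.rankAtStalk_eq_finrank_tensorProduct,
            Module.finrank_eq_card_basis (e.map (AlgebraTensorModule.cancelBaseChange A K _ _ (N i)).symm),
            Fintype.card_fin]
        -- the point over `y`
        have hyq : RingHom.ker (Ideal.Quotient.mk x.asIdeal) ≤ y.asIdeal := by
          rw [Ideal.mk_ker]; exact hle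
        have hyp : (y.asIdeal.map (Ideal.Quotient.mk x.asIdeal)).IsPrime :=
          Ideal.map_isPrime_of_surjective Ideal.Quotient.mk_surjective hyq
        have hfy : Disjoint (Submonoid.powers fb : Set (A ⧸ x.asIdeal))
            ((y.asIdeal.map (Ideal.Quotient.mk x.asIdeal) : Ideal _) : Set (A ⧸ x.asIdeal)) := by
          rw [Ideal.disjoint_powers_iff_notMem_of_isPrime]
          intro hmem
          have h1 : f ∈ (y.asIdeal.map (Ideal.Quotient.mk x.asIdeal)).comap (Ideal.Quotient.mk x.asIdeal) := hmem
          rw [Ideal.comap_map_of_surjective _ Ideal.Quotient.mk_surjective] at h1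
          have h2 : y.asIdeal ⊔ Ideal.comap (Ideal.Quotient.mk x.asIdeal) ⊥ ≤ y.asIdeal :=
            sup_le le_rfl hyq
          exact hy (h2 h1)
        obtain ⟨P, hP⟩ : (⟨y.asIdeal.map (Ideal.Quotient.mk x.asIdeal), hyp⟩ : PrimeSpectrum (A ⧸ x.asIdeal)) ∈
            Set.range (PrimeSpectrum.comap (algebraMap (A ⧸ x.asIdeal) K)) := by
          rw [PrimeSpectrum.localization_comap_range K (Submonoid.powers fb)]
          exact hfy
        have hPy : (PrimeSpectrum.comap (algebraMap A K) P).asIdeal = y.asIdeal := by
          have h1 : algebraMap A K = (algebraMap (A ⧸ x.asIdeal) K).comp (Ideal.Quotient.mk x.asIdeal) :=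
            IsScalarTower.algebraMap_eq A (A ⧸ x.asIdeal) K
          rw [h1, PrimeSpectrum.comap_comp_apply, hP]
          show Ideal.comap (Ideal.Quotient.mk x.asIdeal) (y.asIdeal.map (Ideal.Quotient.mk x.asIdeal)) = _
          rw [Ideal.comap_map_of_surjective _ Ideal.Quotient.mk_surjective]
          exact le_antisymm (sup_le le_rfl hyq) le_sup_left
        rw [← hPy]
        refine bI_not_le' (B := K) inferInstance hpr P ?_
        rw [← hrk0]
        exact (Module.rankAtStalk_eq_of_le_of_finite_of_flat (K ⊗[A] N i) bot_le).symm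
      · exact ⟨(PrimeSpectrum.zeroLocus (a : Set A))ᶜ, (PrimeSpectrum.isClosed_zeroLocus _).isOpen_compl, hax,
          fun y hy _ => Or.inl hy⟩
  let b : Ideal A := PrimeSpectrum.vanishingIdeal Uᶜ
  have hb : ∀ p : PrimeSpectrum A, b ≤ p.asIdeal ↔ p ∉ U := by
    intro p
    have h1 : PrimeSpectrum.zeroLocus (b : Set A) = Uᶜ := by
      rw [PrimeSpectrum.zeroLocus_vanishingIdeal_eq_closure]
      exact hU.isClosed_compl.closure_eq
    rw [← Set.mem_compl_iff, ← h1]
    rfl
  refine ⟨a, b, fun B _ _ => ⟨fun H => ⟨?_, ?_⟩, fun H i => ?_⟩⟩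
  · rw [Ideal.map_iSup]
    simp only [iSup_eq_bot]
    exact fun i => map_aI_eq_bot (H i).1 (H i).2.1 (H i).2.2
  · by_contra hne
    obtain ⟨P, hP, hle⟩ := Ideal.exists_le_maximal _ hne
    set q : PrimeSpectrum B := ⟨P, hP.isPrime⟩ with hq
    have h1 : b ≤ (PrimeSpectrum.comap (algebraMap A B) q).asIdeal := Ideal.map_le_iff_le_comap.mp hle
    rw [hb] at h1
    exact h1 (Or.inr fun i => bI_not_le' (H i).1 (H i).2.1 q ((H i).2.2 _))
  · have hker : a ≤ RingHom.ker (algebraMap A B) := by
      intro z hz
      have := Ideal.mem_map_of_mem (algebraMap A B) hz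
      rw [H.1, Ideal.mem_bot] at this
      exact this
    have hfp : Module.FinitePresentation A (N i) := Module.finitePresentation_of_finite A (N i)
    refine of_not_le ((hai i).trans hker) fun P => ?_
    have h1 : ¬ b ≤ (PrimeSpectrum.comap (algebraMap A B) P).asIdeal := by
      intro hle
      have h2 : Ideal.map (algebraMap A B) b ≤ P.asIdeal := Ideal.map_le_iff_le_comap.mpr hle
      rw [H.2] at h2
      exact P.isPrime.ne_top (top_le_iff.mp h2)
    rw [hb, not_not] at h1
    rcases h1 with h1 | h1
    · exfalso
      apply h1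
      intro z hz
      show algebraMap A B z ∈ P.asIdeal
      have := hker hz
      rw [RingHom.mem_ker] at this
      rw [this]
      exact Ideal.zero_mem _
    · exact h1 i

end K777.Strat
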