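import Mathlib.LinearAlgebra.Dimension.Finrank
import Mathlib.LinearAlgebra.FiniteDimensional.Basic
import Mathlib.LinearAlgebra.Basis.VectorSpace
import Mathlib.Algebra.MvPolynomial.CommRing
import Mathlib.RingTheory.Finiteness.Defs
import Groth.Prelude.Def_W4c1hilbpnTgt

/-! Basic facts on monomial ideals and `Hom_S(I, S/I)`: coefficient functionals on `S/I`, extensionality and
construction of homomorphisms from their values on monomials. -/

set_option autoImplicit false

namespace K777.Basic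

open MvPolynomial W4c1hilbpn

variable {σ : Type*} {k : Type*} [Field k] {I : Ideal (MvPolynomial σ k)}

theorem exps_add {β : σ →₀ ℕ} (h : β ∈ exps I) (δ : σ →₀ ℕ) : β + δ ∈ exps I := by
  have h1 : monomial (β + δ) (1 : k) = monomial β 1 * monomial δ 1 := by
    rw [monomial_mul, one_mul]
  show monomial (β + δ) (1 : k) ∈ I
  rw [h1]; exact I.mul_mem_right _ h

theorem exps_of_le {β γ : σ →₀ ℕ} (h : β ∈ exps I) (hle : β ≤ γ) : γ ∈ exps I := by
  have h1 := exps_add h (γ - β)
  rwa [add_tsub_cancel_of_le hle] at h1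

theorem mem_of_support {p : MvPolynomial σ k} (h : ∀ β ∈ p.support, β ∈ exps I) : p ∈ I := by
  rw [p.as_sum]
  refine I.sum_mem fun β hβ => ?_
  have h1 : monomial β (coeff β p) = C (coeff β p) * monomial β 1 := by
    rw [C_mul_monomial, mul_one]
  rw [h1]; exact I.mul_mem_left _ (h β hβ)

theorem mem_iff (hI : IsMonomial I) {p : MvPolynomial σ k} :
    p ∈ I ↔ ∀ β ∈ p.support, β ∈ exps I :=
  ⟨fun h β hβ => hI p h β hβ, mem_of_support⟩

/-- The coefficient of `x^γ` (for `γ` outside the ideal; `0` otherwise) as a functional on `S/I`. -/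
noncomputable def cfQ (hI : IsMonomial I) (γ : σ →₀ ℕ) : (MvPolynomial σ k ⧸ I) →ₗ[k] k :=
  open Classical in
  if h : γ ∈ exps I then 0 else
    ((I.restrictScalars k).liftQ (MvPolynomial.lcoeff k γ) (by
      intro p hp
      rw [LinearMap.mem_ker]
      show coeff γ p = 0
      by_contra hne
      exact h (hI p hp γ (by rwa [mem_support_iff])))).comp
      (Submodule.Quotient.restrictScalarsEquiv k I).symm.toLinearMap

theorem cfQ_of_mem (hI : IsMonomial I) {γ : σ →₀ ℕ} (h : γ ∈ exps I) : cfQ hI γ = 0 := by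
  rw [cfQ, dif_pos h]

theorem cfQ_mk (hI : IsMonomial I) {γ : σ →₀ ℕ} (h : γ ∉ exps I) (p : MvPolynomial σ k) :
    cfQ hI γ (Ideal.Quotient.mk I p) = coeff γ p := by
  rw [cfQ, dif_neg h]
  rfl

theorem mk_eq_zero_of_mem {β : σ →₀ ℕ} (h : β ∈ exps I) :
    Ideal.Quotient.mk I (monomial β (1 : k)) = 0 :=
  Ideal.Quotient.eq_zero_iff_mem.2 h

theorem ext_cfQ (hI : IsMonomial I) {m m' : MvPolynomial σ k ⧸ I}
    (h : ∀ γ, γ ∉ exps I → cfQ hI γ m = cfQ hI γ m') : m = m' := by
  obtain ⟨p, rfl⟩ := Ideal.Quotient.mk_surjective m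
  obtain ⟨q, rfl⟩ := Ideal.Quotient.mk_surjective m'
  rw [Ideal.Quotient.eq, mem_iff hI]
  intro β hβ
  by_contra hne
  have := h β hne
  rw [cfQ_mk hI hne, cfQ_mk hI hne] at this
  rw [mem_support_iff, coeff_sub, this, sub_self] at hβ
  exact hβ rfl

theorem smul_eq_mk_mul (p : MvPolynomial σ k) (m : MvPolynomial σ k ⧸ I) :
    p • m = Ideal.Quotient.mk I p * m := by
  obtain ⟨q, rfl⟩ := Ideal.Quotient.mk_surjective m
  rfl

open Classical in
theorem cfQ_X_smul (hI : IsMonomial I) (γ : σ →₀ ℕ) (i : σ) (m : MvPolynomial σ k ⧸ I)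
    (h : γ + Finsupp.single i 1 ∉ exps I) :
    cfQ hI (γ + Finsupp.single i 1) ((X i : MvPolynomial σ k) • m) = cfQ hI γ m := by
  obtain ⟨p, rfl⟩ := Ideal.Quotient.mk_surjective m
  have h' : γ ∉ exps I := fun h' => h (exps_add h' _)
  rw [smul_eq_mk_mul, ← map_mul, cfQ_mk hI h, cfQ_mk hI h', add_comm, coeff_X_mul]

open Classical in
theorem cfQ_X_smul_zero (hI : IsMonomial I) (γ : σ →₀ ℕ) (i : σ) (m : MvPolynomial σ k ⧸ I)
    (h0 : γ i = 0) :
    cfQ hI γ ((X i : MvPolynomial σ k) • m) = 0 := by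
  by_cases h : γ ∈ exps I
  · rw [cfQ_of_mem hI h]; rfl
  obtain ⟨p, rfl⟩ := Ideal.Quotient.mk_surjective m
  rw [smul_eq_mk_mul, ← map_mul, cfQ_mk hI h, coeff_X_mul', if_neg]
  simp [h0]

/-- A homomorphism in `T(I)` is determined by its values on monomials. -/
theorem tgt_ext (hI : IsMonomial I) {φ ψ : Tgt I}
    (h : ∀ (β : σ →₀ ℕ) (hβ : monomial β (1 : k) ∈ I), φ ⟨monomial β 1, hβ⟩ = ψ ⟨monomial β 1, hβ⟩) :
    φ = ψ := by
  ext ⟨p, hp⟩
  have key : ∀ (s : Finset (σ →₀ ℕ)) (c : (σ →₀ ℕ) → k) (hs : ∀ β ∈ s, β ∈ exps I)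
      (hm : (∑ β ∈ s, monomial β (c β)) ∈ I),
      φ ⟨∑ β ∈ s, monomial β (c β), hm⟩ = ψ ⟨∑ β ∈ s, monomial β (c β), hm⟩ := by
    classical
    intro s
    induction s using Finset.induction_on with
    | empty =>
      intro c _ hm
      have h0 : (⟨∑ β ∈ (∅ : Finset (σ →₀ ℕ)), monomial β (c β), hm⟩ : I) = 0 := by
        ext; simp
      rw [h0, map_zero, map_zero]
    | insert a s ha ih =>
      intro c hs hm
      have h1 : (∑ β ∈ s, monomial β (c β)) ∈ I := by
        refine I.sum_mem fun β hβ => ?_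
        have : monomial β (c β) = C (c β) * monomial β (1 : k) := by rw [C_mul_monomial, mul_one]
        rw [this]; exact I.mul_mem_left _ (hs β (Finset.mem_insert_of_mem hβ))
      have ha' := hs a (Finset.mem_insert_self _ _)
      have h2 : (⟨∑ β ∈ insert a s, monomial β (c β), hm⟩ : I) =
          (C (c a) : MvPolynomial σ k) • (⟨monomial a 1, ha'⟩ : I) +
            ⟨∑ β ∈ s, monomial β (c β), h1⟩ := by
        ext1
        simp only [Finset.sum_insert ha, Submodule.coe_add, Submodule.coe_smul, smul_eq_mul,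
          C_mul_monomial, mul_one]
      rw [h2, map_add, map_add, map_smul, map_smul, h a ha',
        ih c (fun β hβ => hs β (Finset.mem_insert_of_mem hβ)) h1]
  have hp' := hp
  have h3 := key p.support (fun β => coeff β p) (fun β hβ => hI p hp β hβ) (by
    rw [← p.as_sum]; exact hp)
  have h4 : (⟨∑ β ∈ p.support, monomial β (coeff β p), by rw [← p.as_sum]; exact hp⟩ : I) =
      ⟨p, hp⟩ := by
    ext1; exact p.as_sum.symm
  rw [h4] at h3
  exact h3

/-- The `k`-linear extension of a function on monomials. -/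
noncomputable def lin (c : (σ →₀ ℕ) → MvPolynomial σ k ⧸ I) :
    MvPolynomial σ k →ₗ[k] MvPolynomial σ k ⧸ I :=
  (MvPolynomial.basisMonomials σ k).constr k c

theorem lin_monomial (c : (σ →₀ ℕ) → MvPolynomial σ k ⧸ I) (β : σ →₀ ℕ) (a : k) :
    lin c (monomial β a) = a • c β := by
  have h1 : monomial β a = a • (MvPolynomial.basisMonomials σ k) β := by
    rw [MvPolynomial.coe_basisMonomials, smul_monomial, smul_eq_mul, mul_one]
  rw [h1, map_smul, lin, Module.Basis.constr_basis]

/-- A homomorphism in `T(I)` from compatible values on monomials. -/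
noncomputable def homOf (hI : IsMonomial I) (c : (σ →₀ ℕ) → MvPolynomial σ k ⧸ I)
    (hc : ∀ β ∈ exps I, ∀ i, c (β + Finsupp.single i 1) = (X i : MvPolynomial σ k) • c β) : Tgt I where
  toFun p := lin c p.1
  map_add' p q := by simp
  map_smul' s p := by
    obtain ⟨p, hp⟩ := p
    simp only [RingHom.id_apply, Submodule.coe_smul, smul_eq_mul]
    have hX : ∀ i, ∀ q ∈ I, lin c (X i * q) = (X i : MvPolynomial σ k) • lin c q := by
      intro i q hq
      have h1 : ∀ t : Finset (σ →₀ ℕ), (∀ β ∈ t, β ∈ exps I) → ∀ a : (σ →₀ ℕ) → k,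
          lin c (X i * ∑ β ∈ t, monomial β (a β)) =
            (X i : MvPolynomial σ k) • lin c (∑ β ∈ t, monomial β (a β)) := by
        intro t ht a
        rw [Finset.mul_sum, map_sum, map_sum, Finset.smul_sum]
        refine Finset.sum_congr rfl fun β hβ => ?_
        rw [X, monomial_mul, one_mul, add_comm, lin_monomial, lin_monomial, hc β (ht β hβ) i,
          smul_comm]
        rfl
      have h2 := h1 q.support (fun β hβ => hI q hq β hβ) (fun β => coeff β q)
      rwa [← q.as_sum] at h2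
    clear hc
    induction s using MvPolynomial.induction_on generalizing p with
    | C a => rw [← smul_eq_C_mul, map_smul, ← algebraMap_eq, algebraMap_smul]
    | add s t hs ht => rw [add_mul, map_add, hs p hp, ht p hp, add_smul]
    | mul_X s i hs =>
      rw [mul_assoc, hs (X i * p) (I.mul_mem_left _ hp), hX i p hp, mul_smul]

theorem homOf_apply (hI : IsMonomial I) (c : (σ →₀ ℕ) → MvPolynomial σ k ⧸ I)
    (hc : ∀ β ∈ exps I, ∀ i, c (β + Finsupp.single i 1) = (X i : MvPolynomial σ k) • c β)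
    (β : σ →₀ ℕ) (hβ : monomial β (1 : k) ∈ I) : homOf hI c hc ⟨monomial β 1, hβ⟩ = c β := by
  show lin c (monomial β 1) = c β
  rw [lin_monomial, one_smul]

theorem tgt_X_smul (φ : Tgt I) (β : σ →₀ ℕ) (hβ : monomial β (1 : k) ∈ I) (i : σ) :
    φ ⟨monomial (β + Finsupp.single i 1) 1, exps_add (I := I) hβ _⟩ =
      (X i : MvPolynomial σ k) • φ ⟨monomial β 1, hβ⟩ := by
  rw [← map_smul]
  congr 1
  ext1
  simp only [Submodule.coe_smul, smul_eq_mul]
  rw [X, monomial_mul, one_mul, add_comm]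

end K777.Basic
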