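import Groth.Agent.W4c1hilbpn.K777.Colen
import Mathlib.Data.Set.Card
import Mathlib.Algebra.Order.BigOperators.Group.Finset

/-! Counting bounds for the dimensions of pieces. -/

set_option autoImplicit false
set_option linter.unusedSimpArgs false
set_option linter.unusedSectionVars false

namespace K777.Bound

open MvPolynomial W4c1hilbpn K777.Basic K777.Model K777.Decomp K777.Colen

variable {σ : Type*} [Finite σ] [DecidableEq σ] {k : Type*} [Field k]
variable {I : Ideal (MvPolynomial σ k)}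

/-- an element of the support, minimal in direction `l`, then maximal in the other directions of `J` -/
theorem exists_corner (hfin : (DD I).Finite) {α : σ → ℤ} {f : (σ → ℤ) → k} (hf : f ∈ Mdl I α)
    (hne : f ≠ 0) (l : σ) :
    ∃ γ, f γ ≠ 0 ∧ (∀ i, i ≠ l → γ + Pi.single i 1 ∈ UU I) ∧ γ - Pi.single l 1 - α ∉ UU I := by
  have := Fintype.ofFinite σ
  have hs : {γ | f γ ≠ 0}.Finite := hfin.subset fun γ hγ => (hf.1 γ hγ).1
  have hne' : {γ | f γ ≠ 0}.Nonempty := by
    by_contra hcon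
    apply hne
    ext γ
    by_contra h
    exact hcon ⟨γ, h⟩
  obtain ⟨γ₀, hγ₀, hmin⟩ := Set.exists_min_image {γ | f γ ≠ 0} (fun γ => γ l) hs hne'
  have hs2 : {γ | f γ ≠ 0 ∧ γ l = γ₀ l}.Finite := hs.subset fun γ hγ => hγ.1
  obtain ⟨γ, hγ, hmax⟩ := Set.exists_max_image {γ | f γ ≠ 0 ∧ γ l = γ₀ l} (fun γ => ∑ i, γ i) hs2
    ⟨γ₀, hγ₀, rfl⟩
  obtain ⟨hγ1, hγ2⟩ := hγ
  obtain ⟨hD, hU⟩ := hf.1 γ hγ1
  refine ⟨γ, hγ1, fun i hi => ?_, fun hcon => ?_⟩
  · have h0 : ∀ j, 0 ≤ (γ + Pi.single i 1 : σ → ℤ) j := by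
      intro j
      have := hD.1 j
      simp only [Pi.add_apply, Pi.single_apply]
      split_ifs <;> omega
    rcases mem_UU_or_DD (I := I) h0 with h | h
    · exact h
    · exfalso
      have h1 := hf.2 γ i hU h
      have h2 := hmax (γ + Pi.single i 1) ⟨by rw [h1]; exact hγ1, by
        simp only [Pi.add_apply, Pi.single_apply, if_neg (Ne.symm hi), add_zero]; exact hγ2⟩
      simp only [Pi.add_apply, Finset.sum_add_distrib] at h2
      have h3 : ∑ j, (Pi.single i (1 : ℤ) : σ → ℤ) j = 1 := by simp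
      omega
  · have h1 : f γ = f (γ - Pi.single l 1) := by
      refine mdl_const hf (γ := γ - Pi.single l 1) (δ := γ) hcon hD fun i => ?_
      simp only [Pi.sub_apply, Pi.single_apply]
      split_ifs <;> omega
    have h2 := hmin (γ - Pi.single l 1) (by
      show f (γ - Pi.single l 1) ≠ 0
      rw [← h1]; exact hγ1)
    simp only [Pi.sub_apply, Pi.single_eq_same] at h2
    omega

variable (I) in
/-- the corners for degree `α` in direction `l` -/
def PP (l : σ) (α : σ → ℤ) : Set (σ → ℤ) :=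
  {γ | γ ∈ DD I ∧ γ - α ∈ UU I ∧ (∀ i, i ≠ l → γ + Pi.single i 1 ∈ UU I) ∧
    γ - Pi.single l 1 - α ∉ UU I}

theorem finrank_le_PP (hfin : (DD I).Finite) (l : σ) (α : σ → ℤ) :
    Module.finrank k ↥(Mdl I α) ≤ (PP I l α).ncard := by
  apply finrank_le_ncard
  · exact hfin.subset fun γ hγ => hγ.1
  · intro f hf h
    by_contra hne
    obtain ⟨γ, h1, h2, h3⟩ := exists_corner hfin hf hne l
    exact h1 (h γ ⟨(hf.1 γ h1).1, (hf.1 γ h1).2, h2, h3⟩)

theorem PP_unique {l : σ} {α α' γ : σ → ℤ} (hag : ∀ i, i ≠ l → α i = α' i)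
    (h : γ ∈ PP I l α) (h' : γ ∈ PP I l α') : α = α' := by
  have key : ∀ {α α' : σ → ℤ}, (∀ i, i ≠ l → α i = α' i) → γ ∈ PP I l α → γ ∈ PP I l α' →
      ¬ α l < α' l := by
    intro α α' hag h h' hlt
    apply h.2.2.2
    refine UU_up h'.2.1 fun i => ?_
    simp only [Pi.sub_apply, Pi.single_apply]
    split_ifs with hi
    · subst hi; omega
    · rw [hag i hi]; omega
  ext i
  by_cases hi : i = l
  · subst hi
    have h1 := key hag h h'
    have h2 := key (fun i hi => (hag i hi).symm) h' h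
    omega
  · exact hag i hi

/-- general counting of disjoint families -/
theorem sum_le_of_disjoint {A X Y : Type*} [DecidableEq A] (B : Finset A) (d : A → ℕ)
    (P : A → Set X) (Q : Set Y) (hQ : Q.Finite) (F : A → X → Y)
    (hd : ∀ a ∈ B, d a ≤ (P a).ncard)
    (hF : ∀ a ∈ B, ∀ x ∈ P a, F a x ∈ Q)
    (hinj : ∀ a ∈ B, ∀ a' ∈ B, ∀ x ∈ P a, ∀ x' ∈ P a', F a x = F a' x' → a = a' ∧ x = x') :
    ∑ a ∈ B, d a ≤ Q.ncard := by
  classical
  have hinj' : ∀ a ∈ B, Set.InjOn (F a) (P a) := fun a ha x hx x' hx' h =>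
    (hinj a ha a ha x hx x' hx' h).2
  have hfinP : ∀ a ∈ B, (P a).Finite := fun a ha =>
    Set.Finite.of_finite_image (hQ.subset (by rintro _ ⟨x, hx, rfl⟩; exact hF a ha x hx))
      (hinj' a ha)
  have h1 : ∑ a ∈ B, d a ≤ ∑ a ∈ B, (F a '' P a).ncard := by
    refine Finset.sum_le_sum fun a ha => ?_
    rw [(hinj' a ha).ncard_image]
    exact hd a ha
  refine h1.trans ?_
  have h2 : ∀ B' ⊆ B, ∑ a ∈ B', (F a '' P a).ncard = (⋃ a ∈ B', F a '' P a).ncard := by
    intro B' hB'
    induction B' using Finset.induction_on with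
    | empty => simp
    | insert a s ha ih =>
      rw [Finset.sum_insert ha, Finset.set_biUnion_insert, Set.ncard_union_eq ?_
        ((hfinP a (hB' (Finset.mem_insert_self _ _))).image _) ?_]
      · rw [ih ((Finset.subset_insert a s).trans hB')]
      · rw [Set.disjoint_left]
        rintro _ ⟨x, hx, rfl⟩ hy
        simp only [Set.mem_iUnion] at hy
        obtain ⟨a', ha', x', hx', he⟩ := hy
        have := (hinj a' (hB' (Finset.mem_insert_of_mem ha')) a
          (hB' (Finset.mem_insert_self _ _)) x' hx' x hx he).1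
        subst this
        exact ha ha'
      · refine hQ.subset ?_
        intro y hy
        simp only [Set.mem_iUnion] at hy
        obtain ⟨a', ha', x', hx', rfl⟩ := hy
        exact hF a' (hB' (Finset.mem_insert_of_mem ha')) x' hx'
  rw [h2 B (Finset.Subset.refl B)]
  apply Set.ncard_le_ncard _ hQ
  intro y hy
  simp only [Set.mem_iUnion] at hy
  obtain ⟨a', ha', x', hx', rfl⟩ := hy
  exact hF a' ha' x' hx'

end K777.Bound
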