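import Groth.Agent.W4c1hilbpn.K777.Sig

/-! Bounds for the dimension of `T(I)` for a monomial ideal containing a power of `x`. -/

set_option autoImplicit false
set_option linter.unusedSimpArgs false
set_option linter.unusedSectionVars false

namespace K777.Bound2

open MvPolynomial W4c1hilbpn K777.Basic K777.Model K777.Decomp K777.Colen K777.Bound K777.Stair
open K777.Sig

variable {k : Type*} [Field k] {I : Ideal (MvPolynomial (Fin 3) k)}

/-- uniqueness of the top of a column -/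
theorem top_unique {γ γ' : Fin 3 → ℤ} {m : Fin 3} (hag : ∀ i, i ≠ m → γ i = γ' i)
    (h1 : γ ∈ DD I) (h2 : γ + Pi.single m 1 ∈ UU I) (h1' : γ' ∈ DD I)
    (h2' : γ' + Pi.single m 1 ∈ UU I) : γ = γ' := by
  have key : ∀ {γ γ' : Fin 3 → ℤ}, (∀ i, i ≠ m → γ i = γ' i) → γ' ∈ DD I →
      γ + Pi.single m 1 ∈ UU I → ¬ γ m < γ' m := by
    intro γ γ' hag h1 h2 hlt
    refine not_mem_DD (UU_up h2 fun i => ?_) h1
    simp only [Pi.add_apply, Pi.single_apply]
    split_ifs with hi
    · subst hi; omega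
    · rw [hag i hi]; omega
  ext i
  by_cases hi : i = m
  · subst hi
    have h3 := key hag h1' h2
    have h4 := key (fun i hi => (hag i hi).symm) h1 h2'
    omega
  · exact hag i hi

/-- uniqueness of the bottom of a column -/
theorem bot_unique {β β' : Fin 3 → ℤ} {m : Fin 3} (hag : ∀ i, i ≠ m → β i = β' i)
    (h1 : β ∈ UU I) (h2 : β - Pi.single m 1 ∉ UU I) (h1' : β' ∈ UU I)
    (h2' : β' - Pi.single m 1 ∉ UU I) : β = β' := by
  have key : ∀ {γ γ' : Fin 3 → ℤ}, (∀ i, i ≠ m → γ i = γ' i) → γ ∈ UU I →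
      γ' - Pi.single m 1 ∉ UU I → ¬ γ m < γ' m := by
    intro γ γ' hag h1 h2 hlt
    refine h2 (UU_up h1 fun i => ?_)
    simp only [Pi.sub_apply, Pi.single_apply]
    split_ifs with hi
    · subst hi; omega
    · rw [hag i hi]; omega
  ext i
  by_cases hi : i = m
  · subst hi
    have h3 := key hag h1 h2'
    have h4 := key (fun i hi => (hag i hi).symm) h1' h2
    omega
  · exact hag i hi

/-- count of pairs `(δ, a)` with `a ≤ δ_0` -/
theorem finrank_singleton_le (hI : IsMonomial I) (hfin : (DD I).Finite) (l m : Fin 3)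
    (hl : l ≠ 0) (hm : m ≠ 0) (hlm : l ≠ m) :
    Module.finrank k ↥(sigPiece I {l}) ≤ ∑ δ ∈ hfin.toFinset, ((δ 0).toNat + 1) := by
  classical
  obtain ⟨N, hN⟩ := exists_bound hfin
  rw [finrank_sig hI hfin hN]
  have hcard : ∑ δ ∈ hfin.toFinset, ((δ 0).toNat + 1) =
      (((hfin.toFinset.sigma fun δ : Fin 3 → ℤ => Finset.range ((δ 0).toNat + 1)) :
        Finset ((_ : Fin 3 → ℤ) × ℕ)) : Set ((_ : Fin 3 → ℤ) × ℕ)).ncard := by
    rw [Set.ncard_coe_finset, Finset.card_sigma]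
    simp
  rw [hcard]
  have hall : ∀ i : Fin 3, i = 0 ∨ i = l ∨ i = m := by
    intro i; fin_cases l <;> fin_cases m <;> fin_cases i <;> simp_all
  refine sum_le_of_disjoint _ _ (fun α => PP I l α) _ (Finset.finite_toSet _)
    (fun α γ => (⟨fun i => if i = m then α m else γ i, (α 0).toNat⟩ : (_ : Fin 3 → ℤ) × ℕ))
    (fun α _ => finrank_le_PP hfin l α) ?_ ?_
  · intro α hα γ hγ
    rw [Finset.mem_filter] at hα
    have hneg := hα.2
    simp only [Set.mem_singleton_iff] at hneg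
    have h0 : 0 ≤ α 0 := not_lt.1 fun h => hl ((hneg 0).1 h).symm
    have hm0 : 0 ≤ α m := not_lt.1 fun h => hlm ((hneg m).1 h).symm
    have k0 := hγ.2.1.1 0
    have km := hγ.2.1.1 m
    simp only [Pi.sub_apply] at k0 km
    rw [Finset.mem_coe, Finset.mem_sigma, Finset.mem_range, Set.Finite.mem_toFinset]
    constructor
    · refine DD_down hγ.1 (fun i => ?_) (fun i => ?_)
      · simp only
        split_ifs with hi
        · subst hi; omega
        · exact le_rfl
      · simp only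
        split_ifs with hi
        · exact hm0
        · exact hγ.1.1 i
    · simp only [if_neg (Ne.symm hm)]
      omega
  · intro α hα α' hα' γ hγ γ' hγ' heq
    rw [Finset.mem_filter] at hα hα'
    have hneg := hα.2
    have hneg' := hα'.2
    simp only [Set.mem_singleton_iff] at hneg hneg'
    have h0 : 0 ≤ α 0 := not_lt.1 fun h => hl ((hneg 0).1 h).symm
    have h0' : 0 ≤ α' 0 := not_lt.1 fun h => hl ((hneg' 0).1 h).symm
    have e1 : (fun i => if i = m then α m else γ i) = fun i => if i = m then α' m else γ' i :=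
      congrArg (fun x : (_ : Fin 3 → ℤ) × ℕ => x.1) heq
    have e2 : (α 0).toNat = (α' 0).toNat :=
      congrArg (fun x : (_ : Fin 3 → ℤ) × ℕ => x.2) heq
    have e3 : α m = α' m := by simpa using congrFun e1 m
    have e4 : γ = γ' := by
      apply top_unique (m := m) _ hγ.1 (hγ.2.2.1 m (Ne.symm hlm)) hγ'.1
        (hγ'.2.2.1 m (Ne.symm hlm))
      intro i hi
      simpa [hi] using congrFun e1 i
    subst e4
    refine ⟨PP_unique (l := l) ?_ hγ hγ', rfl⟩
    intro i hi
    rcases hall i with rfl | rfl | rfl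
    · omega
    · exact absurd rfl hi
    · exact e3

theorem exists_corner2 (hfin : (DD I).Finite) {α : Fin 3 → ℤ} {f : (Fin 3 → ℤ) → k}
    (hf : f ∈ Mdl I α) (hne : f ≠ 0) {p : ℕ} (hp : (Finsupp.single 0 p : Fin 3 →₀ ℕ) ∈ exps I)
    (i j : Fin 3) (hi : i ≠ 0) (hj : j ≠ 0) (hij : i ≠ j) :
    ∃ γ, f γ ≠ 0 ∧ γ 0 ≤ p + α 0 ∧ γ + Pi.single i 1 ∈ UU I ∧ γ - Pi.single j 1 - α ∉ UU I := by
  have hs : {γ | f γ ≠ 0 ∧ γ 0 ≤ p + α 0}.Finite := hfin.subset fun γ hγ => (hf.1 γ hγ.1).1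
  have hne' : {γ | f γ ≠ 0 ∧ γ 0 ≤ p + α 0}.Nonempty := by
    have : ∃ γ, f γ ≠ 0 := by
      by_contra hcon
      push Not at hcon
      exact hne (funext hcon)
    obtain ⟨γ, hγ⟩ := this
    by_cases h : γ 0 ≤ p + α 0
    · exact ⟨γ, hγ, h⟩
    · obtain ⟨h1, h2⟩ := hf.1 γ hγ
      have h3 : γ - Pi.single 0 (γ 0 - (p + α 0)) - α ∈ UU I := by
        refine UU_up (vz_mem_UU.2 hp) fun a => ?_
        have := h2.1 a
        rw [vz_single]
        simp only [Pi.sub_apply, Pi.single_apply] at *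
        split_ifs with ha
        · subst ha; omega
        · omega
      have h4 : f γ = f (γ - Pi.single 0 (γ 0 - (p + α 0))) := by
        refine mdl_const hf h3 h1 fun a => ?_
        simp only [Pi.sub_apply, Pi.single_apply]
        split_ifs <;> omega
      refine ⟨γ - Pi.single 0 (γ 0 - (p + α 0)), ?_, ?_⟩
      · rw [← h4]; exact hγ
      · simp
  obtain ⟨γ₀, ⟨hγ₀, hγ₀'⟩, hmax⟩ := Set.exists_max_image _ (fun γ : Fin 3 → ℤ => γ i) hs hne'
  have hs2 : {γ | (f γ ≠ 0 ∧ γ 0 ≤ p + α 0) ∧ γ i = γ₀ i}.Finite := hs.subset fun γ hγ => hγ.1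
  obtain ⟨γ, ⟨⟨hγ1, hγ2⟩, hγ3⟩, hmin⟩ := Set.exists_min_image
    {γ | (f γ ≠ 0 ∧ γ 0 ≤ p + α 0) ∧ γ i = γ₀ i} (fun γ : Fin 3 → ℤ => γ j) hs2
    ⟨γ₀, ⟨hγ₀, hγ₀'⟩, rfl⟩
  obtain ⟨hD, hU⟩ := hf.1 γ hγ1
  refine ⟨γ, hγ1, hγ2, ?_, ?_⟩
  · have h0 : ∀ a, 0 ≤ (γ + Pi.single i 1 : Fin 3 → ℤ) a := by
      intro a
      have := hD.1 a
      simp only [Pi.add_apply, Pi.single_apply]
      split_ifs <;> omega
    rcases mem_UU_or_DD (I := I) h0 with h | h
    · exact h
    · exfalso
      have h1 := hf.2 γ i hU h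
      have h2 := hmax (γ + Pi.single i 1) ⟨by rw [h1]; exact hγ1, by
        simp only [Pi.add_apply, Pi.single_apply, if_neg (Ne.symm hi), add_zero]; exact hγ2⟩
      simp only [Pi.add_apply, Pi.single_eq_same] at h2
      omega
  · intro hcon
    have h1 : f γ = f (γ - Pi.single j 1) := by
      refine mdl_const hf (γ := γ - Pi.single j 1) (δ := γ) hcon hD fun a => ?_
      simp only [Pi.sub_apply, Pi.single_apply]
      split_ifs <;> omega
    have h2 := hmin (γ - Pi.single j 1) ⟨⟨by rw [← h1]; exact hγ1, by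
      simp only [Pi.sub_apply, Pi.single_apply, if_neg (Ne.symm hj), sub_zero]; exact hγ2⟩, by
      simp only [Pi.sub_apply, Pi.single_apply, if_neg hij, sub_zero]; exact hγ3⟩
    simp only [Pi.sub_apply, Pi.single_eq_same] at h2
    omega

variable (I) in
/-- corners of the second kind -/
def PQ (p : ℕ) (i j : Fin 3) (α : Fin 3 → ℤ) : Set (Fin 3 → ℤ) :=
  {γ | γ ∈ DD I ∧ γ - α ∈ UU I ∧ γ 0 ≤ p + α 0 ∧ γ + Pi.single i 1 ∈ UU I ∧
    γ - Pi.single j 1 - α ∉ UU I}

theorem finrank_le_PQ (hfin : (DD I).Finite) {p : ℕ}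
    (hp : (Finsupp.single 0 p : Fin 3 →₀ ℕ) ∈ exps I)
    (i j : Fin 3) (hi : i ≠ 0) (hj : j ≠ 0) (hij : i ≠ j) (α : Fin 3 → ℤ) :
    Module.finrank k ↥(Mdl I α) ≤ (PQ I p i j α).ncard := by
  apply finrank_le_ncard
  · exact hfin.subset fun γ hγ => hγ.1
  · intro f hf h
    by_contra hne
    obtain ⟨γ, h1, h2, h3, h4⟩ := exists_corner2 hfin hf hne hp i j hi hj hij
    exact h1 (h γ ⟨(hf.1 γ h1).1, (hf.1 γ h1).2, h2, h3, h4⟩)

theorem bound_pos (hfin : (DD I).Finite) {p : ℕ}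
    (hp : (Finsupp.single 0 p : Fin 3 →₀ ℕ) ∈ exps I) (B : Finset (Fin 3 → ℤ))
    (hB : ∀ α ∈ B, α 0 < 0 ∧ 0 ≤ α 1) :
    ∑ α ∈ B, Module.finrank k ↥(Mdl I α) ≤ ∑ δ ∈ hfin.toFinset, (p - (δ 0).toNat) := by
  classical
  have hcard : ∑ δ ∈ hfin.toFinset, (p - (δ 0).toNat) =
      (((hfin.toFinset.sigma fun δ : Fin 3 → ℤ => Finset.Ioc 0 (p - (δ 0).toNat)) :
        Finset ((_ : Fin 3 → ℤ) × ℕ)) : Set ((_ : Fin 3 → ℤ) × ℕ)).ncard := by
    rw [Set.ncard_coe_finset, Finset.card_sigma]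
    simp
  rw [hcard]
  refine sum_le_of_disjoint _ _ (fun α => PQ I p 1 2 α) _ (Finset.finite_toSet _)
    (fun α γ => (⟨fun i => if i = 1 then α 1 else γ i, (-α 0).toNat⟩ : (_ : Fin 3 → ℤ) × ℕ))
    (fun α _ => finrank_le_PQ hfin hp 1 2 (by decide) (by decide) (by decide) α) ?_ ?_
  · intro α hα γ hγ
    obtain ⟨h0, h1⟩ := hB α hα
    have k1 := hγ.2.1.1 1
    simp only [Pi.sub_apply] at k1
    rw [Finset.mem_coe, Finset.mem_sigma, Finset.mem_Ioc, Set.Finite.mem_toFinset]
    refine ⟨?_, ?_, ?_⟩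
    · refine DD_down hγ.1 (fun i => ?_) (fun i => ?_)
      · simp only
        split_ifs with hi
        · subst hi; omega
        · exact le_rfl
      · simp only
        split_ifs with hi
        · exact h1
        · exact hγ.1.1 i
    · simp only; omega
    · have h3 := hγ.2.2.1
      have h4 := hγ.1.1 0
      have : ((0 : Fin 3) = 1) = False := by simp
      simp only [this, if_false]
      omega
  · intro α hα α' hα' γ hγ γ' hγ' heq
    obtain ⟨h0, h1⟩ := hB α hα
    obtain ⟨h0', h1'⟩ := hB α' hα'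
    have e1 : (fun i => if i = 1 then α 1 else γ i) = fun i => if i = 1 then α' 1 else γ' i :=
      congrArg (fun x : (_ : Fin 3 → ℤ) × ℕ => x.1) heq
    have e2 : (-α 0).toNat = (-α' 0).toNat :=
      congrArg (fun x : (_ : Fin 3 → ℤ) × ℕ => x.2) heq
    have e3 : α 1 = α' 1 := by simpa using congrFun e1 1
    have e4 : γ = γ' := by
      apply top_unique (m := 1) _ hγ.1 hγ.2.2.2.1 hγ'.1 hγ'.2.2.2.1
      intro i hi
      simpa [hi] using congrFun e1 i
    subst e4
    refine ⟨?_, rfl⟩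
    have e5 : γ - α = γ - α' := by
      have s1 : γ - α - Pi.single 2 1 ∉ UU I := by
        rw [sub_right_comm]; exact hγ.2.2.2.2
      have s2 : γ - α' - Pi.single 2 1 ∉ UU I := by
        rw [sub_right_comm]; exact hγ'.2.2.2.2
      apply bot_unique (m := 2) _ hγ.2.1 s1 hγ'.2.1 s2
      intro i hi
      fin_cases i
      · show γ 0 - α 0 = γ 0 - α' 0
        omega
      · show γ 1 - α 1 = γ 1 - α' 1
        omega
      · exact absurd rfl hi
    exact sub_right_injective e5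

theorem bound_neg (hfin : (DD I).Finite) {p : ℕ}
    (hp : (Finsupp.single 0 p : Fin 3 →₀ ℕ) ∈ exps I) (B : Finset (Fin 3 → ℤ))
    (hB : ∀ α ∈ B, α 0 < 0 ∧ α 1 < 0) :
    ∑ α ∈ B, Module.finrank k ↥(Mdl I α) ≤ ∑ δ ∈ hfin.toFinset, (δ 0).toNat := by
  classical
  have hcard : ∑ δ ∈ hfin.toFinset, (δ 0).toNat =
      (((hfin.toFinset.sigma fun δ : Fin 3 → ℤ => Finset.Ioc 0 (δ 0).toNat) :
        Finset ((_ : Fin 3 → ℤ) × ℕ)) : Set ((_ : Fin 3 → ℤ) × ℕ)).ncard := by
    rw [Set.ncard_coe_finset, Finset.card_sigma]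
    simp
  rw [hcard]
  refine sum_le_of_disjoint _ _ (fun α => PQ I p 2 1 α) _ (Finset.finite_toSet _)
    (fun α γ => (⟨fun i => if i = 1 then γ 1 else γ i - α i, (-α 0).toNat⟩ : (_ : Fin 3 → ℤ) × ℕ))
    (fun α _ => finrank_le_PQ hfin hp 2 1 (by decide) (by decide) (by decide) α) ?_ ?_
  · intro α hα γ hγ
    obtain ⟨h0, h1⟩ := hB α hα
    rw [Finset.mem_coe, Finset.mem_sigma, Finset.mem_Ioc, Set.Finite.mem_toFinset]
    have hnn : ∀ i, 0 ≤ (fun i => if i = 1 then γ 1 else γ i - α i : Fin 3 → ℤ) i := by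
      intro i
      simp only
      split_ifs with hi
      · exact hγ.1.1 1
      · exact hγ.2.1.1 i
    refine ⟨?_, ?_, ?_⟩
    · rcases mem_UU_or_DD (I := I) hnn with h | h
      · exfalso
        apply hγ.2.2.2.2
        refine UU_up h fun i => ?_
        simp only [Pi.sub_apply, Pi.single_apply]
        split_ifs with hi
        · subst hi; omega
        · omega
      · exact h
    · simp only; omega
    · have h4 := hγ.1.1 0
      have : ((0 : Fin 3) = 1) = False := by simp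
      simp only [this, if_false]
      omega
  · intro α hα α' hα' γ hγ γ' hγ' heq
    obtain ⟨h0, h1⟩ := hB α hα
    obtain ⟨h0', h1'⟩ := hB α' hα'
    have e1 : (fun i => if i = 1 then γ 1 else γ i - α i) =
        fun i => if i = 1 then γ' 1 else γ' i - α' i :=
      congrArg (fun x : (_ : Fin 3 → ℤ) × ℕ => x.1) heq
    have e2 : (-α 0).toNat = (-α' 0).toNat :=
      congrArg (fun x : (_ : Fin 3 → ℤ) × ℕ => x.2) heq
    have e3 : γ 1 = γ' 1 := by simpa using congrFun e1 1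
    have e5 : γ - α = γ' - α' := by
      have s1 : γ - α - Pi.single 1 1 ∉ UU I := by
        rw [sub_right_comm]; exact hγ.2.2.2.2
      have s2 : γ' - α' - Pi.single 1 1 ∉ UU I := by
        rw [sub_right_comm]; exact hγ'.2.2.2.2
      apply bot_unique (m := 1) _ hγ.2.1 s1 hγ'.2.1 s2
      intro i hi
      simpa [hi] using congrFun e1 i
    have e4 : γ = γ' := by
      apply top_unique (m := 2) _ hγ.1 hγ.2.2.2.1 hγ'.1 hγ'.2.2.2.1
      intro i hi
      fin_cases i
      · have := congrFun e5 0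
        simp only [Pi.sub_apply] at this
        show γ 0 = γ' 0
        omega
      · exact e3
      · exact absurd rfl hi
    subst e4
    exact ⟨sub_right_injective e5, rfl⟩

/-- the main bound -/
theorem finrank_Tgt_le (hI : IsMonomial I) (hfin : (DD I).Finite) {p : ℕ}
    (hp : (Finsupp.single 0 p : Fin 3 →₀ ℕ) ∈ exps I) :
    Module.finrank k (Tgt I) ≤ (2 * p + 1) * (DD I).ncard := by
  classical
  obtain ⟨N, hN⟩ := exists_bound hfin
  have hS : Module.finrank k ↥(sigPiece I ({0} : Set (Fin 3))) +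
      Module.finrank k ↥(sigPiece I ({1}ᶜ : Set (Fin 3))) +
      Module.finrank k ↥(sigPiece I ({2}ᶜ : Set (Fin 3))) ≤ p * (DD I).ncard := by
    have h1 : Module.finrank k ↥(sigPiece I ({0} : Set (Fin 3))) +
      Module.finrank k ↥(sigPiece I ({1}ᶜ : Set (Fin 3))) +
      Module.finrank k ↥(sigPiece I ({2}ᶜ : Set (Fin 3))) =
        ∑ α ∈ (box (Fin 3) N).filter (fun α => α 0 < 0 ∧ 0 ≤ α 1),
          Module.finrank k ↥(Mdl I α) +
        ∑ α ∈ (box (Fin 3) N).filter (fun α => α 0 < 0 ∧ α 1 < 0),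
          Module.finrank k ↥(Mdl I α) := by
      rw [finrank_sig hI hfin hN, finrank_sig hI hfin hN, finrank_sig hI hfin hN]
      simp only [Finset.sum_filter, ← Finset.sum_add_distrib]
      refine Finset.sum_congr rfl fun α _ => ?_
      simp only [forall_fin3, Set.mem_singleton_iff, Set.mem_compl_iff]
      have hneg : (∀ i, α i < 0) → Module.finrank k ↥(Mdl I α) = 0 := finrank_Mdl_neg hfin
      rw [forall_fin3] at hneg
      rcases lt_or_ge (α 0) 0 with h0 | h0 <;> rcases lt_or_ge (α 1) 0 with h1 | h1 <;>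
        rcases lt_or_ge (α 2) 0 with h2 | h2 <;>
        simp [h0, h1, h2, not_lt.2, not_le.2, hneg]
    rw [h1]
    have h2 := bound_pos hfin hp ((box (Fin 3) N).filter (fun α => α 0 < 0 ∧ 0 ≤ α 1))
      (fun α hα => (Finset.mem_filter.1 hα).2)
    have h3 := bound_neg hfin hp ((box (Fin 3) N).filter (fun α => α 0 < 0 ∧ α 1 < 0))
      (fun α hα => (Finset.mem_filter.1 hα).2)
    refine (add_le_add h2 h3).trans ?_
    rw [← Finset.sum_add_distrib, Set.ncard_eq_toFinset_card _ hfin, mul_comm, ← smul_eq_mul,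
      ← Finset.sum_const]
    refine Finset.sum_le_sum fun δ hδ => ?_
    rw [Set.Finite.mem_toFinset] at hδ
    have h4 : (δ 0).toNat < p := by
      by_contra hcon
      refine not_mem_DD (UU_up (vz_mem_UU.2 hp) fun i => ?_) hδ
      have := hδ.1 i
      have := hδ.1 0
      rw [vz_single, Pi.single_apply]
      split_ifs with hi
      · subst hi; omega
      · assumption
    omega
  rw [finrank_total hI hfin, Fin.sum_univ_three]
  have g0 := finrank_sigPiece_singleton hI hfin 0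
  have g1 := finrank_sigPiece_singleton hI hfin 1
  have g2 := finrank_sigPiece_singleton hI hfin 2
  have e : (2 * p + 1) * (DD I).ncard = 2 * (p * (DD I).ncard) + (DD I).ncard := by ring
  rw [e]
  omega

end K777.Bound2
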