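import Groth.Agent.W4c1hilbpn.K777.Decomp
import Mathlib.LinearAlgebra.Dimension.Constructions
import Mathlib.Algebra.BigOperators.Group.Finset.Sigma

/-! Counting homomorphisms `I → S/I` by classes of generators. -/

set_option autoImplicit false
set_option linter.unusedSimpArgs false
set_option linter.unusedSectionVars false
set_option linter.unusedVariables false

namespace K777.Count

open MvPolynomial W4c1hilbpn K777.Basic K777.Model K777.Decomp

variable {σ : Type*} [Finite σ] [DecidableEq σ] {k : Type*} [Field k]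
variable {I : Ideal (MvPolynomial σ k)} {ι S : Type*}

/-- The data describing the classes of generators which give nonzero homomorphisms. -/
structure Data (I : Ideal (MvPolynomial σ k)) (ι S : Type*) (P : (σ → ℤ) → Prop) where
  /-- generators -/
  gens : ι → σ → ℤ
  gens_nonneg : ∀ i j, 0 ≤ gens i j
  mem_U : ∀ β : σ → ℤ, β ∈ UU I ↔ ∃ i, ∀ j, gens i j ≤ β j
  /-- degree -/
  A : S → σ → ℤ
  /-- representative -/
  r : S → ι
  /-- class -/
  C : S → ι → Prop
  h1 : ∀ s, P (A s)
  h2 : ∀ s i, C s i → gens i + A s ∈ DD I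
  hr : ∀ s, C s (r s)
  h3 : ∀ s i i' γ, C s i → ¬ C s i' → (∀ j, (gens i + A s) j ≤ γ j) →
    (∀ j, (gens i' + A s) j ≤ γ j) → γ ∉ DD I
  h4 : ∀ s s' i, A s = A s' → C s i → C s' i → s = s'
  h5 : ∀ s i, C s i → ∃ γ ∈ DD I, (∀ j, (gens i + A s) j ≤ γ j) ∧ (∀ j, (gens (r s) + A s) j ≤ γ j)
  h6 : ∀ α i, P α → gens i + α ∈ DD I → (∃ s, A s = α ∧ C s i) ∨
    (∃ i' γ, γ ∈ DD I ∧ (∀ j, (gens i + α) j ≤ γ j) ∧ (∀ j, (gens i' + α) j ≤ γ j) ∧
      ∃ j, (gens i' + α) j < 0)

variable {P : (σ → ℤ) → Prop} (Q : Data I ι S P)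
namespace Data

theorem link {α : σ → ℤ} {f : (σ → ℤ) → k} (hf : f ∈ Mdl I α) {i : ι} {γ : σ → ℤ}
    (hγ : γ ∈ DD I) (h : ∀ j, (Q.gens i + α) j ≤ γ j) : f γ = f (Q.gens i + α) := by
  apply mdl_const hf _ hγ h
  rw [add_sub_cancel_right, Q.mem_U]
  exact ⟨i, fun j => le_rfl⟩

/-- evaluation at the representatives -/
def ev (α : σ → ℤ) : ↥(Mdl I α) →ₗ[k] ({s : S // Q.A s = α} → k) where
  toFun f s := f.1 (Q.gens (Q.r s.1) + α)
  map_add' f g := rfl
  map_smul' a f := rfl

theorem ev_injective {α : σ → ℤ} (hα : P α) : Function.Injective (Q.ev α : ↥(Mdl I α) →ₗ[k] _) := by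
  rw [← LinearMap.ker_eq_bot, LinearMap.ker_eq_bot']
  rintro ⟨f, hf⟩ h0
  have hg : ∀ i, f (Q.gens i + α) = 0 := by
    intro i
    by_contra hne
    rcases Q.h6 α i hα (hf.1 _ hne).1 with ⟨s, rfl, hC⟩ | ⟨i', γ, hγ, h1, h2, j, hj⟩
    · obtain ⟨γ, hγ, h1, h2⟩ := Q.h5 s i hC
      apply hne
      rw [← Q.link hf hγ h1, Q.link hf hγ h2]
      exact congrFun h0 ⟨s, rfl⟩
    · apply hne
      rw [← Q.link hf hγ h1, Q.link hf hγ h2]
      exact mdl_zero_of_neg hf hj
  ext γ
  show f γ = 0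
  by_contra hne
  obtain ⟨h1, h2⟩ := hf.1 γ hne
  rw [Q.mem_U] at h2
  obtain ⟨i, hi⟩ := h2
  apply hne
  rw [Q.link hf h1 (i := i), hg i]
  intro j
  have := hi j
  simp only [Pi.sub_apply, Pi.add_apply] at this ⊢
  omega

open Classical in
/-- the indicator function of a class -/
noncomputable def ind (s : S) : (σ → ℤ) → k := fun γ =>
  if γ ∈ DD I ∧ ∃ i, Q.C s i ∧ ∀ j, (Q.gens i + Q.A s) j ≤ γ j then 1 else 0

theorem ind_mem (s : S) : (Q.ind s : (σ → ℤ) → k) ∈ Mdl I (Q.A s) := by
  classical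
  constructor
  · intro γ hne
    have h : γ ∈ DD I ∧ ∃ i, Q.C s i ∧ ∀ j, (Q.gens i + Q.A s) j ≤ γ j := by
      by_contra h
      exact hne (if_neg h)
    obtain ⟨hγ, i, -, hi⟩ := h
    refine ⟨hγ, ?_⟩
    rw [Q.mem_U]
    refine ⟨i, fun j => ?_⟩
    have := hi j
    simp only [Pi.sub_apply, Pi.add_apply] at this ⊢
    omega
  · intro γ j0 hU hD
    rw [ind, ind]
    congr 1
    apply propext
    constructor
    · rintro ⟨-, i, hi, hle⟩
      rw [Q.mem_U] at hU
      obtain ⟨i', hi'⟩ := hU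
      have hi'2 : ∀ j, (Q.gens i' + Q.A s) j ≤ γ j := by
        intro j
        have := hi' j
        simp only [Pi.sub_apply, Pi.add_apply] at this ⊢
        omega
      have hup : ∀ j, γ j ≤ (γ + Pi.single j0 1 : σ → ℤ) j := by
        intro j
        by_cases hj : j = j0
        · subst hj; simp
        · simp [Pi.single_apply, hj]
      have hC : Q.C s i' := by
        by_contra hC
        exact Q.h3 s i i' _ hi hC hle (fun j => (hi'2 j).trans (hup j)) hD
      refine ⟨?_, i', hC, hi'2⟩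
      exact DD_down hD hup (fun j => ((Q.h2 s i' hC).1 j).trans (hi'2 j))
    · rintro ⟨-, i, hi, hle⟩
      refine ⟨hD, i, hi, fun j => (hle j).trans ?_⟩
      by_cases hj : j = j0
      · subst hj; simp
      · simp [Pi.single_apply, hj]

theorem ind_rep (s s' : S) (h : Q.A s = Q.A s') :
    (Q.ind s : (σ → ℤ) → k) (Q.gens (Q.r s') + Q.A s') = open Classical in if s = s' then 1 else 0 := by
  classical
  rw [ind]
  congr 1
  apply propext
  constructor
  · rintro ⟨hD, i, hi, hle⟩
    have hC : Q.C s (Q.r s') := by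
      by_contra hC
      exact Q.h3 s i (Q.r s') _ hi hC hle (fun j => by rw [h]) hD
    exact Q.h4 s s' _ h hC (Q.hr s')
  · rintro rfl
    exact ⟨Q.h2 s _ (Q.hr s), _, Q.hr s, fun j => le_rfl⟩

theorem ev_surjective [Fintype S] (α : σ → ℤ) :
    Function.Surjective (Q.ev α : ↥(Mdl I α) →ₗ[k] _) := by
  classical
  intro c
  refine ⟨⟨∑ s : {s : S // Q.A s = α}, c s • (Q.ind s.1 : (σ → ℤ) → k), ?_⟩, ?_⟩
  · refine Submodule.sum_mem _ fun s _ => Submodule.smul_mem _ _ ?_
    have := Q.ind_mem (k := k) s.1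
    rwa [s.2] at this
  · ext s
    show (∑ s : {s : S // Q.A s = α}, c s • (Q.ind s.1 : (σ → ℤ) → k)) (Q.gens (Q.r s.1) + α) = c s
    rw [Finset.sum_apply, Finset.sum_eq_single s]
    · have := Q.ind_rep (k := k) s.1 s.1 rfl
      rw [if_pos rfl, s.2] at this
      rw [Pi.smul_apply, this, smul_eq_mul, mul_one]
    · intro s' _ hne
      have := Q.ind_rep (k := k) s'.1 s.1 (s'.2.trans s.2.symm)
      rw [if_neg (fun h => hne (Subtype.ext h)), s.2] at this
      rw [Pi.smul_apply, this, smul_zero]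
    · exact fun h => absurd (Finset.mem_univ _) h

/-- the model of a piece has a basis indexed by the classes of that degree -/
noncomputable def equiv [Fintype S] {α : σ → ℤ} (hα : P α) :
    ↥(Mdl I α) ≃ₗ[k] ({s : S // Q.A s = α} → k) :=
  LinearEquiv.ofBijective (Q.ev α) ⟨Q.ev_injective hα, Q.ev_surjective α⟩

include Q in
theorem count [Fintype S] (hI : IsMonomial I) :
    Module.finrank k ↥(⨆ α : {α : σ → ℤ // P α}, tPiece I α.1) = Fintype.card S := by
  classical
  have hfin : ∀ α, P α → Module.Finite k ↥(tPiece I α) := fun α hα =>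
    Module.Finite.equiv ((mdlEquiv hI α).trans (Q.equiv hα)).symm
  have hrank : ∀ α, P α → Module.finrank k ↥(tPiece I α) =
      (Finset.univ.filter fun s : S => Q.A s = α).card := by
    intro α hα
    rw [finrank_tPiece hI, (Q.equiv hα).finrank_eq, Module.finrank_fintype_fun_eq_card,
      Fintype.card_subtype]
  rw [finrank_iSup_subtype _ (iSupIndep_tPiece hI) (Finset.univ.image Q.A) P]
  · rw [Finset.sum_congr rfl (fun α hα => hrank α (Finset.mem_filter.1 hα).2)]
    have h1 : (Finset.univ.image Q.A).filter P = Finset.univ.image Q.A := by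
      rw [Finset.filter_eq_self]
      intro α hα
      rw [Finset.mem_image] at hα
      obtain ⟨s, -, rfl⟩ := hα
      exact Q.h1 s
    rw [h1, ← Finset.card_eq_sum_card_image, Finset.card_univ]
  · exact fun α _ hα => hfin α hα
  · intro α hα hne
    rw [Finset.mem_image]
    by_contra hcon
    apply hne
    have : Module.finrank k ↥(tPiece I α) = 0 := by
      rw [hrank α hα, Finset.card_eq_zero, Finset.filter_eq_empty_iff]
      intro s _ hs
      exact hcon ⟨s, Finset.mem_univ _, hs⟩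
    have := hfin α hα
    rwa [Submodule.finrank_eq_zero] at *

end Data
end K777.Count
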