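import Groth.Agent.W4c1hilbpn.K777.Count
import Mathlib.RingTheory.MvPolynomial.Ideal
import Mathlib.Algebra.Order.BigOperators.Group.Finset
import Mathlib.Algebra.Order.Antidiag.FinsuppEquiv

/-! Tools for counting homomorphisms for explicit monomial ideals in `k[x_0, …, x_n]`. -/

set_option autoImplicit false
set_option linter.unusedSimpArgs false
set_option linter.unusedSectionVars false
set_option linter.unusedVariables false

namespace K777.CountFin

open MvPolynomial W4c1hilbpn K777.Basic K777.Model K777.Decomp K777.Count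

section gen
variable {σ : Type*} [Finite σ] {k : Type*} [Field k] {ι : Type*}

theorem mem_exps_span (g : ι → σ →₀ ℕ) (T : Set (MvPolynomial σ k))
    (hT : T = Set.range fun i => monomial (g i) (1 : k)) (β : σ →₀ ℕ) :
    β ∈ exps (Ideal.span T) ↔ ∃ i, g i ≤ β := by
  show monomial β (1 : k) ∈ Ideal.span T ↔ _
  have h : T = (fun s => monomial s (1 : k)) '' Set.range g := by
    rw [hT, ← Set.range_comp]; rfl
  rw [h, mem_ideal_span_monomial_image]
  classical
  rw [support_monomial, if_neg one_ne_zero]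
  simp

theorem isMonomial_span (g : ι → σ →₀ ℕ) (T : Set (MvPolynomial σ k))
    (hT : T = Set.range fun i => monomial (g i) (1 : k)) : IsMonomial (Ideal.span T) := by
  intro p hp β hβ
  show β ∈ exps (Ideal.span T)
  rw [mem_exps_span g T hT]
  have h : T = (fun s => monomial s (1 : k)) '' Set.range g := by
    rw [hT, ← Set.range_comp]; rfl
  rw [h, mem_ideal_span_monomial_image] at hp
  obtain ⟨_, ⟨i, rfl⟩, hi⟩ := hp β hβ
  exact ⟨i, hi⟩

theorem mem_UU_span (g : ι → σ → ℤ) (hg : ∀ i j, 0 ≤ g i j) (T : Set (MvPolynomial σ k))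
    (hT : T = Set.range fun i => monomial (vn (g i)) (1 : k)) (β : σ → ℤ) :
    β ∈ UU (Ideal.span T) ↔ ∃ i, ∀ j, g i j ≤ β j := by
  constructor
  · rintro ⟨h1, h2⟩
    rw [mem_exps_span _ T hT] at h2
    obtain ⟨i, hi⟩ := h2
    refine ⟨i, fun j => ?_⟩
    have h3 := hi j
    have h4 := h1 j
    have h5 := hg i j
    simp only [vn_apply] at h3
    omega
  · rintro ⟨i, hi⟩
    refine ⟨fun j => (hg i j).trans (hi j), ?_⟩
    rw [mem_exps_span _ T hT]
    refine ⟨i, fun j => ?_⟩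
    have h3 := hi j
    simp only [vn_apply]
    omega

theorem mem_DD_iff {I : Ideal (MvPolynomial σ k)} (γ : σ → ℤ) :
    γ ∈ DD I ↔ (∀ i, 0 ≤ γ i) ∧ γ ∉ UU I := by
  constructor
  · rintro ⟨h1, h2⟩
    exact ⟨h1, fun h => h2 h.2⟩
  · rintro ⟨h1, h2⟩
    exact ⟨h1, fun h => h2 ⟨h1, h⟩⟩

end gen

variable {n : ℕ}

/-- unit vectors -/
def e (m : ℕ) : Fin (n + 1) → ℤ := fun i => if i.val = m then 1 else 0

theorem e_apply (m : ℕ) (i : Fin (n + 1)) : e m i = if i.val = m then 1 else 0 := rfl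

theorem sum_e {m : ℕ} (h : m ≤ n) : ∑ i, (e m : Fin (n + 1) → ℤ) i = 1 := by
  rw [Finset.sum_eq_single ⟨m, by omega⟩]
  · simp [e]
  · intro b _ hb
    rw [e_apply, if_neg]
    intro h'
    exact hb (Fin.ext h')
  · exact fun h => absurd (Finset.mem_univ _) h

theorem le_sum {δ : Fin (n + 1) → ℤ} (h0 : ∀ i, 0 ≤ δ i) (i : Fin (n + 1)) : δ i ≤ ∑ i, δ i :=
  Finset.single_le_sum (f := δ) (fun j _ => h0 j) (Finset.mem_univ i)

theorem add_le_sum {δ : Fin (n + 1) → ℤ} (h0 : ∀ i, 0 ≤ δ i) {i j : Fin (n + 1)} (hij : i ≠ j) :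
    δ i + δ j ≤ ∑ i, δ i := by
  rw [← Finset.sum_pair hij]
  exact Finset.sum_le_sum_of_subset_of_nonneg (Finset.subset_univ _) (fun a _ _ => h0 a)

theorem sum_eq_zero {δ : Fin (n + 1) → ℤ} (h0 : ∀ i, 0 ≤ δ i) (h1 : ∑ i, δ i = 0) : δ = 0 := by
  ext i
  have := le_sum h0 i
  have := h0 i
  simp
  omega

/-- a vector which is at least `e m` -/
theorem sub_e_nonneg {δ : Fin (n + 1) → ℤ} (h0 : ∀ i, 0 ≤ δ i) {i : Fin (n + 1)} (hi : 1 ≤ δ i) :
    ∀ j, 0 ≤ (δ - e i.val : Fin (n + 1) → ℤ) j := by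
  intro j
  simp only [Pi.sub_apply, e_apply]
  split_ifs with h
  · have : j = i := Fin.ext h
    subst this; omega
  · have := h0 j; omega

theorem exists_e {δ : Fin (n + 1) → ℤ} (h0 : ∀ i, 0 ≤ δ i) (h1 : ∑ i, δ i = 1) :
    ∃ m ≤ n, δ = e m := by
  obtain ⟨i, hi⟩ : ∃ i, 1 ≤ δ i := by
    by_contra hcon
    push Not at hcon
    have : ∑ i, δ i = 0 := Finset.sum_eq_zero fun i _ => by
      have := hcon i; have := h0 i; omega
    omega
  refine ⟨i.val, by have := i.2; omega, ?_⟩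
  have h2 : δ - e i.val = 0 := by
    apply sum_eq_zero (sub_e_nonneg h0 hi)
    simp only [Pi.sub_apply, Finset.sum_sub_distrib]
    rw [h1, sum_e (by have := i.2; omega)]
    simp
  exact sub_eq_zero.1 h2

variable (n) in
/-- monomials of degree `q` in the variables `x_1, …, x_n` -/
noncomputable def W (q : ℕ) : Finset (Fin (n + 1) → ℤ) :=
  ((Finset.univ.erase (0 : Fin (n + 1))).finsuppAntidiag q).map ⟨vz, vz_injective⟩

theorem mem_W {q : ℕ} {δ : Fin (n + 1) → ℤ} :
    δ ∈ W n q ↔ (∀ i, 0 ≤ δ i) ∧ δ 0 = 0 ∧ ∑ i, δ i = q := by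
  rw [W, Finset.mem_map]
  constructor
  · rintro ⟨β, hβ, rfl⟩
    rw [Finset.mem_finsuppAntidiag] at hβ
    have h0 : β 0 = 0 := by
      by_contra h
      have := hβ.2 (Finsupp.mem_support_iff.2 h)
      simp at this
    refine ⟨fun i => by simp, by simp [h0], ?_⟩
    rw [← hβ.1]
    rw [← Finset.add_sum_erase _ _ (Finset.mem_univ (0 : Fin (n + 1)))]
    simp [h0]
  · rintro ⟨h0, h1, h2⟩
    refine ⟨vn δ, ?_, vz_vn h0⟩
    rw [Finset.mem_finsuppAntidiag]
    constructor
    · zify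
      rw [← h2, ← Finset.add_sum_erase _ _ (Finset.mem_univ (0 : Fin (n + 1))), h1, zero_add]
      refine Finset.sum_congr rfl fun i _ => ?_
      simp [h0 i]
    · intro i hi
      rw [Finsupp.mem_support_iff] at hi
      rw [Finset.mem_erase]
      refine ⟨?_, Finset.mem_univ _⟩
      rintro rfl
      apply hi
      simp [h1]

theorem card_W (hn : 1 ≤ n) (q : ℕ) : (W n q).card = (n + q - 1).choose (n - 1) := by
  rw [W, Finset.card_map, Finset.card_finsuppAntidiag_nat_eq_choose, Finset.card_erase_of_mem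
    (Finset.mem_univ _), Finset.card_univ, Fintype.card_fin, Nat.add_sub_cancel]
  exact Nat.choose_symm_of_eq_add (by omega)

/-- a vector different from `q e m` has another nonzero coordinate -/
theorem exists_pos {q m : ℕ} (hm : m ≤ n) {δ : Fin (n + 1) → ℤ} (h0 : ∀ i, 0 ≤ δ i)
    (h1 : ∑ i, δ i = q) (h2 : δ ≠ fun i => if i.val = m then (q : ℤ) else 0) :
    ∃ j : Fin (n + 1), j.val ≠ m ∧ 1 ≤ δ j := by
  by_contra hcon
  push Not at hcon
  apply h2
  have h3 : ∀ j : Fin (n + 1), j.val ≠ m → δ j = 0 := fun j hj => by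
    have := hcon j hj; have := h0 j; omega
  ext i
  split_ifs with h
  · rw [← h1, Finset.sum_eq_single i]
    · intro b _ hb
      exact h3 b (fun h' => hb (Fin.ext (h'.trans h.symm)))
    · exact fun h => absurd (Finset.mem_univ _) h
  · exact h3 i h

/-- multiples of unit vectors -/
def f (q m : ℕ) : Fin (n + 1) → ℤ := fun i => if i.val = m then (q : ℤ) else 0

theorem f_apply (q m : ℕ) (i : Fin (n + 1)) : f q m i = if i.val = m then (q : ℤ) else 0 := rfl

theorem sum_f {q m : ℕ} (h : m ≤ n) : ∑ i, (f q m : Fin (n + 1) → ℤ) i = q := by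
  rw [Finset.sum_eq_single ⟨m, by omega⟩]
  · simp [f]
  · intro b _ hb
    rw [f_apply, if_neg]
    intro h'
    exact hb (Fin.ext h')
  · exact fun h => absurd (Finset.mem_univ _) h

theorem vn_e_add_e {i j : Fin (n + 1)} :
    (vn (e i.val + e j.val) : Fin (n + 1) →₀ ℕ) = Finsupp.single i 1 + Finsupp.single j 1 := by
  ext a
  simp only [vn_apply, Pi.add_apply, e_apply, Finsupp.add_apply, Finsupp.single_apply, Fin.ext_iff]
  split_ifs <;> omega

theorem vn_f_add_e {q : ℕ} {i j : Fin (n + 1)} :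
    (vn (f q i.val + e j.val) : Fin (n + 1) →₀ ℕ) = Finsupp.single i q + Finsupp.single j 1 := by
  ext a
  simp only [vn_apply, Pi.add_apply, e_apply, f_apply, Finsupp.add_apply, Finsupp.single_apply, Fin.ext_iff]
  split_ifs <;> omega

theorem vn_f {q : ℕ} {i : Fin (n + 1)} :
    (vn (f q i.val) : Fin (n + 1) →₀ ℕ) = Finsupp.single i q := by
  ext a
  simp only [vn_apply, f_apply, Finsupp.single_apply, Fin.ext_iff]
  split_ifs <;> omega

end K777.CountFin
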