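import Groth.Agent.W4c1hilbpn.K777.Model
import Mathlib.LinearAlgebra.FiniteDimensional.Lemmas
import Mathlib.LinearAlgebra.Dimension.Finite
import Mathlib.Data.Fintype.Pi
import Mathlib.Order.Interval.Finset.Basic
import Mathlib.Data.Int.Interval
import Mathlib.LinearAlgebra.FiniteDimensional.Basic

/-! Decomposition of `T(I)` into graded pieces. -/

set_option autoImplicit false
set_option linter.unusedSimpArgs false
set_option linter.unusedSectionVars false

namespace K777.Decomp

open MvPolynomial W4c1hilbpn K777.Basic K777.Model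

section gen
variable {k V ι : Type*} [Field k] [AddCommGroup V] [Module k V]

theorem finrank_biSup_of_indep (p : ι → Submodule k V) (hp : iSupIndep p) (B : Finset ι)
    (hfin : ∀ i ∈ B, Module.Finite k (p i)) :
    Module.Finite k ↥(⨆ i ∈ B, p i) ∧
      Module.finrank k ↥(⨆ i ∈ B, p i) = ∑ i ∈ B, Module.finrank k ↥(p i) := by
  classical
  induction B using Finset.induction_on with
  | empty =>
    have h0 : (⨆ i ∈ (∅ : Finset ι), p i) = ⊥ := by simp
    rw [h0]
    exact ⟨inferInstance, by simp⟩
  | insert a B ha ih =>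
    obtain ⟨h1, h2⟩ := ih (fun i hi => hfin i (Finset.mem_insert_of_mem hi))
    have h3 := hfin a (Finset.mem_insert_self a B)
    rw [Finset.iSup_insert, Finset.sum_insert ha]
    constructor
    · infer_instance
    · have h4 := Submodule.finrank_sup_add_finrank_inf_eq (p a) (⨆ i ∈ B, p i)
      have h5 : Disjoint (p a) (⨆ i ∈ B, p i) := by
        have := hp.disjoint_biSup (x := a) (y := (B : Set ι)) (by simpa using ha)
        simpa using this
      rw [h5.eq_bot, finrank_bot, add_zero] at h4
      rw [h4, h2]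

/-- The main bookkeeping lemma for sums of pieces. -/
theorem finrank_iSup_subtype (p : ι → Submodule k V) (hp : iSupIndep p) (B : Finset ι)
    (P : ι → Prop) [DecidablePred P]
    (hfin : ∀ i ∈ B, P i → Module.Finite k (p i)) (hB : ∀ i, P i → p i ≠ ⊥ → i ∈ B) :
    Module.finrank k ↥(⨆ i : {i // P i}, p i.1) = ∑ i ∈ B.filter P, Module.finrank k ↥(p i) := by
  have h1 : (⨆ i : {i // P i}, p i.1) = ⨆ i ∈ B.filter P, p i := by
    apply le_antisymm
    · refine iSup_le fun i => ?_
      by_cases hi : p i.1 = ⊥
      · rw [hi]; exact bot_le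
      · exact le_biSup p (Finset.mem_filter.2 ⟨hB i.1 i.2 hi, i.2⟩)
    · refine iSup₂_le fun i hi => ?_
      exact le_iSup (fun i : {i // P i} => p i.1) ⟨i, (Finset.mem_filter.1 hi).2⟩
  rw [h1]
  exact (finrank_biSup_of_indep p hp _ fun i hi => hfin i (Finset.mem_filter.1 hi).1
    (Finset.mem_filter.1 hi).2).2

end gen

variable {σ : Type*} [Finite σ] [DecidableEq σ] {k : Type*} [Field k]
variable {I : Ideal (MvPolynomial σ k)}

/-- projection onto the piece of degree `α` -/
noncomputable def pr (hI : IsMonomial I) (α : σ → ℤ) (φ : Tgt I) : Tgt I :=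
  ofMdl hI α _ (co_mem_Mdl hI α φ)

open Classical in
theorem co_pr (hI : IsMonomial I) (α : σ → ℤ) (φ : Tgt I) (β γ : σ → ℤ) :
    co hI (pr hI α φ) β γ = if γ = β + α then co hI φ β γ else 0 := by
  rw [pr, co_ofMdl]
  split_ifs with h
  · congr 1; rw [h]; abel
  · rfl

theorem pr_mem (hI : IsMonomial I) (α : σ → ℤ) (φ : Tgt I) : pr hI α φ ∈ tPiece I α :=
  ofMdl_mem hI α _ _

theorem pr_of_mem (hI : IsMonomial I) {α : σ → ℤ} {φ : Tgt I} (h : φ ∈ tPiece I α) :
    pr hI α φ = φ := by
  classical
  rw [mem_tPiece_iff hI] at h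
  apply co_ext hI
  intro β γ
  rw [co_pr]
  split_ifs with h1
  · rfl
  · by_contra h2; exact h1 (h β γ (Ne.symm h2))

theorem pr_of_mem_ne (hI : IsMonomial I) {α α' : σ → ℤ} (hne : α' ≠ α) {φ : Tgt I}
    (h : φ ∈ tPiece I α') : pr hI α φ = 0 := by
  classical
  rw [mem_tPiece_iff hI] at h
  apply co_ext hI
  intro β γ
  rw [co_pr]
  have h0 : co hI (0 : Tgt I) β γ = 0 := by
    have := congrFun (congrFun (map_zero (coL hI)) β) γ
    simpa using this
  rw [h0]
  split_ifs with h1
  · by_contra h2
    exact hne (add_left_cancel ((h β γ h2).symm.trans h1))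
  · rfl

/-- projection, as a linear map -/
noncomputable def prL (hI : IsMonomial I) (α : σ → ℤ) : Tgt I →ₗ[k] Tgt I where
  toFun := pr hI α
  map_add' φ ψ := by
    classical
    apply co_ext hI
    intro β γ
    rw [co_add, co_pr, co_pr, co_pr, co_add]
    split_ifs <;> simp
  map_smul' a φ := by
    classical
    apply co_ext hI
    intro β γ
    rw [RingHom.id_apply, co_smul, co_pr, co_pr, co_smul]
    split_ifs <;> simp

theorem iSupIndep_tPiece (hI : IsMonomial I) : iSupIndep (fun α => tPiece I α) := by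
  intro α
  rw [Submodule.disjoint_def]
  intro φ hφ hφ'
  have h1 : (⨆ (α') (_ : α' ≠ α), tPiece I α') ≤ LinearMap.ker (prL hI α) := by
    refine iSup₂_le fun α' hα' ψ hψ => ?_
    rw [LinearMap.mem_ker]
    exact pr_of_mem_ne hI hα' hψ
  have h2 := h1 hφ'
  rw [LinearMap.mem_ker] at h2
  have h3 : prL hI α φ = φ := pr_of_mem hI hφ
  rw [← h3, h2]

/-- induction on exponents by adding unit vectors -/
theorem exp_induction {P : (σ →₀ ℕ) → Prop} (h0 : P 0)
    (h1 : ∀ m i, P m → P (m + Finsupp.single i 1)) (m : σ →₀ ℕ) : P m := by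
  induction m using Finsupp.induction with
  | zero => exact h0
  | single_add a b f _ _ ih =>
    clear * - ih h1
    induction b with
    | zero => simpa using ih
    | succ n hn =>
      have := h1 _ a hn
      have e : Finsupp.single a (n + 1) + f = Finsupp.single a n + f + Finsupp.single a 1 := by
        rw [Finsupp.single_add]; abel
      rwa [e]

theorem mdl_descend {α : σ → ℤ} {f : (σ → ℤ) → k} (hf : f ∈ Mdl I α) (m : σ →₀ ℕ) :
    ∀ γ : σ → ℤ, γ - α ∈ UU I → f (γ + vz m) ≠ 0 → f (γ + vz m) = f γ := by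
  induction m using exp_induction with
  | h0 => intro γ _ _; congr 1; ext i; simp
  | h1 m i ih =>
    intro γ hγ hne
    have e : γ + vz (m + Finsupp.single i 1) = γ + vz m + Pi.single i 1 := by
      rw [vz_add, vz_single]; simp only [Nat.cast_one]; abel
    rw [e] at hne ⊢
    have h2 : γ + vz m - α ∈ UU I := by
      refine UU_up hγ fun j => ?_
      simp
    have h3 := hf.2 _ i h2 (hf.1 _ hne).1
    rw [h3] at hne ⊢
    exact ih γ hγ hne

/-- elements of the model are constant going up inside the region -/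
theorem mdl_const {α : σ → ℤ} {f : (σ → ℤ) → k} (hf : f ∈ Mdl I α) {γ δ : σ → ℤ}
    (hγ : γ - α ∈ UU I) (hδ : δ ∈ DD I) (hle : ∀ i, γ i ≤ δ i) : f δ = f γ := by
  have e : δ = γ + vz (vn (δ - γ)) := by
    rw [vz_vn]
    · abel
    · intro i; have := hle i; simp; omega
  by_cases h0 : f δ = 0
  · -- then `f γ = 0` too
    by_contra hne
    have hγD : γ ∈ DD I := (hf.1 γ (fun h => hne (by rw [h0, h]))).1
    -- go up
    have up : ∀ m : σ →₀ ℕ, γ + vz m ∈ DD I → f (γ + vz m) = f γ := by
      intro m
      induction m using exp_induction with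
      | h0 => intro _; congr 1; ext i; simp
      | h1 m i ih =>
        intro hm
        have e : γ + vz (m + Finsupp.single i 1) = γ + vz m + Pi.single i 1 := by
          rw [vz_add, vz_single]; simp only [Nat.cast_one]; abel
        rw [e] at hm ⊢
        have h2 : γ + vz m - α ∈ UU I := by
          refine UU_up hγ fun j => ?_
          simp
        have h4 : γ + vz m ∈ DD I := by
          refine DD_down hm (fun j => ?_) (fun j => ?_)
          · by_cases hj : j = i
            · subst hj; simp
            · simp [Pi.single_apply, hj]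
          · have := hγD.1 j
            simp only [Pi.add_apply, vz_apply]
            omega
        rw [hf.2 _ i h2 hm, ih h4]
    apply hne
    have := up (vn (δ - γ)) (by rw [← e]; exact hδ)
    rw [← e] at this
    exact this
  · have := mdl_descend hf (vn (δ - γ)) γ hγ (by rw [← e]; exact h0)
    rw [← e] at this
    exact this

theorem mdl_zero_of_neg {α : σ → ℤ} {f : (σ → ℤ) → k} (hf : f ∈ Mdl I α) {γ : σ → ℤ} {i : σ}
    (h : γ i < 0) : f γ = 0 := by
  by_contra hne
  have := (hf.1 γ hne).1.1 i
  omega

/-! ### Finite colength -/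

/-- monomials outside `I` form a basis of `S/I` -/
noncomputable def basisQ (hI : IsMonomial I) :
    Module.Basis {γ : σ →₀ ℕ // γ ∉ exps I} k (MvPolynomial σ k ⧸ I) :=
  Module.Basis.mk (v := fun γ : {γ : σ →₀ ℕ // γ ∉ exps I} =>
    Ideal.Quotient.mk I (monomial γ.1 (1 : k))) (by
      classical
      rw [linearIndependent_iff']
      intro s g hg γ hγ
      have h1 := congrArg (cfQ hI γ.1) hg
      rw [map_sum, map_zero, Finset.sum_eq_single γ] at h1
      · rwa [map_smul, cfQ_monomial hI γ.2, if_pos rfl, smul_eq_mul, mul_one] at h1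
      · intro δ _ hδ
        rw [map_smul, cfQ_monomial hI γ.2, if_neg, smul_zero]
        exact fun h => hδ (Subtype.ext h)
      · exact fun h => absurd hγ h) (by
      rintro m -
      obtain ⟨p, rfl⟩ := Ideal.Quotient.mk_surjective m
      rw [p.as_sum, map_sum]
      refine Submodule.sum_mem _ fun β _ => ?_
      have h1 : Ideal.Quotient.mk I (monomial β (coeff β p)) =
          coeff β p • Ideal.Quotient.mk I (monomial β (1 : k)) := by
        have : monomial β (coeff β p) = coeff β p • monomial β (1 : k) := by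
          rw [smul_monomial, smul_eq_mul, mul_one]
        rw [this]; rfl
      rw [h1]
      refine Submodule.smul_mem _ _ ?_
      by_cases hβ : β ∈ exps I
      · rw [mk_eq_zero_of_mem hβ]; exact Submodule.zero_mem _
      · exact Submodule.subset_span ⟨⟨β, hβ⟩, rfl⟩)

theorem basisQ_apply (hI : IsMonomial I) (γ : {γ : σ →₀ ℕ // γ ∉ exps I}) :
    basisQ hI γ = Ideal.Quotient.mk I (monomial γ.1 (1 : k)) := by
  rw [basisQ, Module.Basis.mk_apply]

theorem finite_compl (hI : IsMonomial I) [Module.Finite k (MvPolynomial σ k ⧸ I)] :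
    Finite {γ : σ →₀ ℕ // γ ∉ exps I} := Module.Finite.finite_basis (basisQ hI)

theorem finrank_quot (hI : IsMonomial I) :
    Module.finrank k (MvPolynomial σ k ⧸ I) = Nat.card {γ : σ →₀ ℕ // γ ∉ exps I} :=
  Module.finrank_eq_nat_card_basis (basisQ hI)

variable (I) in
/-- the complement of the exponent set, two versions -/
noncomputable def complEquiv : {γ : σ →₀ ℕ // γ ∉ exps I} ≃ ↥(DD I) where
  toFun γ := ⟨vz γ.1, vz_mem_DD.2 γ.2⟩
  invFun γ := ⟨vn γ.1, γ.2.2⟩
  left_inv γ := by ext1; simp
  right_inv γ := by ext1; simp [vz_vn γ.2.1]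

theorem finite_DD (hI : IsMonomial I) [Module.Finite k (MvPolynomial σ k ⧸ I)] :
    (DD I).Finite := by
  have := finite_compl hI
  have h2 : Finite ↥(DD I) := (complEquiv I).finite_iff.1 this
  exact Set.toFinite _

theorem finrank_quot' (hI : IsMonomial I) :
    Module.finrank k (MvPolynomial σ k ⧸ I) = (DD I).ncard := by
  rw [finrank_quot hI, Nat.card_congr (complEquiv I)]; rfl

theorem exists_bound (hfin : (DD I).Finite) : ∃ N : ℕ, ∀ i, (Finsupp.single i N : σ →₀ ℕ) ∈ exps I := by
  have h1 : ∀ i, ∃ n : ℕ, (Finsupp.single i n : σ →₀ ℕ) ∈ exps I := by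
    intro i
    by_contra hcon
    push Not at hcon
    have : Set.Infinite (DD I) := by
      refine Set.infinite_of_injective_forall_mem (f := fun n : ℕ => vz (Finsupp.single i n : σ →₀ ℕ)) ?_ ?_
      · intro a b hab
        have := vz_injective hab
        exact Finsupp.single_injective i this
      · intro n; exact vz_mem_DD.2 (hcon n)
    exact this hfin
  choose n hn using h1
  have := Fintype.ofFinite σ
  refine ⟨∑ i, n i, fun i => exps_of_le (hn i) ?_⟩
  rw [Finsupp.single_le_single]
  exact Finset.single_le_sum (f := n) (fun _ _ => Nat.zero_le _) (Finset.mem_univ i)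

end K777.Decomp
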