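import Mathlib.LinearAlgebra.Matrix.Trace
import Mathlib.LinearAlgebra.Dual.Lemmas
import Mathlib.LinearAlgebra.FiniteDimensional.Lemmas
import Mathlib.LinearAlgebra.Matrix.FiniteDimensional
import Mathlib.Tactic.Abel
import Mathlib.Tactic.Ring
import Mathlib.Tactic.LinearCombination

/-! The self-adjointness of the middle map in the graded Koszul complex of three commuting matrices. -/

set_option autoImplicit false
set_option linter.unusedSimpArgs false
set_option linter.unusedSectionVars false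

namespace K777.Dual1

open Matrix

theorem finrank_flip {k V W : Type*} [Field k] [AddCommGroup V] [Module k V] [AddCommGroup W]
    [Module k W] [Module.Finite k V] [Module.Finite k W] (B : V →ₗ[k] W →ₗ[k] k) :
    Module.finrank k V + Module.finrank k ↥(LinearMap.ker B.flip) =
      Module.finrank k W + Module.finrank k ↥(LinearMap.ker B) := by
  have h1 := LinearMap.finrank_range_add_finrank_ker B
  have h2 := LinearMap.finrank_range_add_finrank_ker B.flip
  have h3 : Module.finrank k ↥(LinearMap.range B.flip) = Module.finrank k ↥(LinearMap.range B) := by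
    have e : B.flip = (LinearMap.dualMap B).comp (Module.evalEquiv k W).toLinearMap := by
      ext w v; rfl
    rw [e, LinearMap.range_comp, LinearEquiv.range, Submodule.map_top]
    exact LinearMap.finrank_range_dualMap_eq_finrank_range B
  omega

variable {D G k : Type*} [Fintype D] [DecidableEq D] [AddCommGroup G] [Field k] (w : D → G)

/-- matrices homogeneous of degree `g` -/
def E (g : G) : Submodule k (Matrix D D k) where
  carrier := {P | ∀ a b, P a b ≠ 0 → w a = w b + g}
  zero_mem' := fun a b h => absurd rfl h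
  add_mem' := by
    intro P Q hP hQ a b h
    by_cases h1 : P a b = 0
    · apply hQ a b
      intro h2
      exact h (by rw [Matrix.add_apply, h1, h2, add_zero])
    · exact hP a b h1
  smul_mem' := by
    intro c P hP a b h
    apply hP a b
    intro h1
    exact h (by rw [Matrix.smul_apply, h1, smul_zero])

variable {w}

theorem mul_mem_E {g h : G} {P Q : Matrix D D k} (hP : P ∈ E w g) (hQ : Q ∈ E w h) :
    P * Q ∈ E w (g + h) := by
  intro a b hab
  rw [Matrix.mul_apply] at hab
  obtain ⟨c, _, hc⟩ := Finset.exists_ne_zero_of_sum_ne_zero hab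
  rw [hP a c (left_ne_zero_of_mul hc), hQ c b (right_ne_zero_of_mul hc)]
  abel

theorem finrank_E_neg (g : G) : Module.finrank k ↥(E (k := k) w (-g)) = Module.finrank k ↥(E (k := k) w g) := by
  have key : ∀ g : G, ∀ P ∈ E (k := k) w g, Pᵀ ∈ E (k := k) w (-g) := by
    intro g P hP a b hab
    have := hP b a hab
    rw [this]; abel
  refine LinearEquiv.finrank_eq
    { toFun := fun P => ⟨P.1ᵀ, by have := key _ _ P.2; rwa [neg_neg] at this⟩
      map_add' := fun P Q => by ext1; exact Matrix.transpose_add _ _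
      map_smul' := fun c P => by ext1; exact Matrix.transpose_smul _ _
      invFun := fun P => ⟨P.1ᵀ, key _ _ P.2⟩
      left_inv := fun P => by ext1; exact Matrix.transpose_transpose _
      right_inv := fun P => by ext1; exact Matrix.transpose_transpose _ }

theorem trace_nondeg {g : G} {P : Matrix D D k} (hP : P ∈ E w g)
    (h : ∀ Q ∈ E w (-g), Matrix.trace (P * Q) = 0) : P = 0 := by
  ext a b
  by_contra hab
  have h1 := hP a b hab
  have h2 : Matrix.single b a (1 : k) ∈ E w (-g) := by
    intro c d hcd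
    rw [Matrix.single_apply] at hcd
    by_cases h3 : b = c ∧ a = d
    · obtain ⟨rfl, rfl⟩ := h3
      rw [h1]; abel
    · rw [if_neg h3] at hcd; exact absurd rfl hcd
  have h3 := h _ h2
  rw [Matrix.trace_mul_single] at h3
  simp at h3
  exact hab h3

variable (w) in
/-- one-cochains of degree `g` -/
abbrev K1 (k : Type*) [Field k] (w0 w1 w2 g : G) : Type _ :=
  ↥(E (k := k) w (g + w0)) × ↥(E (k := k) w (g + w1)) × ↥(E (k := k) w (g + w2))

variable (w) in
/-- one-cocycles -/
def Z1 (X Y Z : Matrix D D k) (w0 w1 w2 g : G) : Submodule k (K1 w k w0 w1 w2 g) where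
  carrier := {p | X * p.2.1.1 - p.2.1.1 * X = Y * p.1.1 - p.1.1 * Y ∧
    X * p.2.2.1 - p.2.2.1 * X = Z * p.1.1 - p.1.1 * Z ∧
    Y * p.2.2.1 - p.2.2.1 * Y = Z * p.2.1.1 - p.2.1.1 * Z}
  zero_mem' := by simp
  add_mem' := by
    rintro p q ⟨h1, h2, h3⟩ ⟨h1', h2', h3'⟩
    refine ⟨?_, ?_, ?_⟩
    · simp only [Prod.fst_add, Prod.snd_add, Submodule.coe_add, mul_add, add_mul]
      rw [add_sub_add_comm, add_sub_add_comm, h1, h1']
    · simp only [Prod.fst_add, Prod.snd_add, Submodule.coe_add, mul_add, add_mul]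
      rw [add_sub_add_comm, add_sub_add_comm, h2, h2']
    · simp only [Prod.fst_add, Prod.snd_add, Submodule.coe_add, mul_add, add_mul]
      rw [add_sub_add_comm, add_sub_add_comm, h3, h3']
  smul_mem' := by
    rintro c p ⟨h1, h2, h3⟩
    refine ⟨?_, ?_, ?_⟩
    · simp only [Prod.smul_fst, Prod.smul_snd, Submodule.coe_smul, Matrix.mul_smul, Matrix.smul_mul,
        ← smul_sub]
      rw [h1]
    · simp only [Prod.smul_fst, Prod.smul_snd, Submodule.coe_smul, Matrix.mul_smul, Matrix.smul_mul,
        ← smul_sub]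
      rw [h2]
    · simp only [Prod.smul_fst, Prod.smul_snd, Submodule.coe_smul, Matrix.mul_smul, Matrix.smul_mul,
        ← smul_sub]
      rw [h3]

/-- the trilinear form -/
def T (X Y Z P Q R P' Q' R' : Matrix D D k) : k :=
  Matrix.trace ((X * Q - Q * X - (Y * P - P * Y)) * R') -
    Matrix.trace ((X * R - R * X - (Z * P - P * Z)) * Q') +
    Matrix.trace ((Y * R - R * Y - (Z * Q - Q * Z)) * P')

theorem T_symm (X Y Z P Q R P' Q' R' : Matrix D D k) :
    T X Y Z P Q R P' Q' R' = T X Y Z P' Q' R' P Q R := by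
  have c := fun A B C : Matrix D D k => Matrix.trace_mul_cycle A B C
  simp only [T, sub_mul, Matrix.trace_sub]
  rw [c X Q R', ← c X R' Q, c Y P R', ← c Y R' P, c X R Q', ← c X Q' R, c Z P Q', ← c Z Q' P,
    c Y R P', ← c Y P' R, c Z Q P', ← c Z P' Q]
  ring

variable (w) in
/-- the pairing -/
def B (X Y Z : Matrix D D k) (w0 w1 w2 g g' : G) :
    K1 w k w0 w1 w2 g →ₗ[k] K1 w k w0 w1 w2 g' →ₗ[k] k :=
  LinearMap.mk₂ k (fun p p' => T X Y Z p.1.1 p.2.1.1 p.2.2.1 p'.1.1 p'.2.1.1 p'.2.2.1)
    (by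
      intro p q r
      simp only [T, Prod.fst_add, Prod.snd_add, Submodule.coe_add, mul_add, add_mul, sub_mul,
        Matrix.trace_sub, Matrix.trace_add]
      ring)
    (by
      intro c p q
      simp only [T, Prod.smul_fst, Prod.smul_snd, Submodule.coe_smul, Matrix.mul_smul,
        Matrix.smul_mul, ← smul_sub, Matrix.trace_smul, smul_eq_mul]
      ring)
    (by
      intro p q r
      simp only [T, Prod.fst_add, Prod.snd_add, Submodule.coe_add, mul_add, add_mul, sub_mul,
        Matrix.trace_sub, Matrix.trace_add]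
      ring)
    (by
      intro c p q
      simp only [T, Prod.smul_fst, Prod.smul_snd, Submodule.coe_smul, Matrix.mul_smul,
        Matrix.smul_mul, ← smul_sub, Matrix.trace_smul, smul_eq_mul]
      ring)

theorem B_apply (X Y Z : Matrix D D k) (w0 w1 w2 g g' : G) (p : K1 w k w0 w1 w2 g)
    (p' : K1 w k w0 w1 w2 g') : B w X Y Z w0 w1 w2 g g' p p' =
      T X Y Z p.1.1 p.2.1.1 p.2.2.1 p'.1.1 p'.2.1.1 p'.2.2.1 := rfl

theorem flip_B (X Y Z : Matrix D D k) (w0 w1 w2 g g' : G) :
    (B w X Y Z w0 w1 w2 g g').flip = B w X Y Z w0 w1 w2 g' g := by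
  apply LinearMap.ext₂
  intro p p'
  rw [LinearMap.flip_apply, B_apply, B_apply]
  exact T_symm _ _ _ _ _ _ _ _ _

theorem comm_mem {g h s : G} {X P : Matrix D D k} (hX : X ∈ E w g) (hP : P ∈ E w h)
    (hs : g + h = s) : X * P - P * X ∈ E w s := by
  subst hs
  refine Submodule.sub_mem _ (mul_mem_E hX hP) ?_
  rw [add_comm]
  exact mul_mem_E hP hX

theorem ker_B {X Y Z : Matrix D D k} {w0 w1 w2 g g' : G} (hX : X ∈ E w w0) (hY : Y ∈ E w w1)
    (hZ : Z ∈ E w w2) (hg : g + g' + w0 + w1 + w2 = 0) :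
    LinearMap.ker (B w X Y Z w0 w1 w2 g g') = Z1 w X Y Z w0 w1 w2 g := by
  ext p
  rw [LinearMap.mem_ker]
  constructor
  · intro h
    have h' : ∀ p' : K1 w k w0 w1 w2 g', T X Y Z p.1.1 p.2.1.1 p.2.2.1 p'.1.1 p'.2.1.1 p'.2.2.1 = 0 := fun p' => by
      rw [← B_apply (w0 := w0) (w1 := w1) (w2 := w2) (g := g) (g' := g'), h]; rfl
    refine ⟨?_, ?_, ?_⟩
    · rw [← sub_eq_zero]
      apply trace_nondeg (w := w) (g := g + w0 + w1)
      · exact Submodule.sub_mem _ (comm_mem hX p.2.1.2 (by abel)) (comm_mem hY p.1.2 (by abel))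
      · intro R' hR'
        have e : -(g + w0 + w1) = g' + w2 := by
          rw [neg_eq_iff_add_eq_zero, ← hg]; abel
        rw [e] at hR'
        have := h' ⟨0, 0, ⟨R', hR'⟩⟩
        simpa [T] using this
    · rw [← sub_eq_zero]
      apply trace_nondeg (w := w) (g := g + w0 + w2)
      · exact Submodule.sub_mem _ (comm_mem hX p.2.2.2 (by abel)) (comm_mem hZ p.1.2 (by abel))
      · intro R' hR'
        have e : -(g + w0 + w2) = g' + w1 := by
          rw [neg_eq_iff_add_eq_zero, ← hg]; abel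
        rw [e] at hR'
        have := h' ⟨0, ⟨R', hR'⟩, 0⟩
        simpa [T] using this
    · rw [← sub_eq_zero]
      apply trace_nondeg (w := w) (g := g + w1 + w2)
      · exact Submodule.sub_mem _ (comm_mem hY p.2.2.2 (by abel)) (comm_mem hZ p.2.1.2 (by abel))
      · intro R' hR'
        have e : -(g + w1 + w2) = g' + w0 := by
          rw [neg_eq_iff_add_eq_zero, ← hg]; abel
        rw [e] at hR'
        have := h' ⟨⟨R', hR'⟩, 0, 0⟩
        simpa [T] using this
  · rintro ⟨h1, h2, h3⟩
    apply LinearMap.ext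
    intro p'
    rw [B_apply, T, h1, h2, h3]
    simp

theorem finrank_Z1 {X Y Z : Matrix D D k} {w0 w1 w2 g g' : G} (hX : X ∈ E w w0) (hY : Y ∈ E w w1)
    (hZ : Z ∈ E w w2) (hg : g + g' + w0 + w1 + w2 = 0) :
    Module.finrank k (K1 w k w0 w1 w2 g) + Module.finrank k ↥(Z1 w X Y Z w0 w1 w2 g') =
      Module.finrank k (K1 w k w0 w1 w2 g') + Module.finrank k ↥(Z1 w X Y Z w0 w1 w2 g) := by
  have h := finrank_flip (B w X Y Z w0 w1 w2 g g')
  rw [flip_B, ker_B hX hY hZ hg, ker_B hX hY hZ (by rw [← hg]; abel)] at h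
  exact h

end K777.Dual1
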