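import Groth.Agent.W4c1hilbpn.K777.Dual1
import Groth.Agent.W4c1hilbpn.K777.Stair

/-! Duality for the bigraded pieces of `T(I)`, three variables. -/

set_option autoImplicit false
set_option linter.unusedSimpArgs false
set_option linter.unusedSectionVars false

namespace K777.Dual2

open MvPolynomial W4c1hilbpn K777.Basic K777.Model K777.Decomp K777.Colen K777.Stair K777.Dual1
open Matrix

variable {k : Type*} [Field k] {I : Ideal (MvPolynomial (Fin 3) k)}

variable (I) in
/-- exponents outside `I` -/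
abbrev Dx := {γ : Fin 3 →₀ ℕ // γ ∉ exps I}

variable [Fintype (Dx I)] [DecidableEq (Dx I)]

variable (I) in
open Classical in
/-- multiplication by a variable on `S/I` -/
noncomputable def Xm (i : Fin 3) : Matrix (Dx I) (Dx I) k :=
  fun γ β => if γ.1 = β.1 + Finsupp.single i 1 then 1 else 0

variable (I) in
open Classical in
/-- the class of a monomial -/
noncomputable def dl (β : Fin 3 →₀ ℕ) : Dx I → k := fun γ => if γ.1 = β then 1 else 0

theorem dl_coe (β : Dx I) : dl I β.1 = Pi.single β (1 : k) := by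
  classical
  ext γ
  simp only [dl, Pi.single_apply, Subtype.ext_iff]

theorem dl_of_mem {β : Fin 3 →₀ ℕ} (h : β ∈ exps I) : dl I β = 0 := by
  classical
  ext γ
  simp only [dl, Pi.zero_apply, ite_eq_right_iff, one_ne_zero, imp_false]
  rintro rfl
  exact γ.2 h

theorem Xm_mulVec_of_eq {i : Fin 3} {γ β : Dx I} (h : γ.1 = β.1 + Finsupp.single i 1)
    (v : Dx I → k) : (Xm I i *ᵥ v) γ = v β := by
  classical
  rw [Matrix.mulVec, dotProduct, Finset.sum_eq_single β]
  · rw [Xm, if_pos h, one_mul]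
  · intro b _ hb
    rw [Xm, if_neg, zero_mul]
    intro h'
    apply hb
    rw [h] at h'
    exact Subtype.ext (add_right_cancel h').symm
  · intro h; exact absurd (Finset.mem_univ _) h

theorem Xm_mulVec_of_zero {i : Fin 3} {γ : Dx I} (h : γ.1 i = 0) (v : Dx I → k) :
    (Xm I i *ᵥ v) γ = 0 := by
  classical
  rw [Matrix.mulVec, dotProduct]
  apply Finset.sum_eq_zero
  intro b _
  rw [Xm, if_neg, zero_mul]
  intro h'
  rw [h'] at h
  simp at h

theorem cases_coord (γ : Dx I) (i : Fin 3) :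
    γ.1 i = 0 ∨ ∃ β : Dx I, γ.1 = β.1 + Finsupp.single i 1 := by
  by_cases h : γ.1 i = 0
  · exact Or.inl h
  · right
    have e : γ.1 = (γ.1 - Finsupp.single i 1) + Finsupp.single i 1 := by
      rw [tsub_add_cancel_of_le]
      rw [Finsupp.single_le_iff]; omega
    exact ⟨⟨γ.1 - Finsupp.single i 1, fun h' => γ.2 (by rw [e]; exact exps_add h' _)⟩, e⟩

theorem Xm_dl (i : Fin 3) (β : Fin 3 →₀ ℕ) :
    Xm I i *ᵥ dl I β = dl I (β + Finsupp.single i 1) := by
  classical
  ext γ
  rcases cases_coord γ i with h | ⟨β', h⟩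
  · rw [Xm_mulVec_of_zero h, dl, if_neg]
    intro h'
    rw [h'] at h
    simp at h
  · rw [Xm_mulVec_of_eq h, dl, dl]
    congr 1
    rw [h]
    exact propext (add_left_inj _).symm

theorem mat_ext {A B : Matrix (Dx I) (Dx I) k} (h : ∀ β : Dx I, A *ᵥ dl I β.1 = B *ᵥ dl I β.1) :
    A = B := by
  ext γ β
  have := congrFun (h β) γ
  simpa [dl_coe] using this

theorem mulVec_dl_coe (A : Matrix (Dx I) (Dx I) k) (γ β : Dx I) :
    (A *ᵥ dl I β.1) γ = A γ β := by
  simp [dl_coe]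

theorem Xm_comm (i j : Fin 3) : Xm I i * Xm I j = Xm I j * Xm I i := by
  apply mat_ext
  intro β
  rw [← Matrix.mulVec_mulVec, ← Matrix.mulVec_mulVec, Xm_dl, Xm_dl, Xm_dl, Xm_dl, add_right_comm]

variable {G : Type*} [AddCommGroup G] (w : (Fin 3 → ℤ) →+ G)

/-- degree of an exponent -/
def W (β : Fin 3 →₀ ℕ) : G := w (vz β)

theorem W_add (a b : Fin 3 →₀ ℕ) : W w (a + b) = W w a + W w b := by
  rw [W, vz_add, map_add]; rfl

theorem W_zero : W w 0 = 0 := by
  have : vz (0 : Fin 3 →₀ ℕ) = 0 := by ext i; simp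
  rw [W, this, map_zero]

/-- degree of a variable -/
def om (i : Fin 3) : G := w (Pi.single i 1)

theorem W_single (i : Fin 3) : W w (Finsupp.single i 1) = om w i := by
  rw [W, vz_single, om]; simp

variable (I) in
/-- degree function on the basis -/
abbrev wD : Dx I → G := fun γ => W w γ.1

theorem Xm_mem (i : Fin 3) : Xm I i ∈ E (wD I w) (om w i) := by
  classical
  intro a b h
  rw [Xm] at h
  by_cases h1 : a.1 = b.1 + Finsupp.single i 1
  · show W w a.1 = W w b.1 + om w i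
    rw [h1, W_add, W_single]
  · rw [if_neg h1] at h; exact absurd rfl h

theorem mulVec_homog {s t : G} {P : Matrix (Dx I) (Dx I) k} (hP : P ∈ E (wD I w) s)
    {v : Dx I → k} (hv : ∀ γ, v γ ≠ 0 → W w γ.1 = t) {γ : Dx I} (h : (P *ᵥ v) γ ≠ 0) :
    W w γ.1 = t + s := by
  rw [Matrix.mulVec, dotProduct] at h
  obtain ⟨c, _, hc⟩ := Finset.exists_ne_zero_of_sum_ne_zero h
  have h1 := hP γ c (left_ne_zero_of_mul hc)
  have h2 := hv c (right_ne_zero_of_mul hc)
  rw [← h2]; exact h1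

theorem dl_homog {β : Fin 3 →₀ ℕ} {γ : Dx I} (h : dl I β γ ≠ (0 : k)) : W w γ.1 = W w β := by
  classical
  rw [dl] at h
  by_cases h1 : γ.1 = β
  · rw [h1]
  · rw [if_neg h1] at h; exact absurd rfl h

variable (I) in
/-- extended homomorphisms of degree `g` -/
def PM (g : G) : Submodule k ((Fin 3 →₀ ℕ) → Dx I → k) where
  carrier := {h | (∀ β ∈ exps I, ∀ i, h (β + Finsupp.single i 1) = Xm I i *ᵥ h β) ∧
    ∀ β γ, h β γ ≠ 0 → W w γ.1 = W w β + g}
  zero_mem' := ⟨fun β _ i => by simp, fun β γ h => absurd rfl h⟩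
  add_mem' := by
    rintro f h ⟨hf1, hf2⟩ ⟨hh1, hh2⟩
    refine ⟨fun β hβ i => ?_, fun β γ hne => ?_⟩
    · rw [Pi.add_apply, Pi.add_apply, hf1 β hβ i, hh1 β hβ i, Matrix.mulVec_add]
    · by_cases h1 : f β γ = 0
      · apply hh2 β γ
        intro h2
        exact hne (by rw [Pi.add_apply, Pi.add_apply, h1, h2, add_zero])
      · exact hf2 β γ h1
  smul_mem' := by
    rintro c f ⟨hf1, hf2⟩
    refine ⟨fun β hβ i => ?_, fun β γ hne => ?_⟩
    · rw [Pi.smul_apply, Pi.smul_apply, hf1 β hβ i, Matrix.mulVec_smul]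
    · apply hf2 β γ
      intro h2
      exact hne (by rw [Pi.smul_apply, Pi.smul_apply, h2, smul_zero])

/-- matrices of differences -/
noncomputable def dm (h : (Fin 3 →₀ ℕ) → Dx I → k) (i : Fin 3) : Matrix (Dx I) (Dx I) k :=
  fun γ β => h (β.1 + Finsupp.single i 1) γ - (Xm I i *ᵥ h β.1) γ

theorem dm_mem {g : G} {h : (Fin 3 →₀ ℕ) → Dx I → k} (hh : h ∈ PM I w g) (i : Fin 3) :
    dm h i ∈ E (wD I w) (g + om w i) := by
  intro γ β hne
  show W w γ.1 = W w β.1 + (g + om w i)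
  rw [dm] at hne
  by_cases h1 : h (β.1 + Finsupp.single i 1) γ = 0
  · have h2 : (Xm I i *ᵥ h β.1) γ ≠ 0 := by
      intro h2; exact hne (by rw [h1, h2, sub_zero])
    rw [mulVec_homog w (Xm_mem w i) (hh.2 β.1) h2]; abel
  · rw [hh.2 _ _ h1, W_add, W_single]; abel

theorem dm_mulVec {g : G} {h : (Fin 3 →₀ ℕ) → Dx I → k} (hh : h ∈ PM I w g) (i : Fin 3)
    (β : Fin 3 →₀ ℕ) : dm h i *ᵥ dl I β = h (β + Finsupp.single i 1) - Xm I i *ᵥ h β := by
  by_cases hβ : β ∈ exps I
  · rw [dl_of_mem hβ, Matrix.mulVec_zero, hh.1 β hβ i, sub_self]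
  · ext γ
    exact mulVec_dl_coe (dm h i) γ ⟨β, hβ⟩

/-- the derivation map -/
noncomputable def der (g : G) : ↥(PM I w g) →ₗ[k] K1 (wD I w) k (om w 0) (om w 1) (om w 2) g where
  toFun h := ⟨⟨dm h.1 0, dm_mem w h.2 0⟩, ⟨dm h.1 1, dm_mem w h.2 1⟩, ⟨dm h.1 2, dm_mem w h.2 2⟩⟩
  map_add' f h := by
    have key : ∀ i, dm (f.1 + h.1) i = dm f.1 i + dm h.1 i := by
      intro i
      ext γ β
      simp only [dm, Pi.add_apply, Matrix.add_apply, Matrix.mulVec_add]
      ring
    refine Prod.ext (Subtype.ext (key 0)) (Prod.ext (Subtype.ext (key 1)) (Subtype.ext (key 2)))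
  map_smul' c f := by
    have key : ∀ i, dm (c • f.1) i = c • dm f.1 i := by
      intro i
      ext γ β
      simp only [dm, Pi.smul_apply, Matrix.smul_apply, Matrix.mulVec_smul, smul_sub]
    refine Prod.ext (Subtype.ext (key 0)) (Prod.ext (Subtype.ext (key 1)) (Subtype.ext (key 2)))

theorem der_comm {g : G} {h : (Fin 3 →₀ ℕ) → Dx I → k} (hh : h ∈ PM I w g) (i j : Fin 3) :
    Xm I i * dm h j - dm h j * Xm I i = Xm I j * dm h i - dm h i * Xm I j := by
  apply mat_ext
  intro β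
  rw [Matrix.sub_mulVec, Matrix.sub_mulVec, ← Matrix.mulVec_mulVec, ← Matrix.mulVec_mulVec,
    ← Matrix.mulVec_mulVec, ← Matrix.mulVec_mulVec, Xm_dl, Xm_dl, dm_mulVec w hh, dm_mulVec w hh,
    dm_mulVec w hh, dm_mulVec w hh, Matrix.mulVec_sub, Matrix.mulVec_sub, Matrix.mulVec_mulVec,
    Matrix.mulVec_mulVec, Xm_comm i j,
    show β.1 + Finsupp.single i 1 + Finsupp.single j 1 =
      β.1 + Finsupp.single j 1 + Finsupp.single i 1 from add_right_comm _ _ _]
  abel

/-- block operator on pairs -/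
noncomputable def bl (X P : Matrix (Dx I) (Dx I) k) : Module.End k ((Dx I → k) × (Dx I → k)) :=
  LinearMap.prod (X.mulVecLin.comp (LinearMap.fst k _ _))
    (X.mulVecLin.comp (LinearMap.snd k _ _) + P.mulVecLin.comp (LinearMap.fst k _ _))

theorem bl_apply (X P : Matrix (Dx I) (Dx I) k) (u v : Dx I → k) :
    bl X P (u, v) = (X *ᵥ u, X *ᵥ v + P *ᵥ u) := rfl

theorem bl_comm {X P Y Q : Matrix (Dx I) (Dx I) k} (h1 : X * Y = Y * X)
    (h2 : X * Q - Q * X = Y * P - P * Y) : Commute (bl X P) (bl Y Q) := by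
  apply LinearMap.ext
  rintro ⟨u, v⟩
  show bl X P (bl Y Q (u, v)) = bl Y Q (bl X P (u, v))
  simp only [bl_apply, Matrix.mulVec_add, Matrix.mulVec_mulVec]
  rw [h1]
  have h3 : X * Q + P * Y = Y * P + Q * X := by
    have : X * Q + P * Y = (X * Q - Q * X) + P * Y + Q * X := by abel
    rw [this, h2]; abel
  refine Prod.ext rfl ?_
  show (Y * X) *ᵥ v + (X * Q) *ᵥ u + (P * Y) *ᵥ u = (Y * X) *ᵥ v + (Y * P) *ᵥ u + (Q * X) *ᵥ u
  rw [add_assoc, ← Matrix.add_mulVec, h3, Matrix.add_mulVec, ← add_assoc]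

/-- integrate three commuting operators -/
def integ {V : Type*} [AddCommGroup V] [Module k V] (A : Fin 3 → Module.End k V) (v : V)
    (β : Fin 3 →₀ ℕ) : V := (A 0 ^ β 0 * A 1 ^ β 1 * A 2 ^ β 2) v

theorem integ_zero {V : Type*} [AddCommGroup V] [Module k V] (A : Fin 3 → Module.End k V)
    (v : V) : integ A v 0 = v := by
  simp [integ]

theorem integ_step {V : Type*} [AddCommGroup V] [Module k V] (A : Fin 3 → Module.End k V)
    (hA : ∀ i j, Commute (A i) (A j)) (v : V) (β : Fin 3 →₀ ℕ) (i : Fin 3) :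
    integ A v (β + Finsupp.single i 1) = A i (integ A v β) := by
  fin_cases i
  · simp only [integ, Finsupp.add_apply, ← Module.End.mul_apply]
    congr 1
    simp [pow_succ', mul_assoc]
  · simp only [integ, Finsupp.add_apply, ← Module.End.mul_apply]
    congr 1
    have h := (hA 1 0).pow_right (β 0)
    simp only [Fin.mk_one, Finsupp.single_eq_same, pow_succ']
    simp only [ne_eq, Fin.reduceEq, not_false_eq_true, Finsupp.single_eq_of_ne, add_zero]
    simp only [← mul_assoc]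
    rw [h.eq]
  · simp only [integ, Finsupp.add_apply, ← Module.End.mul_apply]
    congr 1
    have h := (hA 2 0).pow_right (β 0)
    have h' := (hA 2 1).pow_right (β 1)
    simp only [Fin.reduceFinMk, Finsupp.single_eq_same, pow_succ']
    simp only [ne_eq, Fin.reduceEq, not_false_eq_true, Finsupp.single_eq_of_ne, add_zero]
    simp only [← mul_assoc]
    rw [h.eq, mul_assoc (A 0 ^ β 0), ← h'.eq]
    simp only [← mul_assoc]

end K777.Dual2
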