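import Groth.Agent.W4c1hilbpn.K777.Dual2
import Mathlib.RingTheory.Finiteness.Prod

/-! Duality for the bigraded pieces of `T(I)`, three variables: dimension counts. -/

set_option autoImplicit false
set_option linter.unusedSimpArgs false
set_option linter.unusedSectionVars false

namespace K777.Dual3

open MvPolynomial W4c1hilbpn K777.Basic K777.Model K777.Decomp K777.Colen K777.Stair K777.Dual1
open K777.Dual2
open Matrix

variable {k : Type*} [Field k] {I : Ideal (MvPolynomial (Fin 3) k)}
variable [Fintype (Dx I)] [DecidableEq (Dx I)]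
variable {G : Type*} [AddCommGroup G] (w : (Fin 3 → ℤ) →+ G)

/-- the three matrices of a cochain -/
def Pf {g : G} (p : K1 (wD I w) k (om w 0) (om w 1) (om w 2) g) : Fin 3 → Matrix (Dx I) (Dx I) k :=
  ![p.1.1, p.2.1.1, p.2.2.1]

theorem Pf_mem {g : G} (p : K1 (wD I w) k (om w 0) (om w 1) (om w 2) g) (i : Fin 3) :
    Pf w p i ∈ E (wD I w) (g + om w i) := by
  fin_cases i
  · exact p.1.2
  · exact p.2.1.2
  · exact p.2.2.2

theorem Pf_comm {g : G} {p : K1 (wD I w) k (om w 0) (om w 1) (om w 2) g}
    (hp : p ∈ Z1 (wD I w) (Xm I 0) (Xm I 1) (Xm I 2) (om w 0) (om w 1) (om w 2) g) (i j : Fin 3) :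
    Xm I i * Pf w p j - Pf w p j * Xm I i = Xm I j * Pf w p i - Pf w p i * Xm I j := by
  obtain ⟨h1, h2, h3⟩ := hp
  fin_cases i <;> fin_cases j
  · rfl
  · exact h1
  · exact h2
  · exact h1.symm
  · rfl
  · exact h3
  · exact h2.symm
  · exact h3.symm
  · rfl

/-- the integrated operators -/
noncomputable def Af {g : G} (p : K1 (wD I w) k (om w 0) (om w 1) (om w 2) g) (i : Fin 3) :
    Module.End k ((Dx I → k) × (Dx I → k)) := bl (Xm I i) (Pf w p i)

theorem integ_fst {g : G} {p : K1 (wD I w) k (om w 0) (om w 1) (om w 2) g}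
    (hp : p ∈ Z1 (wD I w) (Xm I 0) (Xm I 1) (Xm I 2) (om w 0) (om w 1) (om w 2) g)
    (β : Fin 3 →₀ ℕ) : (integ (Af w p) (dl I 0, 0) β).1 = dl I β := by
  have hA : ∀ i j, Commute (Af w p i) (Af w p j) := fun i j => bl_comm (Xm_comm i j) (Pf_comm w hp i j)
  induction β using exp_induction with
  | h0 => rw [integ_zero]
  | h1 m i ih =>
    rw [integ_step _ hA]
    show Xm I i *ᵥ (integ (Af w p) (dl I 0, 0) m).1 = _
    rw [ih, Xm_dl]

theorem integ_snd {g : G} {p : K1 (wD I w) k (om w 0) (om w 1) (om w 2) g}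
    (hp : p ∈ Z1 (wD I w) (Xm I 0) (Xm I 1) (Xm I 2) (om w 0) (om w 1) (om w 2) g)
    (β : Fin 3 →₀ ℕ) (i : Fin 3) : (integ (Af w p) (dl I 0, 0) (β + Finsupp.single i 1)).2 =
      Xm I i *ᵥ (integ (Af w p) (dl I 0, 0) β).2 + Pf w p i *ᵥ dl I β := by
  have hA : ∀ i j, Commute (Af w p i) (Af w p j) := fun i j => bl_comm (Xm_comm i j) (Pf_comm w hp i j)
  rw [integ_step _ hA]
  show Xm I i *ᵥ (integ (Af w p) (dl I 0, 0) β).2 + Pf w p i *ᵥ (integ (Af w p) (dl I 0, 0) β).1 = _
  rw [integ_fst w hp]

theorem range_der (g : G) : LinearMap.range (der (I := I) (k := k) w g) =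
    Z1 (wD I w) (Xm I 0) (Xm I 1) (Xm I 2) (om w 0) (om w 1) (om w 2) g := by
  ext p
  constructor
  · rintro ⟨h, rfl⟩
    exact ⟨der_comm w h.2 0 1, der_comm w h.2 0 2, der_comm w h.2 1 2⟩
  · intro hp
    have hs := integ_snd w hp
    have hmem : (fun β => (integ (Af w p) (dl I 0, 0) β).2) ∈ PM I w g := by
      constructor
      · intro β hβ i
        simp only
        rw [hs, dl_of_mem hβ, Matrix.mulVec_zero, add_zero]
      · intro β
        induction β using exp_induction with
        | h0 =>
          intro γ h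
          simp only at h
          rw [integ_zero] at h
          exact absurd rfl h
        | h1 m i ih =>
          intro γ h
          simp only at h
          rw [hs, Pi.add_apply] at h
          by_cases h1 : (Xm I i *ᵥ (integ (Af w p) (dl I 0, 0) m).2) γ = 0
          · have h2 : (Pf w p i *ᵥ dl I m) γ ≠ 0 := by
              intro h2; exact h (by rw [h1, h2, add_zero])
            rw [mulVec_homog w (Pf_mem w p i) (fun γ => dl_homog w) h2, W_add, W_single]; abel
          · rw [mulVec_homog w (Xm_mem w i) ih h1, W_add, W_single]; abel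
    have key : ∀ i, dm (fun β => (integ (Af w p) (dl I 0, 0) β).2) i = Pf w p i := by
      intro i
      apply Matrix.ext
      intro γ β
      show (integ (Af w p) (dl I 0, 0) (β.1 + Finsupp.single i 1)).2 γ -
        (Xm I i *ᵥ (integ (Af w p) (dl I 0, 0) β.1).2) γ = Pf w p i γ β
      rw [hs, Pi.add_apply, mulVec_dl_coe]
      ring
    refine ⟨⟨_, hmem⟩, ?_⟩
    exact Prod.ext (Subtype.ext (key 0)) (Prod.ext (Subtype.ext (key 1)) (Subtype.ext (key 2)))

variable (I) in
/-- homogeneous elements of `S/I` -/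
def Mg (g : G) : Submodule k (Dx I → k) where
  carrier := {v | ∀ γ, v γ ≠ 0 → W w γ.1 = g}
  zero_mem' := fun γ h => absurd rfl h
  add_mem' := by
    intro u v hu hv γ h
    by_cases h1 : u γ = 0
    · apply hv γ
      intro h2; exact h (by rw [Pi.add_apply, h1, h2, add_zero])
    · exact hu γ h1
  smul_mem' := by
    intro c v hv γ h
    apply hv γ
    intro h2; exact h (by rw [Pi.smul_apply, h2, smul_zero])

open Classical in
theorem finrank_Mg (g : G) : Module.finrank k ↥(Mg (k := k) I w g) =
    Nat.card {γ : Dx I // W w γ.1 = g} := by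
  have e : ↥(Mg (k := k) I w g) ≃ₗ[k] ({γ : Dx I // W w γ.1 = g} → k) :=
    { toFun := fun v γ => v.1 γ.1
      map_add' := fun u v => rfl
      map_smul' := fun c v => rfl
      invFun := fun u => ⟨fun γ => if h : W w γ.1 = g then u ⟨γ, h⟩ else 0, by
        intro γ h
        by_contra h'
        exact h (dif_neg h')⟩
      left_inv := by
        rintro ⟨v, hv⟩
        ext γ
        simp only
        split_ifs with h
        · rfl
        · by_contra h'
          exact h (hv γ (Ne.symm h'))
      right_inv := by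
        intro u
        ext γ
        simp only
        rw [dif_pos γ.2] }
  rw [e.finrank_eq, Module.finrank_fintype_fun_eq_card, Nat.card_eq_fintype_card]

theorem ker_der_step {g : G} {h : ↥(PM (k := k) I w g)} (hh : der w g h = 0) (β : Fin 3 →₀ ℕ)
    (i : Fin 3) : h.1 (β + Finsupp.single i 1) = Xm I i *ᵥ h.1 β := by
  have h0 : dm h.1 i = 0 := by
    have h1 := congrArg (fun p => Pf w p) hh
    have h2 := congrFun h1 i
    fin_cases i
    · exact h2
    · exact h2
    · exact h2
  have h3 := dm_mulVec w h.2 i β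
  rw [h0, Matrix.zero_mulVec] at h3
  exact sub_eq_zero.1 h3.symm

theorem finrank_ker_der (g : G) : Module.finrank k ↥(LinearMap.ker (der (I := I) (k := k) w g)) =
    Nat.card {γ : Dx I // W w γ.1 = g} := by
  rw [← finrank_Mg (k := k) (I := I) w g]
  have hmem : ∀ h : ↥(LinearMap.ker (der (I := I) (k := k) w g)), h.1.1 0 ∈ Mg (k := k) I w g := by
    intro h γ hγ
    have := h.1.2.2 0 γ hγ
    rwa [W_zero, zero_add] at this
  let L : ↥(LinearMap.ker (der (I := I) (k := k) w g)) →ₗ[k] ↥(Mg (k := k) I w g) :=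
    { toFun := fun h => ⟨h.1.1 0, hmem h⟩
      map_add' := fun f h => rfl
      map_smul' := fun c h => rfl }
  refine (LinearEquiv.ofBijective L ⟨?_, ?_⟩).finrank_eq
  · rintro ⟨h, hh⟩ ⟨f, hf⟩ h0
    rw [LinearMap.mem_ker] at hh hf
    apply Subtype.ext
    apply Subtype.ext
    have h0' : h.1 0 = f.1 0 := congrArg Subtype.val h0
    show h.1 = f.1
    funext β
    induction β using exp_induction with
    | h0 => exact h0'
    | h1 m i ih => rw [ker_der_step w hh, ker_der_step w hf, ih]
  · rintro ⟨v, hv⟩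
    set A : Fin 3 → Module.End k (Dx I → k) := fun i => (Xm I i).mulVecLin with hAdef
    have hA : ∀ i j, Commute (A i) (A j) := by
      intro i j
      apply LinearMap.ext
      intro u
      show Xm I i *ᵥ (Xm I j *ᵥ u) = Xm I j *ᵥ (Xm I i *ᵥ u)
      rw [Matrix.mulVec_mulVec, Matrix.mulVec_mulVec, Xm_comm]
    have hs : ∀ β i, integ A v (β + Finsupp.single i 1) = Xm I i *ᵥ integ A v β := by
      intro β i
      rw [integ_step A hA]; rfl
    have hm : (fun β => integ A v β) ∈ PM I w g := by
      constructor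
      · intro β _ i; exact hs β i
      · intro β
        induction β using exp_induction with
        | h0 =>
          intro γ h
          simp only at h
          rw [integ_zero] at h
          rw [W_zero, zero_add]; exact hv γ h
        | h1 m i ih =>
          intro γ h
          simp only at h
          rw [hs] at h
          rw [mulVec_homog w (Xm_mem w i) ih h, W_add, W_single]; abel
    have hd : ∀ i, dm (fun β => integ A v β) i = 0 := by
      intro i
      apply Matrix.ext
      intro γ β
      show (integ A v (β.1 + Finsupp.single i 1)) γ - (Xm I i *ᵥ (integ A v β.1)) γ = 0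
      rw [hs, sub_self]
    refine ⟨⟨⟨_, hm⟩, ?_⟩, ?_⟩
    · rw [LinearMap.mem_ker]
      exact Prod.ext (Subtype.ext (hd 0)) (Prod.ext (Subtype.ext (hd 1)) (Subtype.ext (hd 2)))
    · ext1
      exact integ_zero A v

/-! ### The relation with homomorphisms -/

/-- span of the pieces of degrees over `g` -/
noncomputable def Hg (I : Ideal (MvPolynomial (Fin 3) k)) (g : G) : Submodule k (Tgt I) :=
  ⨆ α : {α : Fin 3 → ℤ // w α = g}, tPiece I α.1

theorem mem_Hg_iff (hI : IsMonomial I) (g : G) (φ : Tgt I) :
    φ ∈ Hg w I g ↔ ∀ β γ, co hI φ β γ ≠ 0 → w γ = w β + g := by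
  constructor
  · intro h
    let S : Submodule k (Tgt I) :=
      { carrier := {φ | ∀ β γ, co hI φ β γ ≠ 0 → w γ = w β + g}
        zero_mem' := by
          intro β γ h
          rw [co_zero'] at h
          exact absurd rfl h
        add_mem' := by
          intro φ ψ hφ hψ β γ h
          rw [co_add] at h
          by_cases h1 : co hI φ β γ = 0
          · exact hψ β γ (fun h2 => h (by rw [h1, h2, add_zero]))
          · exact hφ β γ h1
        smul_mem' := by
          intro c φ hφ β γ h
          rw [co_smul] at h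
          exact hφ β γ (right_ne_zero_of_mul h) }
    have hle : Hg w I g ≤ S := by
      refine iSup_le fun α => ?_
      intro ψ hψ β γ hne
      rw [(mem_tPiece_iff hI ψ α.1).1 hψ β γ hne, map_add, α.2]
    exact hle h
  · intro h
    have hfin : (DD I).Finite := by
      have h2 : Finite ↥(DD I) := (complEquiv I).finite_iff.1 inferInstance
      exact Set.toFinite _
    obtain ⟨N, hN⟩ := exists_bound hfin
    rw [← sum_pr hI (box (Fin 3) N) φ (fun α hα => mem_box_of_ne_bot hN (fun h' => hα (by
      have h1 := pr_mem hI α φ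
      rw [(tPiece_eq_bot_iff hI α).2 h', Submodule.mem_bot] at h1
      exact h1)))]
    refine Submodule.sum_mem _ fun α _ => ?_
    by_cases h0 : pr hI α φ = 0
    · rw [h0]; exact Submodule.zero_mem _
    · have h1 : w α = g := by
        have : ∃ β γ, co hI (pr hI α φ) β γ ≠ 0 := by
          by_contra hcon
          push Not at hcon
          apply h0
          apply co_ext hI
          intro β γ
          rw [hcon, co_zero']
        obtain ⟨β, γ, hne⟩ := this
        classical
        rw [co_pr] at hne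
        by_cases h2 : γ = β + α
        · rw [if_pos h2] at hne
          have h3 := h β γ hne
          rw [h2, map_add] at h3
          exact add_left_cancel h3
        · rw [if_neg h2] at hne; exact absurd rfl hne
      exact Submodule.mem_iSup_of_mem (⟨α, h1⟩ : {α : Fin 3 → ℤ // w α = g}) (pr_mem hI α φ)

theorem mem_Hg_iff' (hI : IsMonomial I) (g : G) (φ : Tgt I) :
    φ ∈ Hg w I g ↔ ∀ (β : Fin 3 →₀ ℕ) (hβ : monomial β (1 : k) ∈ I) (γ : Dx I),
      cfQ hI γ.1 (φ ⟨monomial β 1, hβ⟩) ≠ 0 → W w γ.1 = W w β + g := by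
  rw [mem_Hg_iff w hI]
  constructor
  · intro h β hβ γ hne
    rw [← co_vz hβ γ.2] at hne
    exact h _ _ hne
  · intro h β γ hne
    obtain ⟨h1, h2⟩ := co_ne_zero hne
    rw [co_eq h1 h2] at hne
    have := h (vn β) h1.2 ⟨vn γ, h2.2⟩ hne
    simp only [W, vz_vn h1.1, vz_vn h2.1] at this
    exact this

/-- values on exponents in `I` of the extended homomorphism -/
theorem cf_step (hI : IsMonomial I) (m : MvPolynomial (Fin 3) k ⧸ I) (i : Fin 3) :
    (fun γ : Dx I => cfQ hI γ.1 ((X i : MvPolynomial (Fin 3) k) • m)) =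
      Xm I i *ᵥ (fun γ : Dx I => cfQ hI γ.1 m) := by
  ext γ
  rcases cases_coord γ i with h | ⟨β, h⟩
  · rw [Xm_mulVec_of_zero h, cfQ_X_smul_zero hI _ _ _ h]
  · rw [Xm_mulVec_of_eq h, h, cfQ_X_smul]
    rw [← h]; exact γ.2

open Classical in
/-- the splitting -/
noncomputable def split (hI : IsMonomial I) (g : G) :
    (↥(Hg w I g) × ↥(E (k := k) (wD I w) g)) →ₗ[k] ↥(PM (k := k) I w g) where
  toFun p := ⟨fun β γ => if hβ : β ∈ exps I then cfQ hI γ.1 (p.1.1 ⟨monomial β 1, hβ⟩) else
      p.2.1 γ ⟨β, hβ⟩, by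
    constructor
    · intro β hβ i
      have h1 : β + Finsupp.single i 1 ∈ exps I := exps_add hβ _
      simp only [dif_pos hβ, dif_pos h1]
      rw [← cf_step hI, ← tgt_X_smul]
    · intro β γ hne
      simp only at hne
      by_cases hβ : β ∈ exps I
      · rw [dif_pos hβ] at hne
        exact (mem_Hg_iff' w hI g p.1.1).1 p.1.2 β hβ γ hne
      · rw [dif_neg hβ] at hne
        exact p.2.2 γ ⟨β, hβ⟩ hne⟩
  map_add' p q := by
    ext β γ
    by_cases hβ : β ∈ exps I
    · simp only [Submodule.coe_add, Pi.add_apply, dif_pos hβ]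
      exact map_add (cfQ hI γ.1) _ _
    · simp only [Submodule.coe_add, Pi.add_apply, dif_neg hβ]; rfl
  map_smul' c p := by
    ext β γ
    by_cases hβ : β ∈ exps I
    · simp only [RingHom.id_apply, Submodule.coe_smul, Pi.smul_apply, dif_pos hβ]
      exact map_smul (cfQ hI γ.1) _ _
    · simp only [RingHom.id_apply, Submodule.coe_smul, Pi.smul_apply, dif_neg hβ]; rfl

open Classical in
theorem split_apply (hI : IsMonomial I) (g : G) (p : ↥(Hg w I g) × ↥(E (k := k) (wD I w) g))
    (β : Fin 3 →₀ ℕ) (γ : Dx I) : (split w hI g p).1 β γ =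
      if hβ : β ∈ exps I then cfQ hI γ.1 (p.1.1 ⟨monomial β 1, hβ⟩) else p.2.1 γ ⟨β, hβ⟩ := rfl

theorem split_bijective (hI : IsMonomial I) (g : G) : Function.Bijective (split w hI g) := by
  classical
  constructor
  · rintro ⟨φ, e⟩ ⟨φ', e'⟩ h0
    have h1 : ∀ β γ, (split w hI g (φ, e)).1 β γ = (split w hI g (φ', e')).1 β γ := by
      intro β γ; rw [h0]
    refine Prod.ext (Subtype.ext ?_) (Subtype.ext ?_)
    · apply tgt_ext hI
      intro β hβ
      apply ext_cfQ hI
      intro γ hγ
      have := h1 β ⟨γ, hγ⟩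
      rw [split_apply, split_apply, dif_pos (show β ∈ exps I from hβ),
        dif_pos (show β ∈ exps I from hβ)] at this
      exact this
    · apply Matrix.ext
      intro γ β
      have := h1 β.1 γ
      rw [split_apply, split_apply, dif_neg β.2, dif_neg β.2] at this
      exact this
  · rintro ⟨h, hh⟩
    set c : (Fin 3 →₀ ℕ) → MvPolynomial (Fin 3) k ⧸ I :=
      fun β => ∑ γ : Dx I, h β γ • Ideal.Quotient.mk I (monomial γ.1 1) with hc
    have hcf : ∀ β (γ : Dx I), cfQ hI γ.1 (c β) = h β γ := by
      intro β γ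
      rw [hc]
      simp only
      rw [map_sum, Finset.sum_eq_single γ]
      · rw [map_smul, cfQ_monomial hI γ.2, if_pos rfl, smul_eq_mul, mul_one]
      · intro δ _ hδ
        rw [map_smul, cfQ_monomial hI γ.2, if_neg, smul_zero]
        exact fun h' => hδ (Subtype.ext h')
      · intro h'; exact absurd (Finset.mem_univ _) h'
    have hstep : ∀ β ∈ exps I, ∀ i, c (β + Finsupp.single i 1) =
        (X i : MvPolynomial (Fin 3) k) • c β := by
      intro β hβ i
      apply ext_cfQ hI
      intro γ hγ
      have h1 := congrFun (cf_step hI (c β) i) ⟨γ, hγ⟩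
      simp only at h1
      rw [h1, hcf (β + Finsupp.single i 1) ⟨γ, hγ⟩, hh.1 β hβ i]
      congr 1
      ext γ'
      exact (hcf β γ').symm
    have hmem : homOf hI c hstep ∈ Hg w I g := by
      rw [mem_Hg_iff' w hI g]
      intro β hβ γ hne
      rw [homOf_apply, hcf] at hne
      exact hh.2 β γ hne
    have hE : (fun γ (β : Dx I) => h β.1 γ : Matrix (Dx I) (Dx I) k) ∈ E (wD I w) g := by
      intro γ β hne
      exact hh.2 β.1 γ hne
    refine ⟨(⟨_, hmem⟩, ⟨_, hE⟩), ?_⟩
    ext β γ
    rw [split_apply]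
    by_cases hβ : β ∈ exps I
    · rw [dif_pos hβ]
      simp only
      rw [homOf_apply, hcf]
    · rw [dif_neg hβ]

theorem finite_Hg (hI : IsMonomial I) (g : G) : Module.Finite k ↥(Hg w I g) := by
  classical
  have hfin : (DD I).Finite := by
    have h2 : Finite ↥(DD I) := (complEquiv I).finite_iff.1 inferInstance
    exact Set.toFinite _
  obtain ⟨N, hN⟩ := exists_bound hfin
  have h1 : Hg w I g ≤ ⨆ α ∈ (box (Fin 3) N), tPiece I α := by
    refine iSup_le fun α => ?_
    by_cases h0 : tPiece I α.1 = ⊥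
    · rw [h0]; exact bot_le
    · exact le_biSup (fun α => tPiece I α)
        (mem_box_of_ne_bot hN (fun h' => h0 ((tPiece_eq_bot_iff hI α.1).2 h')))
  have h2 := (finrank_biSup_of_indep _ (iSupIndep_tPiece hI) (box (Fin 3) N)
    (fun α _ => finite_tPiece hI hfin α)).1
  exact Submodule.finiteDimensional_of_le h1

theorem finrank_PM (hI : IsMonomial I) (g : G) :
    Module.finrank k ↥(Hg w I g) + Module.finrank k ↥(E (k := k) (wD I w) g) =
      Module.finrank k ↥(Z1 (k := k) (wD I w) (Xm I 0) (Xm I 1) (Xm I 2) (om w 0) (om w 1)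
        (om w 2) g) + Nat.card {γ : Dx I // W w γ.1 = g} := by
  have := finite_Hg w hI g
  have : Module.Free k ↥(Hg w I g) := Module.Free.of_divisionRing k ↥(Hg w I g)
  have e := LinearEquiv.ofBijective _ (split_bijective w hI g)
  have : Module.Finite k (↥(Hg w I g) × ↥(E (k := k) (wD I w) g)) := inferInstance
  have h1 : Module.Finite k ↥(PM (k := k) I w g) := Module.Finite.equiv e
  have h2 := LinearMap.finrank_range_add_finrank_ker (der (I := I) (k := k) w g)
  rw [range_der, finrank_ker_der, ← e.finrank_eq, Module.finrank_prod] at h2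
  exact h2.symm

/-- the duality for pieces, in one of the variable directions -/
theorem duality (hI : IsMonomial I) (l : Fin 3) (hl : om w l = 0) {g g' : G}
    (hg : g + g' + om w 0 + om w 1 + om w 2 = 0) :
    Module.finrank k ↥(Hg w I g) + Nat.card {γ : Dx I // W w γ.1 = g'} =
      Module.finrank k ↥(Hg w I g') + Nat.card {γ : Dx I // W w γ.1 = g} := by
  have h1 := finrank_PM w hI g
  have h2 := finrank_PM w hI g'
  have h3 := finrank_Z1 (Xm_mem (k := k) (I := I) w 0) (Xm_mem (k := k) (I := I) w 1)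
    (Xm_mem (k := k) (I := I) w 2) hg
  rw [Module.finrank_prod, Module.finrank_prod, Module.finrank_prod, Module.finrank_prod] at h3
  have hE : ∀ a b : G, a + b = 0 → Module.finrank k ↥(E (k := k) (wD I w) a) =
      Module.finrank k ↥(E (k := k) (wD I w) b) := by
    intro a b hab
    rw [eq_neg_of_add_eq_zero_left hab, finrank_E_neg]
  have hz : ∀ i, om w i = 0 → ∀ a : G, Module.finrank k ↥(E (k := k) (wD I w) (a + om w i)) =
      Module.finrank k ↥(E (k := k) (wD I w) a) := by
    intro i hi a
    rw [hi, add_zero]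
  fin_cases l
  · have hl : om w 0 = 0 := hl
    have e1 := hE (g + om w 1) (g' + om w 2) (by rw [← hg, hl]; abel)
    have e2 := hE (g + om w 2) (g' + om w 1) (by rw [← hg, hl]; abel)
    have e3 := hz 0 hl g
    have e4 := hz 0 hl g'
    omega
  · have hl : om w 1 = 0 := hl
    have e1 := hE (g + om w 0) (g' + om w 2) (by rw [← hg, hl]; abel)
    have e2 := hE (g + om w 2) (g' + om w 0) (by rw [← hg, hl]; abel)
    have e3 := hz 1 hl g
    have e4 := hz 1 hl g'
    omega
  · have hl : om w 2 = 0 := hl
    have e1 := hE (g + om w 0) (g' + om w 1) (by rw [← hg, hl]; abel)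
    have e2 := hE (g + om w 1) (g' + om w 0) (by rw [← hg, hl]; abel)
    have e3 := hz 2 hl g
    have e4 := hz 2 hl g'
    omega

end K777.Dual3
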