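import Mathlib.RingTheory.Length
import Mathlib.RingTheory.LocalRing.ResidueField.Basic
import Mathlib.RingTheory.SimpleModule.Basic
import Mathlib.RingTheory.Ideal.Quotient.Operations
import Mathlib.LinearAlgebra.Quotient.Pi
import Mathlib.Tactic.LinearCombination
import Mathlib.Tactic.Ring

/-! Duality over a complete intersection `R/(s^N, t^N)` of dimension zero. -/

set_option autoImplicit false
set_option linter.unusedSimpArgs false
set_option linter.unusedSectionVars false

universe u

namespace K777.GorDual

open IsLocalRing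

variable {R : Type u} [CommRing R] [IsDomain R]

/-- `t` is a nonzerodivisor modulo `s`: powers -/
theorem dvd_of_dvd_pow_mul {s t : R} (h : ∀ a, s ∣ t * a → s ∣ a) (n : ℕ) :
    ∀ a, s ∣ t ^ n * a → s ∣ a := by
  induction n with
  | zero => intro a ha; simpa using ha
  | succ n ih =>
    intro a ha
    rw [pow_succ, mul_assoc] at ha
    exact h a (ih _ ha)

theorem pow_dvd_of_dvd_pow_mul {s t : R} (hs : s ≠ 0) (h : ∀ a, s ∣ t * a → s ∣ a) (N n : ℕ) :
    ∀ a, s ^ N ∣ t ^ n * a → s ^ N ∣ a := by
  induction N with
  | zero => intro a _; simp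
  | succ N ih =>
    intro a ha
    have h1 : s ∣ a := dvd_of_dvd_pow_mul h n a ((dvd_pow_self s (Nat.succ_ne_zero N)).trans ha)
    obtain ⟨b, rfl⟩ := h1
    have h2 : s ^ N ∣ t ^ n * b := by
      rw [pow_succ', mul_left_comm] at ha
      exact (mul_dvd_mul_iff_left hs).1 ha
    obtain ⟨c, hc⟩ := ih b h2
    exact ⟨c, by rw [hc]; ring⟩

/-- the socle of `R/(s^{N+1}, t^{N+1})` -/
theorem socle {s t : R} (hs : s ≠ 0) (h : ∀ a, s ∣ t * a → s ∣ a) (N : ℕ) {u : R}
    (hsu : s * u ∈ Ideal.span {s ^ (N + 1), t ^ (N + 1)})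
    (htu : t * u ∈ Ideal.span {s ^ (N + 1), t ^ (N + 1)}) :
    ∃ d, u - d * (s ^ N * t ^ N) ∈ Ideal.span {s ^ (N + 1), t ^ (N + 1)} := by
  rw [Ideal.mem_span_pair] at hsu htu
  obtain ⟨a, b, hab⟩ := hsu
  -- `s ∣ t^{N+1} b`
  have h1 : s ∣ t ^ (N + 1) * b := by
    have : t ^ (N + 1) * b = s * (u - a * s ^ N) := by linear_combination hab
    rw [this]; exact dvd_mul_right _ _
  obtain ⟨b', rfl⟩ := dvd_of_dvd_pow_mul h _ _ h1
  have h2 : u = a * s ^ N + b' * t ^ (N + 1) := by
    apply mul_left_cancel₀ hs
    linear_combination -hab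
  obtain ⟨c, d, hcd⟩ := htu
  -- `t s^N a ∈ (s^{N+1}, t^{N+1})`
  have h3 : s ^ N ∣ t ^ (N + 1) * (d - t * b') := by
    have : t ^ (N + 1) * (d - t * b') = s ^ N * (t * a - c * s) := by
      rw [h2] at hcd
      linear_combination hcd
    rw [this]; exact dvd_mul_right _ _
  obtain ⟨d', hd'⟩ := pow_dvd_of_dvd_pow_mul hs h _ _ _ h3
  have h4 : s ∣ t * (a - t ^ N * d') := by
    refine ⟨c, ?_⟩
    apply mul_left_cancel₀ (pow_ne_zero N hs)
    rw [h2] at hcd
    linear_combination -hcd + t ^ (N + 1) * hd'
  obtain ⟨e, he⟩ := h _ h4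
  refine ⟨d', ?_⟩
  rw [Ideal.mem_span_pair]
  refine ⟨e, b', ?_⟩
  rw [h2]
  linear_combination s ^ N * (-he)


/-- an ideal of a local ring whose quotient has a cyclic socle -/
def CyclicSocle (R : Type u) [CommRing R] [IsLocalRing R] (q : Ideal R) : Prop :=
  ∃ w : R, (∀ m ∈ maximalIdeal R, m * w ∈ q) ∧
    ∀ u : R, (∀ m ∈ maximalIdeal R, m * u ∈ q) → ∃ d, u - d * w ∈ q

theorem cyclicSocle_pow [IsLocalRing R] {s t : R} (hs : s ≠ 0) (h : ∀ a, s ∣ t * a → s ∣ a) (N : ℕ)
    (hm : maximalIdeal R = Ideal.span {s, t}) :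
    CyclicSocle R (Ideal.span {s ^ (N + 1), t ^ (N + 1)}) := by
  refine ⟨s ^ N * t ^ N, ?_, ?_⟩
  · intro m hm'
    rw [hm, Ideal.mem_span_pair] at hm'
    obtain ⟨a, b, rfl⟩ := hm'
    rw [Ideal.mem_span_pair]
    exact ⟨a * t ^ N, b * s ^ N, by ring⟩
  · intro u hu
    apply socle hs h N
    · exact hu s (by rw [hm]; exact Ideal.subset_span (by simp))
    · exact hu t (by rw [hm]; exact Ideal.subset_span (by simp))

theorem length_ker_add_range {R M N : Type*} [Ring R] [AddCommGroup M] [AddCommGroup N] [Module R M]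
    [Module R N] (f : M →ₗ[R] N) :
    Module.length R M = Module.length R ↥(LinearMap.ker f) + Module.length R ↥(LinearMap.range f) := by
  apply Module.length_eq_add_of_exact (LinearMap.ker f).subtype (LinearMap.rangeRestrict f)
    (Submodule.subtype_injective _) (LinearMap.surjective_rangeRestrict f)
  intro x
  constructor
  · intro hx
    have : f x = 0 := congrArg Subtype.val hx
    exact ⟨⟨x, this⟩, rfl⟩
  · rintro ⟨y, rfl⟩
    exact Subtype.ext y.2

theorem length_quot_add {R M : Type*} [Ring R] [AddCommGroup M] [Module R M] (N : Submodule R M) :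
    Module.length R M = Module.length R ↥N + Module.length R (M ⧸ N) :=
  Module.length_eq_add_of_exact N.subtype N.mkQ (Submodule.subtype_injective N)
    (Submodule.mkQ_surjective N) (LinearMap.exact_subtype_mkQ N)

section dual
variable {R : Type u} [CommRing R] [IsLocalRing R] {q : Ideal R}

theorem length_hom_simple_le (hq : CyclicSocle R q) (S : Type u) [AddCommGroup S] [Module R S]
    [IsSimpleModule R S] : Module.length R (S →ₗ[R] (R ⧸ q)) ≤ 1 := by
  obtain ⟨w, hw1, hw2⟩ := hq
  have : Nontrivial S := IsSimpleModule.nontrivial R S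
  obtain ⟨g, hg⟩ := exists_ne (0 : S)
  have hgs : Function.Surjective (LinearMap.toSpanSingleton R S g) :=
    IsSimpleModule.toSpanSingleton_surjective R hg
  -- `𝔪` kills `g`
  have hmg : ∀ m ∈ maximalIdeal R, m • g = 0 := by
    intro m hm
    have hann : IsSimpleModule R (R ⧸ LinearMap.ker (LinearMap.toSpanSingleton R S g)) :=
      IsSimpleModule.congr (LinearMap.quotKerEquivOfSurjective _ hgs)
    have hmax : Ideal.IsMaximal (LinearMap.ker (LinearMap.toSpanSingleton R S g)) := by
      rw [Ideal.isMaximal_def, ← isSimpleModule_iff_isCoatom]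
      exact hann
    have := IsLocalRing.eq_maximalIdeal hmax
    rw [← this, LinearMap.mem_ker, LinearMap.toSpanSingleton_apply] at hm
    exact hm
  set wb : R ⧸ q := Ideal.Quotient.mk q w with hwb
  -- the evaluation map
  have hmem : ∀ φ : S →ₗ[R] (R ⧸ q), φ g ∈ Submodule.span R {wb} := by
    intro φ
    obtain ⟨u, hu⟩ := Ideal.Quotient.mk_surjective (φ g)
    have h1 : ∀ m ∈ maximalIdeal R, m * u ∈ q := by
      intro m hm
      rw [← Ideal.Quotient.eq_zero_iff_mem, map_mul, hu]
      have h2 : m • φ g = 0 := by rw [← map_smul, hmg m hm, map_zero]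
      exact h2
    obtain ⟨d, hd⟩ := hw2 u h1
    rw [Submodule.mem_span_singleton]
    refine ⟨d, ?_⟩
    rw [← hu, hwb]
    have h3 : Ideal.Quotient.mk q u = Ideal.Quotient.mk q (d * w) := Ideal.Quotient.eq.2 hd
    rw [h3]; rfl
  let ev : (S →ₗ[R] (R ⧸ q)) →ₗ[R] ↥(Submodule.span R {wb}) :=
    { toFun := fun φ => ⟨φ g, hmem φ⟩
      map_add' := fun φ ψ => rfl
      map_smul' := fun a φ => rfl }
  have hev : Function.Injective ev := by
    intro φ ψ h
    have h1 : φ g = ψ g := congrArg Subtype.val h
    ext x
    obtain ⟨r, rfl⟩ := hgs x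
    rw [LinearMap.toSpanSingleton_apply, map_smul, map_smul, h1]
  refine (Module.length_le_of_injective ev hev).trans ?_
  -- `R w` is a quotient of the residue field
  have hle : (maximalIdeal R : Submodule R R) ≤ LinearMap.ker
      ((LinearMap.toSpanSingleton R ↥(Submodule.span R {wb})) ⟨wb, Submodule.mem_span_singleton_self _⟩) := by
    intro m hm
    rw [LinearMap.mem_ker, LinearMap.toSpanSingleton_apply]
    ext1
    show m • wb = 0
    have : m • wb = Ideal.Quotient.mk q (m * w) := rfl
    rw [this, Ideal.Quotient.eq_zero_iff_mem]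
    exact hw1 m hm
  have h1 : Module.length R (R ⧸ (maximalIdeal R : Submodule R R)) = 1 := by
    have : IsSimpleModule R (R ⧸ (maximalIdeal R : Submodule R R)) := by
      rw [isSimpleModule_iff_isCoatom, ← Ideal.isMaximal_def]
      infer_instance
    exact Module.length_eq_one R _
  rw [← h1]
  refine Module.length_le_of_surjective (Submodule.liftQ _ _ hle) ?_
  rintro ⟨x, hx⟩
  obtain ⟨r, rfl⟩ := Submodule.mem_span_singleton.1 hx
  exact ⟨Submodule.Quotient.mk r, rfl⟩

/-- the dual has at most the length of the module -/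
theorem length_dual_le (hq : CyclicSocle R q) {C : Type u} [AddCommGroup C] [Module R C]
    (hC : IsFiniteLength R C) : Module.length R (C →ₗ[R] (R ⧸ q)) ≤ Module.length R C := by
  induction hC with
  | of_subsingleton =>
    rename_i M _ _ _
    have : Subsingleton (M →ₗ[R] (R ⧸ q)) := inferInstance
    rw [Module.length_eq_zero]
    simp
  | of_simple_quotient hN ih =>
    rename_i M _ _ N _
    have h1 := Module.length_eq_add_of_exact N.subtype N.mkQ (Submodule.subtype_injective N)
      (Submodule.mkQ_surjective N) (LinearMap.exact_subtype_mkQ N)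
    have h2 : Module.length R (M ⧸ N) = 1 := Module.length_eq_one R _
    let res : (M →ₗ[R] (R ⧸ q)) →ₗ[R] (N →ₗ[R] (R ⧸ q)) := LinearMap.lcomp R (R ⧸ q) N.subtype
    have h3 := length_ker_add_range res
    have h4 : Module.length R ↥(LinearMap.range res) ≤ Module.length R N :=
      (Module.length_le_of_injective _ (Submodule.subtype_injective _)).trans ih
    have h5 : Module.length R ↥(LinearMap.ker res) ≤ 1 := by
      let F : ↥(LinearMap.ker res) →ₗ[R] ((M ⧸ N) →ₗ[R] (R ⧸ q)) :=
        { toFun := fun φ => N.liftQ φ.1 (by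
            intro x hx
            have := LinearMap.congr_fun (LinearMap.mem_ker.1 φ.2) ⟨x, hx⟩
            exact this)
          map_add' := fun φ ψ => by
            apply Submodule.linearMap_qext
            ext x
            rfl
          map_smul' := fun a φ => by
            apply Submodule.linearMap_qext
            ext x
            rfl }
      have hF : Function.Injective F := by
        intro φ ψ h
        ext x
        exact LinearMap.congr_fun h (Submodule.Quotient.mk x)
      exact (Module.length_le_of_injective F hF).trans (length_hom_simple_le hq _)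
    rw [h1, h3, h2, add_comm]
    exact add_le_add h4 h5

/-- duality preserves the length of modules killed by `q` -/
theorem length_dual_eq [IsNoetherianRing R] (hq : CyclicSocle R q) (hqf : IsFiniteLength R (R ⧸ q))
    {C : Type u} [AddCommGroup C] [Module R C]
    (hC : IsFiniteLength R C) (hqC : ∀ a ∈ q, ∀ x : C, a • x = 0) :
    Module.length R (C →ₗ[R] (R ⧸ q)) = Module.length R C := by
  have hCfin : Module.Finite R C := by
    have := (isFiniteLength_iff_isNoetherian_isArtinian.1 hC).1
    infer_instance
  obtain ⟨n, g, hg⟩ := Module.Finite.exists_fin' R C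
  -- factor through `(R/q)^n`
  have hgle : ∀ i, (q : Submodule R R) ≤ LinearMap.ker (g ∘ₗ LinearMap.single R (fun _ => R) i) := by
    intro i a ha
    rw [LinearMap.mem_ker, LinearMap.comp_apply]
    have : (LinearMap.single R (fun _ : Fin n => R) i) a = a • (LinearMap.single R (fun _ : Fin n => R) i) 1 := by
      rw [← map_smul, smul_eq_mul, mul_one]
    rw [this, map_smul, hqC a ha]
  let gb : (Fin n → R ⧸ q) →ₗ[R] C :=
    ∑ i, (Submodule.liftQ q (g ∘ₗ LinearMap.single R (fun _ => R) i) (hgle i)) ∘ₗ LinearMap.proj i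
  have hgb : Function.Surjective gb := by
    intro x
    obtain ⟨v, rfl⟩ := hg x
    refine ⟨fun i => Ideal.Quotient.mk q (v i), ?_⟩
    simp only [gb, LinearMap.sum_apply, LinearMap.comp_apply, LinearMap.proj_apply]
    have : ∀ i, (Submodule.liftQ q (g ∘ₗ LinearMap.single R (fun _ => R) i) (hgle i)) (Ideal.Quotient.mk q (v i)) =
        g (LinearMap.single R (fun _ : Fin n => R) i (v i)) := fun i => rfl
    simp only [this]
    rw [← map_sum]
    congr 1
    exact LinearMap.sum_single_apply _ v
  have hBfin : IsFiniteLength R (Fin n → R ⧸ q) := by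
    rw [← Module.length_ne_top_iff, Module.length_pi]
    rw [← Module.length_ne_top_iff] at hqf
    exact WithTop.mul_ne_top (by rw [ENat.card_eq_coe_fintype_card]; exact ENat.natCast_ne_top _) hqf
  set L := LinearMap.ker gb with hL
  have hLfin : IsFiniteLength R L := IsFiniteLength.of_injective hBfin (Submodule.subtype_injective L)
  have h1 := Module.length_eq_add_of_exact L.subtype gb (Submodule.subtype_injective L) hgb
    (LinearMap.exact_subtype_ker_map gb)
  -- dual
  let res : ((Fin n → R ⧸ q) →ₗ[R] (R ⧸ q)) →ₗ[R] (L →ₗ[R] (R ⧸ q)) := LinearMap.lcomp R (R ⧸ q) L.subtype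
  have h2 : Module.length R ((Fin n → R ⧸ q) →ₗ[R] (R ⧸ q)) ≤
      Module.length R (C →ₗ[R] (R ⧸ q)) + Module.length R (L →ₗ[R] (R ⧸ q)) := by
    have h3 := length_ker_add_range res
    rw [h3]
    refine add_le_add ?_ (Module.length_le_of_injective _ (Submodule.subtype_injective _))
    -- the kernel is the dual of `C`
    let e := LinearMap.quotKerEquivOfSurjective gb hgb
    let F : ↥(LinearMap.ker res) →ₗ[R] (C →ₗ[R] (R ⧸ q)) :=
      { toFun := fun φ => (L.liftQ φ.1 (by
          intro x hx
          exact LinearMap.congr_fun (LinearMap.mem_ker.1 φ.2) ⟨x, hx⟩)) ∘ₗ e.symm.toLinearMap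
        map_add' := fun φ ψ => by
          rw [← LinearMap.add_comp]
          congr 1
          apply Submodule.linearMap_qext
          ext x
          rfl
        map_smul' := fun a φ => by
          rw [RingHom.id_apply, ← LinearMap.smul_comp]
          congr 1
          apply Submodule.linearMap_qext
          ext x
          rfl }
    refine Module.length_le_of_injective F ?_
    intro φ ψ h
    apply Subtype.ext
    apply LinearMap.ext
    intro x
    have := LinearMap.congr_fun h (e (Submodule.Quotient.mk x))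
    simp only [F, LinearMap.coe_mk, AddHom.coe_mk, LinearMap.comp_apply, LinearEquiv.coe_coe,
      LinearEquiv.symm_apply_apply] at this
    exact this
  have h4 : Module.length R (Fin n → R ⧸ q) ≤ Module.length R ((Fin n → R ⧸ q) →ₗ[R] (R ⧸ q)) := by
    -- `(R/q)^n → Hom((R/q)^n, R/q)`
    let F : (Fin n → R ⧸ q) →ₗ[R] ((Fin n → R ⧸ q) →ₗ[R] (R ⧸ q)) :=
      { toFun := fun v =>
          { toFun := fun w => ∑ i, v i * w i
            map_add' := fun w w' => by simp only [Pi.add_apply, mul_add, Finset.sum_add_distrib]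
            map_smul' := fun a w => by
              simp only [Pi.smul_apply, RingHom.id_apply, Finset.smul_sum, mul_smul_comm] }
        map_add' := fun v v' => by
          ext w
          simp [add_mul, Finset.sum_add_distrib]
        map_smul' := fun a v => by
          ext w
          simp [Finset.smul_sum] }
    refine Module.length_le_of_injective F ?_
    intro v w h
    ext i
    have := LinearMap.congr_fun h (Pi.single i 1)
    simpa [F, Pi.single_apply] using this
  have h5 := length_dual_le hq hC
  have h6 := length_dual_le hq hLfin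
  have hfC := Module.length_ne_top_iff.2 hC
  have hfL := Module.length_ne_top_iff.2 hLfin
  -- conclude
  refine le_antisymm h5 ?_
  have h7 : Module.length R L + Module.length R C ≤
      Module.length R (C →ₗ[R] (R ⧸ q)) + Module.length R L := by
    rw [← h1]
    exact h4.trans (h2.trans (add_le_add le_rfl h6))
  rw [add_comm] at h7
  exact (ENat.add_le_add_iff_right hfL).1 h7

end dual

end K777.GorDual
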