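import Groth.Agent.W4c1hilbpn.K777.GorDual
import Mathlib.LinearAlgebra.LeftExact
import Mathlib.LinearAlgebra.Matrix.ToLin
import Mathlib.RingTheory.Ideal.Colon
import Mathlib.LinearAlgebra.StdBasis

/-! The dual of the cokernel of the transposed Hilbert–Burch matrix. -/

set_option autoImplicit false
set_option linter.unusedSimpArgs false
set_option linter.unusedSectionVars false
set_option linter.unusedVariables false

universe u

namespace K777.HilbB

open IsLocalRing K777.GorDual Matrix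

variable {R : Type u} [CommRing R] [IsDomain R]

/-- the data of a length one resolution of `I` and a regular sequence `x, y` in `I ∩ J` -/
structure Res (x y : R) (I J : Ideal R) (a b : ℕ) where
  hx : x ≠ 0
  hreg : ∀ c, x ∣ y * c → x ∣ c
  hxI : x ∈ I
  hyI : y ∈ I
  hxJ : x ∈ J
  hyJ : y ∈ J
  /-- the matrix of relations -/
  M : Matrix (Fin b) (Fin a) R
  /-- the generators -/
  g : (Fin b → R) →ₗ[R] R
  hinj : Function.Injective (M.mulVec)
  hex : ∀ w, g w = 0 ↔ ∃ v, M *ᵥ v = w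
  hrange : ∀ c, c ∈ I ↔ ∃ w, g w = c

variable {x y : R} {I J : Ideal R} {a b : ℕ} (Q : Res x y I J a b)

namespace Res

/-- the relation between a vector and a scalar -/
def Rel (v : Fin a → R) (c : R) : Prop :=
  ∃ α β : Fin b → R, Q.M *ᵥ v = x • α + y • β ∧ Q.g α = y * c ∧ Q.g β = -(x * c)

theorem rel_add {v v' : Fin a → R} {c c' : R} (h : Q.Rel v c) (h' : Q.Rel v' c') :
    Q.Rel (v + v') (c + c') := by
  obtain ⟨α, β, h1, h2, h3⟩ := h
  obtain ⟨α', β', h1', h2', h3'⟩ := h'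
  refine ⟨α + α', β + β', ?_, ?_, ?_⟩
  · rw [Matrix.mulVec_add, h1, h1', smul_add, smul_add]; abel
  · rw [map_add, h2, h2']; ring
  · rw [map_add, h3, h3']; ring

theorem rel_smul {v : Fin a → R} {c : R} (r : R) (h : Q.Rel v c) : Q.Rel (r • v) (r * c) := by
  obtain ⟨α, β, h1, h2, h3⟩ := h
  refine ⟨r • α, r • β, ?_, ?_, ?_⟩
  · rw [Matrix.mulVec_smul, h1, smul_add, smul_comm r x, smul_comm r y]
  · rw [map_smul, h2, smul_eq_mul]; ring
  · rw [map_smul, h3, smul_eq_mul]; ring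

theorem rel_iff {v : Fin a → R} {c : R} (h : Q.Rel v c) :
    (∀ j, v j ∈ Ideal.span {x, y}) ↔ c ∈ I := by
  obtain ⟨α, β, h1, h2, h3⟩ := h
  constructor
  · intro hv
    have hv' : ∀ j, ∃ p r, p * x + r * y = v j := fun j => Ideal.mem_span_pair.1 (hv j)
    choose p r hpr using hv'
    have hvpr : v = x • p + y • r := by
      ext j; simp only [Pi.add_apply, Pi.smul_apply, smul_eq_mul]; rw [← hpr j]; ring
    have h4 : x • (Q.M *ᵥ p) + y • (Q.M *ᵥ r) = x • α + y • β := by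
      rw [← h1, hvpr, Matrix.mulVec_add, Matrix.mulVec_smul, Matrix.mulVec_smul]
    have h5 : ∀ i, x ∣ (β - Q.M *ᵥ r) i := by
      intro i
      apply Q.hreg
      refine ⟨(Q.M *ᵥ p) i - α i, ?_⟩
      have := congrFun h4 i
      simp only [Pi.add_apply, Pi.smul_apply, smul_eq_mul] at this
      simp only [Pi.sub_apply]
      linear_combination -this
    choose w hw using h5
    have h6 : β = Q.M *ᵥ r + x • w := by
      ext i
      have := hw i
      simp only [Pi.sub_apply] at this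
      simp only [Pi.add_apply, Pi.smul_apply, smul_eq_mul]
      linear_combination this
    rw [h6, map_add, map_smul, (Q.hex _).2 ⟨r, rfl⟩, zero_add, smul_eq_mul] at h3
    rw [Q.hrange]
    refine ⟨-w, ?_⟩
    rw [map_neg]
    apply mul_left_cancel₀ Q.hx
    linear_combination -h3
  · intro hc
    obtain ⟨w, rfl⟩ := (Q.hrange c).1 hc
    obtain ⟨p, hp⟩ := (Q.hex (α - y • w)).1 (by rw [map_sub, map_smul, h2, smul_eq_mul, sub_self])
    obtain ⟨r, hr⟩ := (Q.hex (β + x • w)).1 (by rw [map_add, map_smul, h3, smul_eq_mul]; ring)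
    have h4 : v = x • p + y • r := by
      apply Q.hinj
      rw [Matrix.mulVec_add, Matrix.mulVec_smul, Matrix.mulVec_smul, hp, hr, h1]
      ext i
      simp only [Pi.add_apply, Pi.smul_apply, Pi.sub_apply, smul_eq_mul]
      ring
    intro j
    rw [h4, Ideal.mem_span_pair]
    exact ⟨p j, r j, by simp only [Pi.add_apply, Pi.smul_apply, smul_eq_mul]; ring⟩

theorem exists_c {v : Fin a → R} (hv : ∀ i, (Q.M *ᵥ v) i ∈ Ideal.span {x, y}) : ∃ c, Q.Rel v c := by
  have hv' : ∀ i, ∃ p r, p * x + r * y = (Q.M *ᵥ v) i := fun i => Ideal.mem_span_pair.1 (hv i)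
  choose α β h using hv'
  have h1 : Q.M *ᵥ v = x • α + y • β := by
    ext i; simp only [Pi.add_apply, Pi.smul_apply, smul_eq_mul]; rw [← h i]; ring
  have h2 : Q.g (Q.M *ᵥ v) = 0 := (Q.hex _).2 ⟨v, rfl⟩
  rw [h1, map_add, map_smul, map_smul, smul_eq_mul, smul_eq_mul] at h2
  obtain ⟨c, hc⟩ := Q.hreg (Q.g β) ⟨-Q.g α, by linear_combination h2⟩
  refine ⟨-c, α, β, h1, ?_, ?_⟩
  · apply mul_left_cancel₀ Q.hx
    rw [hc] at h2
    linear_combination h2
  · rw [hc]; ring

theorem exists_v (c : R) : ∃ v, Q.Rel v c := by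
  obtain ⟨α, hα⟩ := (Q.hrange (y * c)).1 (I.mul_mem_right _ Q.hyI)
  obtain ⟨β, hβ⟩ := (Q.hrange (-(x * c))).1 (I.neg_mem (I.mul_mem_right _ Q.hxI))
  obtain ⟨v, hv⟩ := (Q.hex (x • α + y • β)).1 (by
    rw [map_add, map_smul, map_smul, hα, hβ, smul_eq_mul, smul_eq_mul]; ring)
  exact ⟨v, α, β, hv, hα, hβ⟩

theorem rel_mem {v : Fin a → R} {c : R} (h : Q.Rel v c) (i : Fin b) :
    (Q.M *ᵥ v) i ∈ Ideal.span {x, y} := by
  obtain ⟨α, β, h1, h2, h3⟩ := h
  rw [h1, Ideal.mem_span_pair]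
  exact ⟨α i, β i, by simp only [Pi.add_apply, Pi.smul_apply, smul_eq_mul]; ring⟩

/-- the related pairs killed by `J` modulo `(x, y)` and `I` -/
def Z : Submodule R ((Fin a → R) × R) where
  carrier := {p | Q.Rel p.1 p.2 ∧ ∀ j ∈ J, j * p.2 ∈ I}
  add_mem' := by
    rintro p p' ⟨h1, h2⟩ ⟨h1', h2'⟩
    refine ⟨Q.rel_add h1 h1', fun j hj => ?_⟩
    rw [Prod.snd_add, mul_add]
    exact I.add_mem (h2 j hj) (h2' j hj)
  zero_mem' := ⟨⟨0, 0, by simp, by simp, by simp⟩, fun j hj => by simp⟩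
  smul_mem' := by
    rintro r p ⟨h1, h2⟩
    refine ⟨Q.rel_smul r h1, fun j hj => ?_⟩
    rw [Prod.smul_snd, smul_eq_mul, mul_left_comm]
    exact I.mul_mem_left _ (h2 j hj)

/-- the submodule of relations of the cokernel -/
def P : Submodule R (Fin a → R) where
  carrier := {v | ∃ u : Fin b → R, ∀ j, v j - (Q.Mᵀ *ᵥ u) j ∈ J}
  add_mem' := by
    rintro v v' ⟨u, hu⟩ ⟨u', hu'⟩
    refine ⟨u + u', fun j => ?_⟩
    rw [Matrix.mulVec_add]
    have := J.add_mem (hu j) (hu' j)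
    simp only [Pi.add_apply]
    convert this using 1
    ring
  zero_mem' := ⟨0, fun j => by simp⟩
  smul_mem' := by
    rintro r v ⟨u, hu⟩
    refine ⟨r • u, fun j => ?_⟩
    rw [Matrix.mulVec_smul]
    have := J.mul_mem_left r (hu j)
    simp only [Pi.smul_apply, smul_eq_mul]
    convert this using 1
    ring

include Q in
theorem q_le_J : Ideal.span {x, y} ≤ J := by
  rw [Ideal.span_le]
  rintro z (rfl | rfl)
  · exact Q.hxJ
  · exact Q.hyJ

/-- pairing of a related pair with vectors -/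
theorem pair_mem {v : Fin a → R} {c : R} (h : Q.Rel v c) (hc : ∀ j ∈ J, j * c ∈ I) {w : Fin a → R}
    (hw : w ∈ Q.P) : w ⬝ᵥ v ∈ Ideal.span {x, y} := by
  obtain ⟨u, hu⟩ := hw
  have h1 : w ⬝ᵥ v = (w - Q.Mᵀ *ᵥ u) ⬝ᵥ v + u ⬝ᵥ (Q.M *ᵥ v) := by
    rw [sub_dotProduct, Matrix.dotProduct_mulVec, Matrix.mulVec_transpose]
    ring
  rw [h1]
  refine Ideal.add_mem _ ?_ ?_
  · rw [dotProduct]
    refine sum_mem fun j _ => ?_
    have h2 := Q.rel_smul ((w - Q.Mᵀ *ᵥ u) j) h
    have h3 := (Q.rel_iff h2).2 (hc _ (hu j)) j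
    simpa using h3
  · rw [dotProduct]
    exact sum_mem fun i _ => Ideal.mul_mem_left _ _ (Q.rel_mem h i)

/-- the map to the dual of the cokernel -/
noncomputable def Φ : ↥Q.Z →ₗ[R] (((Fin a → R) ⧸ Q.P) →ₗ[R] (R ⧸ Ideal.span {x, y})) where
  toFun p := Q.P.liftQ
    { toFun := fun w => Ideal.Quotient.mk _ (w ⬝ᵥ p.1.1)
      map_add' := fun w w' => by rw [add_dotProduct, map_add]
      map_smul' := fun r w => by rw [smul_dotProduct, smul_eq_mul, map_mul]; rfl }
    (by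
      intro w hw
      rw [LinearMap.mem_ker]
      exact Ideal.Quotient.eq_zero_iff_mem.2 (Q.pair_mem p.2.1 p.2.2 hw))
  map_add' p p' := by
    apply Submodule.linearMap_qext
    apply LinearMap.ext
    intro w
    show Ideal.Quotient.mk _ (w ⬝ᵥ (p.1.1 + p'.1.1)) = _
    rw [dotProduct_add, map_add]; rfl
  map_smul' r p := by
    apply Submodule.linearMap_qext
    apply LinearMap.ext
    intro w
    show Ideal.Quotient.mk _ (w ⬝ᵥ (r • p.1.1)) = _
    rw [dotProduct_smul, smul_eq_mul, map_mul]; rfl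

theorem Φ_apply (p : ↥Q.Z) (w : Fin a → R) :
    Q.Φ p (Submodule.Quotient.mk w) = Ideal.Quotient.mk _ (w ⬝ᵥ p.1.1) := rfl

theorem Φ_surjective : Function.Surjective Q.Φ := by
  intro ψ
  have h1 : ∀ j : Fin a, ∃ v : R, Ideal.Quotient.mk (Ideal.span {x, y}) v =
      ψ (Submodule.Quotient.mk (Pi.single j 1)) := fun j => Ideal.Quotient.mk_surjective _
  choose v hv using h1
  have hψ : ∀ w : Fin a → R, ψ (Submodule.Quotient.mk w) = Ideal.Quotient.mk _ (w ⬝ᵥ v) := by
    intro w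
    have h2 : w = ∑ j, w j • (Pi.single j 1 : Fin a → R) := by
      rw [← Finset.univ_sum_single w]
      refine Finset.sum_congr rfl fun j _ => ?_
      ext i
      simp [Pi.single_apply]
    conv_lhs => rw [h2]
    have h3 : (Submodule.Quotient.mk (∑ j, w j • (Pi.single j 1 : Fin a → R)) : (Fin a → R) ⧸ Q.P) =
        ∑ j, w j • Submodule.Quotient.mk (Pi.single j 1) := by
      show Q.P.mkQ (∑ j, w j • (Pi.single j 1 : Fin a → R)) = ∑ j, w j • Q.P.mkQ (Pi.single j 1)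
      rw [map_sum]
      exact Finset.sum_congr rfl fun j _ => map_smul _ _ _
    rw [h3, map_sum, dotProduct, map_sum]
    refine Finset.sum_congr rfl fun j _ => ?_
    rw [map_smul, ← hv, map_mul]
    rfl
  have h4 : ∀ i, (Q.M *ᵥ v) i ∈ Ideal.span {x, y} := by
    intro i
    rw [← Ideal.Quotient.eq_zero_iff_mem]
    have h5 : (Q.M *ᵥ v) i = (Q.Mᵀ *ᵥ Pi.single i 1) ⬝ᵥ v := by
      rw [Matrix.mulVec_transpose, ← Matrix.dotProduct_mulVec]
      simp
    rw [h5, ← hψ]
    have h6 : (Submodule.Quotient.mk (Q.Mᵀ *ᵥ Pi.single i 1) : (Fin a → R) ⧸ Q.P) = 0 := by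
      rw [Submodule.Quotient.mk_eq_zero]
      exact ⟨Pi.single i 1, fun j => by simp⟩
    rw [h6, map_zero]
  obtain ⟨c, hc⟩ := Q.exists_c h4
  have h7 : ∀ j ∈ J, j * c ∈ I := by
    intro j hj
    rw [← Q.rel_iff (Q.rel_smul j hc)]
    intro k
    rw [← Ideal.Quotient.eq_zero_iff_mem]
    have h8 : (j • v) k = (Pi.single k j : Fin a → R) ⬝ᵥ v := by simp
    rw [h8, ← hψ]
    have h9 : (Submodule.Quotient.mk (Pi.single k j) : (Fin a → R) ⧸ Q.P) = 0 := by
      rw [Submodule.Quotient.mk_eq_zero]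
      refine ⟨0, fun l => ?_⟩
      rw [Matrix.mulVec_zero]
      by_cases hl : l = k
      · subst hl; simpa using hj
      · simp [Pi.single_apply, hl]
    rw [h9, map_zero]
  refine ⟨⟨(v, c), hc, h7⟩, ?_⟩
  apply Submodule.linearMap_qext
  apply LinearMap.ext
  intro w
  exact (hψ w).symm

/-- the map to `R/I` -/
noncomputable def Ψ : ↥Q.Z →ₗ[R] (R ⧸ I) where
  toFun p := Ideal.Quotient.mk I p.1.2
  map_add' p p' := rfl
  map_smul' r p := rfl

theorem ker_eq : LinearMap.ker Q.Φ = LinearMap.ker Q.Ψ := by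
  ext p
  rw [LinearMap.mem_ker, LinearMap.mem_ker]
  have h1 : Q.Ψ p = 0 ↔ p.1.2 ∈ I := Ideal.Quotient.eq_zero_iff_mem
  rw [h1, ← Q.rel_iff p.2.1]
  constructor
  · intro h j
    have := LinearMap.congr_fun h (Submodule.Quotient.mk (Pi.single j 1))
    rw [Q.Φ_apply] at this
    have h2 : (Pi.single j 1 : Fin a → R) ⬝ᵥ p.1.1 = p.1.1 j := by simp
    rw [h2] at this
    exact Ideal.Quotient.eq_zero_iff_mem.1 this
  · intro h
    apply Submodule.linearMap_qext
    apply LinearMap.ext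
    intro w
    show Ideal.Quotient.mk _ (w ⬝ᵥ p.1.1) = 0
    rw [Ideal.Quotient.eq_zero_iff_mem, dotProduct]
    exact sum_mem fun j _ => Ideal.mul_mem_left _ _ (h j)

theorem le_colon : I ≤ I.colon (J : Set R) := by
  intro r hr
  rw [Submodule.mem_colon]
  intro s _
  exact I.mul_mem_right _ hr

/-- the projection to the quotient by the colon ideal -/
def toColon (I J : Ideal R) : (R ⧸ I) →ₗ[R] (R ⧸ I.colon (J : Set R)) :=
  Submodule.mapQ I (I.colon (J : Set R)) LinearMap.id le_colon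

theorem toColon_mk (c : R) : toColon I J (Ideal.Quotient.mk I c) = Ideal.Quotient.mk _ c := rfl

theorem toColon_surjective : Function.Surjective (toColon I J) := by
  intro z
  obtain ⟨c, rfl⟩ := Ideal.Quotient.mk_surjective z
  exact ⟨Ideal.Quotient.mk I c, rfl⟩

theorem range_Ψ : LinearMap.range Q.Ψ = LinearMap.ker (toColon I J) := by
  ext z
  obtain ⟨c, rfl⟩ := Ideal.Quotient.mk_surjective z
  rw [LinearMap.mem_ker, toColon_mk, Ideal.Quotient.eq_zero_iff_mem, Submodule.mem_colon,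
    LinearMap.mem_range]
  constructor
  · rintro ⟨⟨⟨v, c'⟩, h1, h2⟩, h3⟩ j hj
    have h4 : c' - c ∈ I := Ideal.Quotient.eq.1 h3
    have h5 := h2 j hj
    simp only at h5
    have : c • j = j * c' - j * (c' - c) := by rw [smul_eq_mul]; ring
    rw [this]
    exact I.sub_mem h5 (I.mul_mem_left _ h4)
  · intro h
    obtain ⟨v, hv⟩ := Q.exists_v c
    refine ⟨⟨(v, c), hv, fun j hj => ?_⟩, rfl⟩
    have := h j hj
    rw [smul_eq_mul, mul_comm] at this
    exact this

theorem length_dual : Module.length R (((Fin a → R) ⧸ Q.P) →ₗ[R] (R ⧸ Ideal.span {x, y})) +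
    Module.length R (R ⧸ I.colon (J : Set R)) = Module.length R (R ⧸ I) := by
  have h1 : Module.length R (((Fin a → R) ⧸ Q.P) →ₗ[R] (R ⧸ Ideal.span {x, y})) =
      Module.length R ↥(LinearMap.range Q.Ψ) := by
    rw [← (LinearMap.quotKerEquivOfSurjective Q.Φ Q.Φ_surjective).length_eq,
      ← (LinearMap.quotKerEquivRange Q.Ψ).length_eq, Q.ker_eq]
  have h2 := length_ker_add_range (toColon I J)
  rw [LinearMap.range_eq_top.2 toColon_surjective, Module.length_top] at h2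
  rw [h1, Q.range_Ψ, h2]

/-- pairing with a vector -/
def pr (J : Ideal R) (n : ℕ) : (Fin n → R) →ₗ[R] ((Fin n → R) →ₗ[R] (R ⧸ J)) where
  toFun v :=
    { toFun := fun w => Ideal.Quotient.mk J (w ⬝ᵥ v)
      map_add' := fun w w' => by rw [add_dotProduct, map_add]
      map_smul' := fun r w => by rw [smul_dotProduct, smul_eq_mul, map_mul]; rfl }
  map_add' v v' := by
    ext w
    simp [dotProduct_add]
  map_smul' r v := by
    apply LinearMap.ext
    intro w
    show Ideal.Quotient.mk J (w ⬝ᵥ (r • v)) = _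
    rw [dotProduct_smul, smul_eq_mul, map_mul]; rfl

theorem pr_apply (n : ℕ) (v w : Fin n → R) : pr J n v w = Ideal.Quotient.mk J (w ⬝ᵥ v) := rfl

theorem pr_surjective (n : ℕ) : Function.Surjective (pr J n) := by
  intro φ
  have h1 : ∀ j : Fin n, ∃ v : R, Ideal.Quotient.mk J v = φ (Pi.single j 1) :=
    fun j => Ideal.Quotient.mk_surjective _
  choose v hv using h1
  refine ⟨v, ?_⟩
  apply LinearMap.pi_ext'
  intro j
  apply LinearMap.ext_ring
  show Ideal.Quotient.mk J ((Pi.single j 1 : Fin n → R) ⬝ᵥ v) = φ (Pi.single j 1)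
  rw [← hv]
  simp

theorem pr_eq_zero {n : ℕ} {v : Fin n → R} : pr J n v = 0 ↔ ∀ j, v j ∈ J := by
  constructor
  · intro h j
    have := LinearMap.congr_fun h (Pi.single j 1)
    rw [pr_apply] at this
    have h2 : (Pi.single j 1 : Fin n → R) ⬝ᵥ v = v j := by simp
    rw [h2] at this
    exact Ideal.Quotient.eq_zero_iff_mem.1 this
  · intro h
    apply LinearMap.ext
    intro w
    rw [pr_apply, dotProduct]
    exact Ideal.Quotient.eq_zero_iff_mem.2 (sum_mem fun j _ => Ideal.mul_mem_left _ _ (h j))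

theorem length_hom_free (n : ℕ) (N : Type u) [AddCommGroup N] [Module R N] :
    Module.length R ((Fin n → R) →ₗ[R] N) = n * Module.length R N := by
  rw [← ((Pi.basisFun R (Fin n)).constr R (M' := N)).length_eq, Module.length_pi]
  simp

/-- restriction along the matrix -/
noncomputable abbrev rst : ((Fin b → R) →ₗ[R] (R ⧸ J)) →ₗ[R] ((Fin a → R) →ₗ[R] (R ⧸ J)) :=
  LinearMap.lcomp R (R ⧸ J) Q.M.mulVecLin

theorem rst_pr (u : Fin b → R) : Q.rst (pr J b u) = pr J a (Q.Mᵀ *ᵥ u) := by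
  apply LinearMap.ext
  intro w
  show Ideal.Quotient.mk J ((Q.M *ᵥ w) ⬝ᵥ u) = Ideal.Quotient.mk J (w ⬝ᵥ (Q.Mᵀ *ᵥ u))
  rw [Matrix.mulVec_transpose, dotProduct_comm (Q.M *ᵥ w), Matrix.dotProduct_mulVec,
    dotProduct_comm]

theorem length_coker : Module.length R (((Fin a → R) →ₗ[R] (R ⧸ J)) ⧸ LinearMap.range Q.rst) =
    Module.length R ((Fin a → R) ⧸ Q.P) := by
  let θ : (Fin a → R) →ₗ[R] (((Fin a → R) →ₗ[R] (R ⧸ J)) ⧸ LinearMap.range Q.rst) :=
    (LinearMap.range Q.rst).mkQ ∘ₗ pr J a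
  have hθ : Function.Surjective θ := (Submodule.mkQ_surjective _).comp (pr_surjective a)
  have hker : LinearMap.ker θ = Q.P := by
    ext v
    rw [LinearMap.mem_ker]
    show (LinearMap.range Q.rst).mkQ (pr J a v) = 0 ↔ _
    rw [Submodule.mkQ_apply, Submodule.Quotient.mk_eq_zero, LinearMap.mem_range]
    constructor
    · rintro ⟨h, hh⟩
      obtain ⟨u, rfl⟩ := pr_surjective b h
      refine ⟨u, fun j => ?_⟩
      rw [Q.rst_pr] at hh
      have h1 : pr J a (v - Q.Mᵀ *ᵥ u) = 0 := by rw [map_sub, hh, sub_self]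
      exact pr_eq_zero.1 h1 j
    · rintro ⟨u, hu⟩
      refine ⟨pr J b u, ?_⟩
      rw [Q.rst_pr]
      have h1 : pr J a (v - Q.Mᵀ *ᵥ u) = 0 := pr_eq_zero.2 hu
      rw [map_sub, sub_eq_zero] at h1
      exact h1.symm
  rw [← (LinearMap.quotKerEquivOfSurjective θ hθ).length_eq, hker]

theorem length_hom_ideal : Module.length R (↥I →ₗ[R] (R ⧸ J)) =
    Module.length R ↥(LinearMap.ker Q.rst) := by
  let gI : (Fin b → R) →ₗ[R] ↥I := Q.g.codRestrict I (fun w => (Q.hrange _).2 ⟨w, rfl⟩)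
  have hgI : Function.Surjective gI := by
    rintro ⟨c, hc⟩
    obtain ⟨w, hw⟩ := (Q.hrange c).1 hc
    exact ⟨w, Subtype.ext hw⟩
  have hex : Function.Exact Q.M.mulVecLin gI := by
    intro w
    rw [← Subtype.coe_inj]
    exact Q.hex w
  have h1 := LinearMap.exact_lcomp_of_exact_of_surjective (R ⧸ J) hex hgI
  have h2 : Function.Injective (LinearMap.lcomp R (R ⧸ J) gI) :=
    LinearMap.lcomp_injective_of_surjective gI hgI
  have h3 := length_ker_add_range (LinearMap.lcomp R (R ⧸ J) gI)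
  rw [LinearMap.ker_eq_bot.2 h2, Module.length_bot, zero_add, ← LinearMap.exact_iff.1 h1] at h3
  exact h3

theorem length_hom_add (hab : b = a + 1) (hN : Module.length R (R ⧸ J) < ⊤) :
    Module.length R (↥I →ₗ[R] (R ⧸ J)) =
      Module.length R (R ⧸ J) + Module.length R ((Fin a → R) ⧸ Q.P) ∧
      Module.length R ((Fin a → R) ⧸ Q.P) < ⊤ := by
  have h1 := length_ker_add_range Q.rst
  have h2 := length_quot_add (LinearMap.range Q.rst)
  rw [length_hom_free] at h1 h2
  rw [Q.length_coker] at h2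
  rw [Q.length_hom_ideal]
  obtain ⟨m, hm⟩ := ENat.ne_top_iff_exists.1 hN.ne
  rw [← hm] at h1 h2 ⊢
  have hb : (b : ℕ∞) * (m : ℕ∞) = ((b * m : ℕ) : ℕ∞) := by push_cast; rfl
  have ha : (a : ℕ∞) * (m : ℕ∞) = ((a * m : ℕ) : ℕ∞) := by push_cast; rfl
  rw [hb] at h1
  rw [ha] at h2
  have f1 : Module.length R ↥(LinearMap.ker Q.rst) ≠ ⊤ := by
    intro h; rw [h, top_add] at h1; exact ENat.natCast_ne_top _ h1
  have f2 : Module.length R ↥(LinearMap.range Q.rst) ≠ ⊤ := by
    intro h; rw [h, add_top] at h1; exact ENat.natCast_ne_top _ h1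
  have f3 : Module.length R ((Fin a → R) ⧸ Q.P) ≠ ⊤ := by
    intro h; rw [h, add_top] at h2; exact ENat.natCast_ne_top _ h2
  obtain ⟨p, hp⟩ := ENat.ne_top_iff_exists.1 f1
  obtain ⟨r, hr⟩ := ENat.ne_top_iff_exists.1 f2
  obtain ⟨s, hs⟩ := ENat.ne_top_iff_exists.1 f3
  rw [← hp, ← hr] at h1
  rw [← hr, ← hs] at h2
  rw [← hp, ← hs]
  norm_cast at h1 h2 ⊢
  subst hab
  refine ⟨?_, ENat.natCast_lt_top s⟩
  rw [add_mul, one_mul] at h1
  omega

end Res

end K777.HilbB
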