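import Groth.Agent.W4c1hilbpn.K777.Basic
import Mathlib.Data.Finsupp.Order
import Mathlib.LinearAlgebra.DFinsupp
import Mathlib.LinearAlgebra.Finsupp.LinearCombination
import Mathlib.Tactic.Linarith

/-! The graded pieces of `T(I)` as spaces of functions on lattice regions. -/

set_option autoImplicit false
set_option linter.unusedSimpArgs false
set_option linter.unusedSectionVars false

namespace K777.Model

open MvPolynomial W4c1hilbpn K777.Basic

variable {σ : Type*} [Finite σ] {k : Type*} [Field k]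

/-- truncation of an integer vector -/
noncomputable def vn (γ : σ → ℤ) : σ →₀ ℕ := Finsupp.equivFunOnFinite.symm fun i => (γ i).toNat

/-- a vector of natural numbers as an integer vector -/
def vz (β : σ →₀ ℕ) : σ → ℤ := fun i => (β i : ℤ)

@[simp] theorem vn_apply (γ : σ → ℤ) (i : σ) : vn γ i = (γ i).toNat := rfl
omit [Finite σ] in
@[simp] theorem vz_apply (β : σ →₀ ℕ) (i : σ) : vz β i = (β i : ℤ) := rfl

@[simp] theorem vn_vz (β : σ →₀ ℕ) : vn (vz β) = β := by
  ext i; simp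

theorem vz_vn {γ : σ → ℤ} (h : ∀ i, 0 ≤ γ i) : vz (vn γ) = γ := by
  ext i; simp [h i]

omit [Finite σ] in
theorem vz_nonneg (β : σ →₀ ℕ) (i : σ) : 0 ≤ vz β i := by simp

omit [Finite σ] in
theorem vz_injective : Function.Injective (vz : (σ →₀ ℕ) → (σ → ℤ)) := by
  intro a b h
  ext i
  have := congrFun h i
  simpa using this

omit [Finite σ] in
theorem vz_add (a b : σ →₀ ℕ) : vz (a + b) = vz a + vz b := by
  ext i; simp

omit [Finite σ] in
theorem vz_single [DecidableEq σ] (i : σ) (n : ℕ) :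
    vz (Finsupp.single i n) = Pi.single i (n : ℤ) := by
  ext j
  by_cases h : j = i
  · subst h; simp
  · simp [Pi.single_apply, h, Finsupp.single_apply, Ne.symm h]

theorem vn_add_single [DecidableEq σ] {γ : σ → ℤ} (h : ∀ i, 0 ≤ γ i) (i : σ) :
    vn (γ + Pi.single i 1) = vn γ + Finsupp.single i 1 := by
  apply vz_injective
  rw [vz_add, vz_vn h, vz_vn, vz_single]
  · simp
  · intro j
    have := h j
    by_cases hj : j = i
    · subst hj; simp; omega
    · simp [Pi.single_apply, hj, this]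

variable (I : Ideal (MvPolynomial σ k))

/-- exponents of monomials in `I`, as integer vectors -/
def UU : Set (σ → ℤ) := {γ | (∀ i, 0 ≤ γ i) ∧ vn γ ∈ exps I}

/-- exponents of monomials outside `I`, as integer vectors -/
def DD : Set (σ → ℤ) := {γ | (∀ i, 0 ≤ γ i) ∧ vn γ ∉ exps I}

variable {I}

theorem mem_UU_or_DD {γ : σ → ℤ} (h : ∀ i, 0 ≤ γ i) : γ ∈ UU I ∨ γ ∈ DD I := by
  by_cases h1 : vn γ ∈ exps I
  · exact Or.inl ⟨h, h1⟩
  · exact Or.inr ⟨h, h1⟩

theorem not_mem_DD {γ : σ → ℤ} (h : γ ∈ UU I) : γ ∉ DD I := fun h' => h'.2 h.2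

theorem vz_mem_UU {β : σ →₀ ℕ} : vz β ∈ UU I ↔ β ∈ exps I := by
  constructor
  · rintro ⟨_, h⟩; rwa [vn_vz] at h
  · intro h; exact ⟨vz_nonneg β, by rwa [vn_vz]⟩

theorem vz_mem_DD {β : σ →₀ ℕ} : vz β ∈ DD I ↔ β ∉ exps I := by
  constructor
  · rintro ⟨_, h⟩; rwa [vn_vz] at h
  · intro h; exact ⟨vz_nonneg β, by rwa [vn_vz]⟩

theorem UU_up {γ δ : σ → ℤ} (h : γ ∈ UU I) (hle : ∀ i, γ i ≤ δ i) : δ ∈ UU I := by
  refine ⟨fun i => (h.1 i).trans (hle i), exps_of_le h.2 ?_⟩
  intro i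
  have := hle i
  simp only [vn_apply]
  omega

theorem DD_down {γ δ : σ → ℤ} (h : γ ∈ DD I) (hle : ∀ i, δ i ≤ γ i) (h0 : ∀ i, 0 ≤ δ i) :
    δ ∈ DD I := by
  refine ⟨h0, fun h' => h.2 ?_⟩
  exact (UU_up (I := I) ⟨h0, h'⟩ hle).2

theorem UU_add_single [DecidableEq σ] {γ : σ → ℤ} (h : γ ∈ UU I) (i : σ) :
    γ + Pi.single i 1 ∈ UU I := by
  refine UU_up h fun j => ?_
  by_cases hj : j = i
  · subst hj; simp
  · simp [Pi.single_apply, hj]

/-- coefficients of a homomorphism -/
noncomputable def co (hI : IsMonomial I) (φ : Tgt I) (β γ : σ → ℤ) : k :=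
  open Classical in
  if h : β ∈ UU I ∧ γ ∈ DD I then cfQ hI (vn γ) (φ ⟨monomial (vn β) 1, h.1.2⟩) else 0

theorem co_ne_zero {hI : IsMonomial I} {φ : Tgt I} {β γ : σ → ℤ} (h : co hI φ β γ ≠ 0) :
    β ∈ UU I ∧ γ ∈ DD I := by
  by_contra h'
  exact h (dif_neg h')

theorem co_eq {hI : IsMonomial I} {φ : Tgt I} {β γ : σ → ℤ} (h : β ∈ UU I) (h' : γ ∈ DD I) :
    co hI φ β γ = cfQ hI (vn γ) (φ ⟨monomial (vn β) 1, h.2⟩) := dif_pos ⟨h, h'⟩

theorem co_vz {hI : IsMonomial I} {φ : Tgt I} {β γ : σ →₀ ℕ} (h : monomial β (1 : k) ∈ I)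
    (h' : γ ∉ exps I) :
    co hI φ (vz β) (vz γ) = cfQ hI γ (φ ⟨monomial β 1, h⟩) := by
  rw [co_eq (vz_mem_UU.2 h) (vz_mem_DD.2 h')]
  congr 1
  · rw [vn_vz]
  · congr 2
    rw [vn_vz]

theorem co_add (hI : IsMonomial I) (φ ψ : Tgt I) (β γ : σ → ℤ) :
    co hI (φ + ψ) β γ = co hI φ β γ + co hI ψ β γ := by
  by_cases h : β ∈ UU I ∧ γ ∈ DD I
  · rw [co_eq h.1 h.2, co_eq h.1 h.2, co_eq h.1 h.2, LinearMap.add_apply, map_add]
  · rw [co, dif_neg h, co, dif_neg h, co, dif_neg h, add_zero]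

theorem co_smul (hI : IsMonomial I) (a : k) (φ : Tgt I) (β γ : σ → ℤ) :
    co hI (a • φ) β γ = a * co hI φ β γ := by
  by_cases h : β ∈ UU I ∧ γ ∈ DD I
  · rw [co_eq h.1 h.2, co_eq h.1 h.2, LinearMap.smul_apply, map_smul, smul_eq_mul]
  · rw [co, dif_neg h, co, dif_neg h, mul_zero]

/-- coefficients, as a linear map -/
noncomputable def coL (hI : IsMonomial I) : Tgt I →ₗ[k] (σ → ℤ) → (σ → ℤ) → k where
  toFun φ := co hI φ
  map_add' φ ψ := by ext β γ; exact co_add hI φ ψ β γ
  map_smul' a φ := by ext β γ; exact co_smul hI a φ β γ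

@[simp] theorem coL_apply (hI : IsMonomial I) (φ : Tgt I) : coL hI φ = co hI φ := rfl

theorem co_step [DecidableEq σ] (hI : IsMonomial I) (φ : Tgt I) {β γ : σ → ℤ} (i : σ)
    (hβ : β ∈ UU I) (hγ : γ + Pi.single i 1 ∈ DD I) :
    co hI φ (β + Pi.single i 1) (γ + Pi.single i 1) = co hI φ β γ := by
  rw [co_eq (UU_add_single hβ i) hγ]
  have h1 : (⟨monomial (vn (β + Pi.single i 1)) 1, (UU_add_single hβ i).2⟩ : I) =
      ⟨monomial (vn β + Finsupp.single i 1) 1, exps_add (I := I) hβ.2 _⟩ := by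
    ext1
    simp only
    rw [vn_add_single hβ.1]
  rw [h1, tgt_X_smul φ (vn β) hβ.2 i]
  by_cases h0 : ∀ j, 0 ≤ γ j
  · have hγ' : γ ∈ DD I := by
      refine DD_down hγ (fun j => ?_) h0
      by_cases hj : j = i
      · subst hj; simp
      · simp [Pi.single_apply, hj]
    rw [co_eq hβ hγ', vn_add_single h0 i, cfQ_X_smul]
    rw [← vn_add_single h0 i]
    exact hγ.2
  · have hγ' : γ ∉ DD I := fun h => h0 h.1
    rw [co, dif_neg (fun h => hγ' h.2)]
    apply cfQ_X_smul_zero
    simp only [vn_apply, Pi.add_apply, Pi.single_eq_same]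
    push Not at h0
    obtain ⟨j, hj⟩ := h0
    have hji : j = i := by
      by_contra hne
      have := hγ.1 j
      simp [Pi.single_apply, hne] at this
      omega
    subst hji
    omega

theorem co_ext (hI : IsMonomial I) {φ ψ : Tgt I} (h : ∀ β γ, co hI φ β γ = co hI ψ β γ) :
    φ = ψ := by
  apply tgt_ext hI
  intro β hβ
  apply ext_cfQ hI
  intro γ hγ
  rw [← co_vz hβ hγ, ← co_vz hβ hγ, h]

theorem cfQ_monomial (hI : IsMonomial I) {γ : σ →₀ ℕ} (h : γ ∉ exps I) (δ : σ →₀ ℕ) :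
    cfQ hI γ (Ideal.Quotient.mk I (monomial δ 1)) = (open Classical in if δ = γ then 1 else 0) := by
  classical
  rw [cfQ_mk hI h, coeff_monomial]

theorem mem_tPiece_iff (hI : IsMonomial I) (φ : Tgt I) (α : σ → ℤ) :
    φ ∈ tPiece I α ↔ ∀ β γ, co hI φ β γ ≠ 0 → γ = β + α := by
  constructor
  · intro h β γ hne
    obtain ⟨h1, h2⟩ := co_ne_zero hne
    rw [co_eq h1 h2] at hne
    have h3 := h (vn β) h1.2
    by_contra hγ
    apply hne
    have e1 : ∀ i, ((vn β) i : ℤ) = β i := fun i => congrFun (vz_vn h1.1) i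
    by_cases h0 : ∀ i, 0 ≤ β i + α i
    · have h4 := h3.1 (by simpa only [e1] using h0)
      rw [Submodule.mem_span_singleton] at h4
      obtain ⟨a, ha⟩ := h4
      rw [← ha, map_smul, cfQ_monomial hI h2.2, if_neg, smul_zero]
      intro h5
      apply hγ
      rw [← vz_vn h2.1, ← h5]
      ext i
      simp only [vz_apply, shift, Finsupp.equivFunOnFinite_symm_apply_apply, Pi.add_apply, e1]
      have := h0 i
      omega
    · push Not at h0
      have h4 := h3.2 (by simpa only [e1] using h0)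
      rw [h4, map_zero]
  · intro h β hβ
    have key : ∀ γ, γ ∉ exps I → cfQ hI γ (φ ⟨monomial β 1, hβ⟩) ≠ 0 → vz γ = vz β + α := by
      intro γ hγ hne
      rw [← co_vz hβ hγ] at hne
      exact h _ _ hne
    constructor
    · intro h0
      rw [Submodule.mem_span_singleton]
      have e2 : ∀ γ, vz γ = vz β + α → γ = shift β α := by
        intro γ hγ
        ext i
        have := congrFun hγ i
        simp only [vz_apply, Pi.add_apply] at this
        simp only [shift, Finsupp.equivFunOnFinite_symm_apply_apply]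
        omega
      refine ⟨cfQ hI (shift β α) (φ ⟨monomial β 1, hβ⟩), ?_⟩
      apply ext_cfQ hI
      intro γ hγ
      rw [map_smul, cfQ_monomial hI hγ]
      by_cases h1 : shift β α = γ
      · subst h1; simp
      · rw [if_neg h1, smul_zero]
        by_contra h2
        exact h1 (e2 γ (key γ hγ (Ne.symm h2))).symm
    · rintro ⟨i, hi⟩
      apply ext_cfQ hI
      intro γ hγ
      rw [map_zero]
      by_contra h2
      have := congrFun (key γ hγ h2) i
      simp only [vz_apply, Pi.add_apply] at this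
      omega

variable [DecidableEq σ]

variable (I) in
/-- The function model of the piece of degree `α`. -/
def Mdl (α : σ → ℤ) : Submodule k ((σ → ℤ) → k) where
  carrier := {f | (∀ γ, f γ ≠ 0 → γ ∈ DD I ∧ γ - α ∈ UU I) ∧
    ∀ γ i, γ - α ∈ UU I → γ + Pi.single i 1 ∈ DD I → f (γ + Pi.single i 1) = f γ}
  zero_mem' := by
    refine ⟨fun γ h => absurd rfl h, fun γ i _ _ => rfl⟩
  add_mem' := by
    rintro f g ⟨hf1, hf2⟩ ⟨hg1, hg2⟩
    refine ⟨fun γ h => ?_, fun γ i h1 h2 => ?_⟩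
    · by_cases hf : f γ = 0
      · by_cases hg : g γ = 0
        · exact absurd (by simp [hf, hg]) h
        · exact hg1 γ hg
      · exact hf1 γ hf
    · simp [hf2 γ i h1 h2, hg2 γ i h1 h2]
  smul_mem' := by
    rintro a f ⟨hf1, hf2⟩
    refine ⟨fun γ h => hf1 γ (fun h' => h (by simp [h'])), fun γ i h1 h2 => ?_⟩
    simp [hf2 γ i h1 h2]

/-- The homomorphism attached to a function in the model. -/
noncomputable def ofMdl (hI : IsMonomial I) (α : σ → ℤ) (f : (σ → ℤ) → k) (hf : f ∈ Mdl I α) :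
    Tgt I :=
  homOf hI (fun β => f (vz β + α) • Ideal.Quotient.mk I (monomial (vn (vz β + α)) 1)) (by
    intro β hβ i
    obtain ⟨hf1, hf2⟩ := hf
    have e1 : vz (β + Finsupp.single i 1) + α = vz β + α + Pi.single i 1 := by
      rw [vz_add, vz_single]; simp only [Nat.cast_one]; abel
    rw [e1]
    have hβ' : (vz β + α) - α ∈ UU I := by
      rw [add_sub_cancel_right]; exact vz_mem_UU.2 hβ
    by_cases h0 : ∀ j, 0 ≤ (vz β + α) j
    · rw [vn_add_single h0]
      have e2 : (X i : MvPolynomial σ k) •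
          (f (vz β + α) • Ideal.Quotient.mk I (monomial (vn (vz β + α)) 1)) =
          f (vz β + α) • Ideal.Quotient.mk I (monomial (vn (vz β + α) + Finsupp.single i 1) 1) := by
        rw [smul_comm, smul_eq_mk_mul, ← map_mul, X, monomial_mul, one_mul, add_comm (Finsupp.single i 1)]
      rw [e2]
      by_cases h1 : vz β + α + Pi.single i 1 ∈ DD I
      · rw [hf2 _ i hβ' h1]
      · have h2 : vn (vz β + α) + Finsupp.single i 1 ∈ exps I := by
          rw [← vn_add_single h0]
          by_contra h2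
          refine h1 ⟨fun j => ?_, h2⟩
          have := h0 j
          by_cases hj : j = i
          · subst hj; simp only [Pi.add_apply, Pi.single_eq_same] at *; omega
          · simp only [Pi.add_apply, Pi.single_apply, hj, if_false] at *; omega
        rw [mk_eq_zero_of_mem h2, smul_zero, smul_zero]
    · have h1 : f (vz β + α) = 0 := by
        by_contra h1
        exact h0 (hf1 _ h1).1.1
      rw [h1, zero_smul, smul_zero]
      by_cases h2 : vz β + α + Pi.single i 1 ∈ DD I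
      · rw [hf2 _ i hβ' h2, h1, zero_smul]
      · have h3 : f (vz β + α + Pi.single i 1) = 0 := by
          by_contra h3
          exact h2 (hf1 _ h3).1
        rw [h3, zero_smul])

open Classical in
theorem co_ofMdl (hI : IsMonomial I) (α : σ → ℤ) (f : (σ → ℤ) → k) (hf : f ∈ Mdl I α)
    (β γ : σ → ℤ) :
    co hI (ofMdl hI α f hf) β γ = if γ = β + α then f γ else 0 := by
  by_cases h : β ∈ UU I ∧ γ ∈ DD I
  · rw [co_eq h.1 h.2]
    rw [ofMdl, homOf_apply, map_smul, vz_vn h.1.1, cfQ_monomial hI h.2.2]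
    by_cases h1 : γ = β + α
    · rw [if_pos h1, if_pos (by rw [h1]), h1, smul_eq_mul, mul_one]
    · rw [if_neg h1]
      by_cases h2 : f (β + α) = 0
      · rw [h2, zero_smul]
      · rw [if_neg, smul_zero]
        intro h3
        apply h1
        rw [← vz_vn h.2.1, ← h3, vz_vn (hf.1 _ h2).1.1]
  · rw [co, dif_neg h]
    split_ifs with h1
    · by_contra h2
      apply h
      have h3 := hf.1 γ (Ne.symm h2)
      refine ⟨?_, h3.1⟩
      have : γ - α = β := by rw [h1]; abel
      rw [← this]; exact h3.2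
    · rfl

theorem ofMdl_mem (hI : IsMonomial I) (α : σ → ℤ) (f : (σ → ℤ) → k) (hf : f ∈ Mdl I α) :
    ofMdl hI α f hf ∈ tPiece I α := by
  rw [mem_tPiece_iff hI]
  intro β γ h
  rw [co_ofMdl] at h
  by_contra h'
  exact h (if_neg h')

theorem co_mem_Mdl (hI : IsMonomial I) (α : σ → ℤ) (φ : Tgt I) :
    (fun γ => co hI φ (γ - α) γ) ∈ Mdl I α := by
  refine ⟨fun γ h => (co_ne_zero h).symm, fun γ i h1 h2 => ?_⟩
  have : γ + Pi.single i 1 - α = γ - α + Pi.single i 1 := by abel
  simp only [this]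
  exact co_step hI φ i h1 h2

/-- The piece of degree `α` and its function model. -/
noncomputable def mdlEquiv (hI : IsMonomial I) (α : σ → ℤ) : ↥(tPiece I α) ≃ₗ[k] ↥(Mdl I α) where
  toFun φ := ⟨fun γ => co hI φ.1 (γ - α) γ, co_mem_Mdl hI α φ.1⟩
  map_add' φ ψ := by ext γ; exact co_add hI _ _ _ _
  map_smul' a φ := by ext γ; exact co_smul hI _ _ _ _
  invFun f := ⟨ofMdl hI α f.1 f.2, ofMdl_mem hI α f.1 f.2⟩
  left_inv := by
    rintro ⟨φ, hφ⟩
    ext1
    apply co_ext hI
    intro β γ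
    simp only
    rw [co_ofMdl]
    rw [mem_tPiece_iff hI] at hφ
    split_ifs with h
    · congr 1
      rw [h]; abel
    · by_contra h'
      exact h (hφ β γ (Ne.symm h'))
  right_inv := by
    rintro ⟨f, hf⟩
    ext γ
    simp only
    rw [co_ofMdl, if_pos (by abel)]

theorem finrank_tPiece (hI : IsMonomial I) (α : σ → ℤ) :
    Module.finrank k ↥(tPiece I α) = Module.finrank k ↥(Mdl I α) :=
  (mdlEquiv hI α).finrank_eq

theorem tPiece_eq_bot_iff (hI : IsMonomial I) (α : σ → ℤ) :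
    tPiece I α = ⊥ ↔ Mdl I α = ⊥ := by
  rw [← Submodule.subsingleton_iff_eq_bot, ← Submodule.subsingleton_iff_eq_bot]
  exact ⟨fun h => (mdlEquiv hI α).symm.toEquiv.subsingleton, fun h => (mdlEquiv hI α).toEquiv.subsingleton⟩

end K777.Model
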