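import Mathlib.LinearAlgebra.FiniteDimensional.Lemmas
import Mathlib.LinearAlgebra.Dimension.Finite
import Mathlib.Data.Finset.Max
import Mathlib.Algebra.Order.Group.Defs
import Mathlib.Data.Matrix.Mul
import Mathlib.Tactic.Abel
import Mathlib.Tactic.Linarith
import Mathlib.LinearAlgebra.Matrix.FiniteDimensional

/-! Leading parts: dimension can only grow when passing to leading parts. -/

set_option autoImplicit false
set_option linter.unusedSimpArgs false
set_option linter.unusedSectionVars false

namespace K777.Semi1

variable {k A Λ : Type*} [Field k] [Finite A] [LinearOrder Λ]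

/-- functions supported in degrees `T` -/
def VT (k : Type*) [Field k] (deg : A → Λ) (T : Finset Λ) : Submodule k (A → k) where
  carrier := {u | ∀ a, u a ≠ 0 → deg a ∈ T}
  zero_mem' := fun a h => absurd rfl h
  add_mem' := by
    intro u v hu hv a h
    by_cases h1 : u a = 0
    · exact hv a fun h2 => h (by rw [Pi.add_apply, h1, h2, add_zero])
    · exact hu a h1
  smul_mem' := by
    intro c u hu a h
    exact hu a fun h2 => h (by rw [Pi.smul_apply, h2, smul_zero])

/-- the part of degree `s` -/
def part (k : Type*) [Field k] (deg : A → Λ) (s : Λ) : (A → k) →ₗ[k] (A → k) where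
  toFun u a := if deg a = s then u a else 0
  map_add' u v := by
    ext a
    simp only [Pi.add_apply]
    split_ifs <;> simp
  map_smul' c u := by
    ext a
    simp only [Pi.smul_apply, RingHom.id_apply]
    split_ifs <;> simp

theorem part_apply (deg : A → Λ) (s : Λ) (u : A → k) (a : A) :
    part k deg s u a = if deg a = s then u a else 0 := rfl

theorem finrank_le_aux (deg : A → Λ) (U' : Submodule k (A → k)) (T : Finset Λ) :
    ∀ U : Submodule k (A → k), U ≤ VT k deg T →
      (∀ u ∈ U, ∀ s, (∀ a, s < deg a → u a = 0) → part k deg s u ∈ U') →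
      Module.finrank k ↥U ≤ Module.finrank k ↥(U' ⊓ VT k deg T) := by
  induction T using Finset.induction_on_max with
  | empty =>
    intro U hU _
    have : U = ⊥ := by
      rw [eq_bot_iff]
      intro u hu
      rw [Submodule.mem_bot]
      ext a
      by_contra h
      exact absurd (hU hu a h) (Finset.notMem_empty _)
    rw [this, finrank_bot]
    exact Nat.zero_le _
  | insert s T hmax ih =>
    intro U hU hlead
    have hsT : s ∉ T := fun h => lt_irrefl _ (hmax s h)
    have h1 := LinearMap.finrank_range_add_finrank_ker ((part k deg s).domRestrict U)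
    have h2 : Module.finrank k ↥(LinearMap.range ((part k deg s).domRestrict U)) ≤
        Module.finrank k ↥(U' ⊓ VT k deg {s}) := by
      apply Submodule.finrank_mono
      rintro _ ⟨⟨u, hu⟩, rfl⟩
      rw [LinearMap.domRestrict_apply]
      refine ⟨hlead u hu s fun a ha => ?_, ?_⟩
      · by_contra hne
        have h3 := hU hu a hne
        rw [Finset.mem_insert] at h3
        rcases h3 with h3 | h3
        · rw [h3] at ha; exact lt_irrefl _ ha
        · exact lt_asymm ha (hmax _ h3)
      · intro a ha
        rw [part_apply] at ha
        rw [Finset.mem_singleton]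
        by_contra h3
        exact ha (if_neg h3)
    have h3 : Module.finrank k ↥(LinearMap.ker ((part k deg s).domRestrict U)) ≤
        Module.finrank k ↥(U ⊓ VT k deg T) := by
      rw [← Submodule.finrank_map_subtype_eq]
      apply Submodule.finrank_mono
      rintro _ ⟨⟨u, hu⟩, hk, rfl⟩
      refine ⟨hu, fun a ha => ?_⟩
      have h4 := hU hu a ha
      rw [Finset.mem_insert] at h4
      rcases h4 with h4 | h4
      · exfalso
        have h5 : part k deg s u = 0 := hk
        have h6 := congrFun h5 a
        rw [part_apply, if_pos h4] at h6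
        exact ha h6
      · exact h4
    have h4 := ih (U ⊓ VT k deg T) inf_le_right (fun u hu => hlead u hu.1)
    have h5 : (U' ⊓ VT k deg {s}) ⊓ (U' ⊓ VT k deg T) = ⊥ := by
      rw [eq_bot_iff]
      rintro u ⟨⟨_, h6⟩, ⟨_, h7⟩⟩
      rw [Submodule.mem_bot]
      ext a
      by_contra hne
      have h8 := h6 a hne
      rw [Finset.mem_singleton] at h8
      have h9 := h7 a hne
      rw [h8] at h9
      exact hsT h9
    have h6 := Submodule.finrank_sup_add_finrank_inf_eq (U' ⊓ VT k deg {s}) (U' ⊓ VT k deg T)
    rw [h5, finrank_bot, add_zero] at h6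
    have h7 : (U' ⊓ VT k deg {s}) ⊔ (U' ⊓ VT k deg T) ≤ U' ⊓ VT k deg (insert s T) := by
      refine sup_le (inf_le_inf le_rfl ?_) (inf_le_inf le_rfl ?_)
      · intro u hu a ha
        have := hu a ha
        rw [Finset.mem_singleton] at this
        rw [this]; exact Finset.mem_insert_self _ _
      · intro u hu a ha
        exact Finset.mem_insert_of_mem (hu a ha)
    have h8 := Submodule.finrank_mono h7
    omega

/-- passing to leading parts does not decrease the dimension -/
theorem finrank_le_of_lead (deg : A → Λ) (U U' : Submodule k (A → k))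
    (hlead : ∀ u ∈ U, ∀ s, (∀ a, s < deg a → u a = 0) → part k deg s u ∈ U') :
    Module.finrank k ↥U ≤ Module.finrank k ↥U' := by
  classical
  have := Fintype.ofFinite A
  refine (finrank_le_aux deg U' (Finset.univ.image deg) U (fun u _ a _ =>
    Finset.mem_image_of_mem _ (Finset.mem_univ a)) hlead).trans ?_
  exact Submodule.finrank_mono inf_le_left

section mat
variable {D : Type*} [Fintype D] [DecidableEq D] {Λ : Type*} [AddCommGroup Λ] [LinearOrder Λ]
  [IsOrderedAddMonoid Λ]

/-- matrix components of a function -/
def mat (u : Fin 3 × D × D → k) (i : Fin 3) : Matrix D D k := fun a b => u (i, a, b)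

/-- cocycles for commuting matrices -/
def Zf (X : Fin 3 → Matrix D D k) : Submodule k (Fin 3 × D × D → k) where
  carrier := {u | ∀ i j, X i * mat u j - mat u j * X i = X j * mat u i - mat u i * X j}
  zero_mem' := by
    intro i j
    have : ∀ i, mat (0 : Fin 3 × D × D → k) i = 0 := fun i => rfl
    simp [this]
  add_mem' := by
    intro u v hu hv i j
    have : ∀ i, mat (u + v) i = mat u i + mat v i := fun i => rfl
    rw [this, this, mul_add, add_mul, mul_add, add_mul, add_sub_add_comm, add_sub_add_comm,
      hu i j, hv i j]
  smul_mem' := by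
    intro c u hu i j
    have : ∀ i, mat (c • u) i = c • mat u i := fun i => rfl
    rw [this, this, Matrix.mul_smul, Matrix.smul_mul, Matrix.mul_smul, Matrix.smul_mul,
      ← smul_sub, ← smul_sub, hu i j]

/-- Semicontinuity for triangular degenerations of commuting matrices. -/
theorem finrank_Zf_le (X X' : Fin 3 → Matrix D D k) (wt : D → Λ) (e : Fin 3 → Λ)
    (hX : ∀ i a b, X i a b ≠ 0 → wt a ≤ wt b + e i)
    (hX' : ∀ i a b, X' i a b = if wt a = wt b + e i then X i a b else 0) :
    Module.finrank k ↥(Zf X) ≤ Module.finrank k ↥(Zf X') := by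
  classical
  refine finrank_le_of_lead (fun p : Fin 3 × D × D => wt p.2.1 - wt p.2.2 - e p.1) _ _ ?_
  intro u hu s hs i j
  have hs' : ∀ i a b, mat u i a b ≠ 0 → wt a ≤ wt b + (s + e i) := by
    intro i a b h
    by_contra hcon
    apply h
    apply hs (i, a, b)
    simp only
    rw [not_le] at hcon
    rw [lt_sub_iff_add_lt, lt_sub_iff_add_lt]
    calc s + e i + wt b = wt b + (s + e i) := by abel
      _ < wt a := hcon
  have hpart : ∀ i a b, mat (part k (fun p : Fin 3 × D × D => wt p.2.1 - wt p.2.2 - e p.1) s u) i a b =
      if wt a = wt b + (s + e i) then mat u i a b else 0 := by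
    intro i a b
    have : (wt a = wt b + (s + e i)) ↔ (wt a - wt b - e i = s) := by
      rw [sub_sub, sub_eq_iff_eq_add]
      constructor
      · intro h; rw [h]; abel
      · intro h; rw [h]; abel
    simp only [this]
    rfl
  -- product of top parts
  have hmul1 : ∀ i j a b, (X' i * mat (part k (fun p : Fin 3 × D × D => wt p.2.1 - wt p.2.2 - e p.1) s u) j) a b =
      if wt a = wt b + (s + e i + e j) then (X i * mat u j) a b else 0 := by
    intro i j a b
    rw [Matrix.mul_apply, Matrix.mul_apply]
    split_ifs with h
    · refine Finset.sum_congr rfl fun c _ => ?_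
      rw [hX', hpart]
      by_cases h1 : X i a c = 0
      · rw [h1]; simp
      by_cases h2 : mat u j c b = 0
      · rw [h2]; simp
      have h3 := hX i a c h1
      have h4 := hs' j c b h2
      have h5 : wt c = wt b + (s + e j) := by
        apply le_antisymm h4
        have h6 : wt b + (s + e i + e j) ≤ wt c + e i := by rw [← h]; exact h3
        have h7 : wt b + (s + e i + e j) = wt b + (s + e j) + e i := by abel
        rw [h7] at h6
        exact le_of_add_le_add_right h6
      have h6 : wt a = wt c + e i := by rw [h, h5]; abel
      rw [if_pos h6, if_pos h5]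
    · apply Finset.sum_eq_zero
      intro c _
      rw [hX', hpart]
      split_ifs with h1 h2
      · exfalso
        apply h
        rw [h1, h2]; abel
      · simp
      · simp
      · simp
  have hmul2 : ∀ i j a b, (mat (part k (fun p : Fin 3 × D × D => wt p.2.1 - wt p.2.2 - e p.1) s u) j * X' i) a b =
      if wt a = wt b + (s + e i + e j) then (mat u j * X i) a b else 0 := by
    intro i j a b
    rw [Matrix.mul_apply, Matrix.mul_apply]
    split_ifs with h
    · refine Finset.sum_congr rfl fun c _ => ?_
      rw [hX', hpart]
      by_cases h1 : X i c b = 0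
      · rw [h1]; simp
      by_cases h2 : mat u j a c = 0
      · rw [h2]; simp
      have h3 := hX i c b h1
      have h4 := hs' j a c h2
      have h5 : wt c = wt b + e i := by
        apply le_antisymm h3
        have h6 : wt b + (s + e i + e j) ≤ wt c + (s + e j) := by rw [← h]; exact h4
        have h7 : wt b + (s + e i + e j) = wt b + e i + (s + e j) := by abel
        rw [h7] at h6
        exact le_of_add_le_add_right h6
      have h6 : wt a = wt c + (s + e j) := by rw [h, h5]; abel
      rw [if_pos h5, if_pos h6]
    · apply Finset.sum_eq_zero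
      intro c _
      rw [hX', hpart]
      split_ifs with h1 h2
      · exfalso
        apply h
        rw [h1, h2]; abel
      · simp
      · simp
      · simp
  ext a b
  rw [Matrix.sub_apply, Matrix.sub_apply, hmul1, hmul2, hmul1, hmul2]
  have h := congrFun (congrFun (hu i j) a) b
  rw [Matrix.sub_apply, Matrix.sub_apply] at h
  have e1 : s + e j + e i = s + e i + e j := by abel
  rw [e1]
  split_ifs
  · exact h
  · simp

end mat

end K777.Semi1
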