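import Groth.Agent.W4c1hilbpn.K777.Semi1
import Groth.Agent.W4c1hilbpn.K777.Basic
import Mathlib.LinearAlgebra.Matrix.ToLin
import Mathlib.LinearAlgebra.Basis.VectorSpace
import Mathlib.RingTheory.Finiteness.Prod

/-! `dim T(I) + d^2 ≤ dim Z + d` for the cocycle space `Z` of the multiplication matrices of `S/I`. -/

set_option autoImplicit false
set_option linter.unusedSimpArgs false
set_option linter.unusedSectionVars false

namespace K777.Semi2

open MvPolynomial W4c1hilbpn K777.Basic K777.Semi1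

variable {k : Type*} [Field k] (I : Ideal (MvPolynomial (Fin 3) k))

/-- descend a `k`-linear map to the quotient -/
noncomputable def desc {V : Type*} [AddCommGroup V] [Module k V] (L : MvPolynomial (Fin 3) k →ₗ[k] V)
    (hL : ∀ f ∈ I, L f = 0) : (MvPolynomial (Fin 3) k ⧸ I) →ₗ[k] V :=
  ((I.restrictScalars k).liftQ L (fun f hf => LinearMap.mem_ker.2 (hL f hf))).comp
      (Submodule.Quotient.restrictScalarsEquiv k I).symm.toLinearMap

theorem desc_mk {V : Type*} [AddCommGroup V] [Module k V] (L : MvPolynomial (Fin 3) k →ₗ[k] V)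
    (hL : ∀ f ∈ I, L f = 0) (f : MvPolynomial (Fin 3) k) :
    desc I L hL (Ideal.Quotient.mk I f) = L f := rfl

/-- quotient map as a `k`-linear map -/
noncomputable def mkL : MvPolynomial (Fin 3) k →ₗ[k] (MvPolynomial (Fin 3) k ⧸ I) :=
  (Ideal.Quotient.mkₐ k I).toLinearMap

theorem mkL_apply (f : MvPolynomial (Fin 3) k) : mkL I f = Ideal.Quotient.mk I f := rfl

/-- inclusion of the ideal as a `k`-linear map -/
noncomputable def inc : ↥I →ₗ[k] MvPolynomial (Fin 3) k :=
  (Submodule.subtype I).restrictScalars k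

theorem inc_apply (f : ↥I) : inc I f = f.1 := rfl

theorem exists_rho : ∃ ρ : MvPolynomial (Fin 3) k →ₗ[k] ↥I, ρ.comp (inc I) = LinearMap.id := by
  apply LinearMap.exists_leftInverse_of_injective
  rw [LinearMap.ker_eq_bot]
  intro f g h
  exact Subtype.ext h

/-- multiplication by a variable on the quotient -/
noncomputable def mx (i : Fin 3) : Module.End k (MvPolynomial (Fin 3) k ⧸ I) where
  toFun m := (X i : MvPolynomial (Fin 3) k) • m
  map_add' := smul_add _
  map_smul' c m := smul_comm _ _ _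

theorem mx_mk (i : Fin 3) (f : MvPolynomial (Fin 3) k) :
    mx I i (Ideal.Quotient.mk I f) = Ideal.Quotient.mk I (X i * f) := rfl

/-- difference operator on `h` -/
noncomputable def dd (h : MvPolynomial (Fin 3) k →ₗ[k] (MvPolynomial (Fin 3) k ⧸ I)) (i : Fin 3) :
    MvPolynomial (Fin 3) k →ₗ[k] (MvPolynomial (Fin 3) k ⧸ I) where
  toFun g := h (X i * g) - (X i : MvPolynomial (Fin 3) k) • h g
  map_add' f g := by rw [mul_add, map_add, map_add, smul_add]; abel
  map_smul' c g := by
    rw [RingHom.id_apply, mul_smul_comm, map_smul, map_smul, smul_sub, smul_comm]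

theorem dd_apply (h : MvPolynomial (Fin 3) k →ₗ[k] (MvPolynomial (Fin 3) k ⧸ I)) (i : Fin 3)
    (g : MvPolynomial (Fin 3) k) :
    dd I h i g = h (X i * g) - (X i : MvPolynomial (Fin 3) k) • h g := rfl

/-- vanishing of all differences and of `h 1` forces `h = 0` -/
theorem eq_zero_of_dd (h : MvPolynomial (Fin 3) k →ₗ[k] (MvPolynomial (Fin 3) k ⧸ I))
    (h1 : h 1 = 0) (hd : ∀ i g, dd I h i g = 0) : h = 0 := by
  apply LinearMap.ext
  intro g
  rw [LinearMap.zero_apply]
  induction g using MvPolynomial.induction_on with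
  | C a =>
    have : (C a : MvPolynomial (Fin 3) k) = a • 1 := by rw [smul_eq_C_mul, mul_one]
    rw [this, map_smul, h1, smul_zero]
  | add p q hp hq => rw [map_add, hp, hq, add_zero]
  | mul_X p i hp =>
    have := hd i p
    rw [dd_apply, hp, smul_zero, sub_zero, mul_comm] at this
    exact this

variable {D : Type*} [Fintype D] [DecidableEq D] (b : Module.Basis D k (MvPolynomial (Fin 3) k ⧸ I))

/-- a lift of a basis vector -/
noncomputable def lft (a : D) : MvPolynomial (Fin 3) k :=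
  (Ideal.Quotient.mk_surjective (b a)).choose

theorem mk_lft (a : D) : Ideal.Quotient.mk I (lft I b a) = b a :=
  (Ideal.Quotient.mk_surjective (b a)).choose_spec

/-- the extension of a homomorphism and a matrix -/
noncomputable def hh (ρ : MvPolynomial (Fin 3) k →ₗ[k] ↥I) (φ : Tgt I) (e : Matrix D D k) :
    MvPolynomial (Fin 3) k →ₗ[k] (MvPolynomial (Fin 3) k ⧸ I) :=
  (φ.restrictScalars k).comp ρ + (Matrix.toLin b b e).comp (mkL I)

theorem hh_apply (ρ : MvPolynomial (Fin 3) k →ₗ[k] ↥I) (φ : Tgt I) (e : Matrix D D k)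
    (g : MvPolynomial (Fin 3) k) :
    hh I b ρ φ e g = φ (ρ g) + Matrix.toLin b b e (Ideal.Quotient.mk I g) := rfl

theorem hh_of_mem {ρ : MvPolynomial (Fin 3) k →ₗ[k] ↥I} (hρ : ρ.comp (inc I) = LinearMap.id)
    (φ : Tgt I) (e : Matrix D D k) (f : MvPolynomial (Fin 3) k) (hf : f ∈ I) :
    hh I b ρ φ e f = φ ⟨f, hf⟩ := by
  have h1 : ρ f = ⟨f, hf⟩ := LinearMap.congr_fun hρ ⟨f, hf⟩
  rw [hh_apply, h1, Ideal.Quotient.eq_zero_iff_mem.2 hf, map_zero, add_zero]

theorem dd_hh_of_mem {ρ : MvPolynomial (Fin 3) k →ₗ[k] ↥I} (hρ : ρ.comp (inc I) = LinearMap.id)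
    (φ : Tgt I) (e : Matrix D D k) (i : Fin 3) (f : MvPolynomial (Fin 3) k) (hf : f ∈ I) :
    dd I (hh I b ρ φ e) i f = 0 := by
  rw [dd_apply, hh_of_mem I b hρ φ e _ (I.mul_mem_left _ hf), hh_of_mem I b hρ φ e _ hf,
    ← map_smul, sub_eq_zero]
  rfl

/-- coordinates of the cocycle of `h` -/
noncomputable def uu (h : MvPolynomial (Fin 3) k →ₗ[k] (MvPolynomial (Fin 3) k ⧸ I)) :
    Fin 3 × D × D → k := fun p => b.repr (dd I h p.1 (lft I b p.2.2)) p.2.1

/-- multiplication matrices -/
noncomputable def XX (i : Fin 3) : Matrix D D k := LinearMap.toMatrix b b (mx I i)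

theorem mat_uu (h : MvPolynomial (Fin 3) k →ₗ[k] (MvPolynomial (Fin 3) k ⧸ I)) (i : Fin 3)
    (hd : ∀ f ∈ I, dd I h i f = 0) :
    mat (uu I b h) i = LinearMap.toMatrix b b (desc I (dd I h i) hd) := by
  ext x y
  rw [LinearMap.toMatrix_apply, ← mk_lft I b y, desc_mk]
  rfl

theorem uu_mem (h : MvPolynomial (Fin 3) k →ₗ[k] (MvPolynomial (Fin 3) k ⧸ I))
    (hd : ∀ i, ∀ f ∈ I, dd I h i f = 0) : uu I b h ∈ Zf (XX I b) := by
  intro i j
  rw [mat_uu I b h i (hd i), mat_uu I b h j (hd j), XX, XX, ← LinearMap.toMatrix_mul,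
    ← LinearMap.toMatrix_mul, ← LinearMap.toMatrix_mul, ← LinearMap.toMatrix_mul, ← map_sub,
    ← map_sub]
  congr 1
  apply LinearMap.ext
  intro m
  obtain ⟨g, rfl⟩ := Ideal.Quotient.mk_surjective m
  simp only [LinearMap.sub_apply, Module.End.mul_apply]
  rw [mx_mk, mx_mk, desc_mk, desc_mk, desc_mk, desc_mk]
  show (X i : MvPolynomial (Fin 3) k) • dd I h j g - dd I h j (X i * g) =
    (X j : MvPolynomial (Fin 3) k) • dd I h i g - dd I h i (X j * g)
  simp only [dd_apply, smul_sub]
  rw [smul_smul, smul_smul, mul_comm (X j) (X i), mul_left_comm (X j) (X i) g]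
  abel

/-- the injection -/
noncomputable def Psi (ρ : MvPolynomial (Fin 3) k →ₗ[k] ↥I) (hρ : ρ.comp (inc I) = LinearMap.id) :
    (Tgt I × Matrix D D k) →ₗ[k] (↥(Zf (XX I b)) × (MvPolynomial (Fin 3) k ⧸ I)) where
  toFun p := (⟨uu I b (hh I b ρ p.1 p.2), uu_mem I b _ (fun i => dd_hh_of_mem I b hρ p.1 p.2 i)⟩,
    hh I b ρ p.1 p.2 1)
  map_add' p q := by
    have e1 : hh I b ρ (p + q).1 (p + q).2 = hh I b ρ p.1 p.2 + hh I b ρ q.1 q.2 := by
      apply LinearMap.ext
      intro g
      simp only [hh_apply, Prod.fst_add, Prod.snd_add, LinearMap.add_apply, map_add]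
      abel
    refine Prod.ext (Subtype.ext ?_) ?_
    · ext ⟨i, x, y⟩
      show b.repr (dd I (hh I b ρ (p + q).1 (p + q).2) i (lft I b y)) x =
        b.repr (dd I (hh I b ρ p.1 p.2) i (lft I b y)) x +
          b.repr (dd I (hh I b ρ q.1 q.2) i (lft I b y)) x
      rw [e1, ← Finsupp.add_apply, ← map_add]
      congr 2
      simp only [dd_apply, LinearMap.add_apply, smul_add]
      abel
    · show hh I b ρ (p + q).1 (p + q).2 1 = hh I b ρ p.1 p.2 1 + hh I b ρ q.1 q.2 1
      rw [e1]; rfl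
  map_smul' c p := by
    have e1 : hh I b ρ (c • p).1 (c • p).2 = c • hh I b ρ p.1 p.2 := by
      apply LinearMap.ext
      intro g
      simp only [hh_apply, Prod.smul_fst, Prod.smul_snd, LinearMap.smul_apply, map_smul, smul_add]
    refine Prod.ext (Subtype.ext ?_) ?_
    · ext ⟨i, x, y⟩
      show b.repr (dd I (hh I b ρ (c • p).1 (c • p).2) i (lft I b y)) x =
        c • b.repr (dd I (hh I b ρ p.1 p.2) i (lft I b y)) x
      rw [e1, ← Finsupp.smul_apply, ← map_smul]
      congr 2
      simp only [dd_apply, LinearMap.smul_apply, smul_sub]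
      rw [smul_comm]
    · show hh I b ρ (c • p).1 (c • p).2 1 = c • hh I b ρ p.1 p.2 1
      rw [e1]; rfl

theorem Psi_injective (ρ : MvPolynomial (Fin 3) k →ₗ[k] ↥I) (hρ : ρ.comp (inc I) = LinearMap.id) :
    Function.Injective (Psi I b ρ hρ) := by
  have key : ∀ p, Psi I b ρ hρ p = 0 → p = 0 := by
    rintro ⟨φ, e⟩ h0
    have h1 : uu I b (hh I b ρ φ e) = 0 := congrArg (fun x => x.1.1) h0
    have h2 : hh I b ρ φ e 1 = 0 := congrArg (fun x => x.2) h0
    have h3 : hh I b ρ φ e = 0 := by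
      apply eq_zero_of_dd I _ h2
      intro i g
      have h4 := mat_uu I b (hh I b ρ φ e) i (fun f hf => dd_hh_of_mem I b hρ φ e i f hf)
      rw [h1] at h4
      have h5 : LinearMap.toMatrix b b (desc I (dd I (hh I b ρ φ e) i)
          (fun f hf => dd_hh_of_mem I b hρ φ e i f hf)) = 0 := h4.symm
      rw [EmbeddingLike.map_eq_zero_iff] at h5
      have h6 := LinearMap.congr_fun h5 (Ideal.Quotient.mk I g)
      rwa [desc_mk] at h6
    have hφ : φ = 0 := by
      apply LinearMap.ext
      rintro ⟨f, hf⟩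
      rw [← hh_of_mem I b hρ φ e f hf, h3]; rfl
    have he : Matrix.toLin b b e = 0 := by
      apply LinearMap.ext
      intro m
      obtain ⟨g, rfl⟩ := Ideal.Quotient.mk_surjective m
      have := LinearMap.congr_fun h3 g
      rw [hh_apply, hφ] at this
      simpa using this
    rw [EmbeddingLike.map_eq_zero_iff] at he
    rw [hφ, he]; rfl
  intro p q hpq
  have h1 : Psi I b ρ hρ (p - q) = 0 := by rw [map_sub, hpq, sub_self]
  exact sub_eq_zero.1 (key _ h1)

theorem finrank_Tgt_add_le : Module.Finite k (Tgt I) ∧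
    Module.finrank k (Tgt I) + Fintype.card D * Fintype.card D ≤
      Module.finrank k ↥(Zf (XX I b)) + Fintype.card D := by
  obtain ⟨ρ, hρ⟩ := exists_rho I
  have hM : Module.Finite k (MvPolynomial (Fin 3) k ⧸ I) := Module.Finite.of_basis b
  have h0 : Module.Finite k (↥(Zf (XX I b)) × (MvPolynomial (Fin 3) k ⧸ I)) := Module.Finite.prod
  have hinj := Psi_injective I b ρ hρ
  have h1 : Module.Finite k (Tgt I × Matrix D D k) := Module.Finite.of_injective _ hinj
  have h2 : Module.Finite k (Tgt I) :=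
    Module.Finite.of_surjective (LinearMap.fst k (Tgt I) (Matrix D D k)) LinearMap.fst_surjective
  refine ⟨h2, ?_⟩
  have h3 := LinearMap.finrank_le_finrank_of_injective hinj
  have hf : Module.Free k (Tgt I) := Module.Free.of_divisionRing k (Tgt I)
  have hf2 : Module.Free k (MvPolynomial (Fin 3) k ⧸ I) := Module.Free.of_divisionRing k _
  rw [Module.finrank_prod, Module.finrank_prod, Module.finrank_matrix,
    Module.finrank_eq_card_basis b, Module.finrank_self, mul_one] at h3
  exact h3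

end K777.Semi2
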