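import Groth.Agent.W4c1hilbpn.K777.Semi2
import Groth.Agent.W4c1hilbpn.K777.Dual3
import Mathlib.RingTheory.MvPolynomial.Ideal
import Mathlib.Order.WellFounded

/-! Degeneration of an ideal of finite colength to a monomial ideal:
`dim Hom(I, S/I) ≤ dim Hom(in I, S/in I)`. -/

set_option autoImplicit false
set_option linter.unusedSimpArgs false
set_option linter.unusedSectionVars false

namespace K777.Semi3

open MvPolynomial W4c1hilbpn K777.Basic K777.Semi1 K777.Semi2 K777.Dual1 K777.Dual2 K777.Dual3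
open K777.Model K777.Decomp K777.Colen

variable {k : Type*} [Field k] (I : Ideal (MvPolynomial (Fin 3) k))
variable {Λ : Type*} [AddCommGroup Λ] [LinearOrder Λ] [IsOrderedAddMonoid Λ]
variable (wt : (Fin 3 →₀ ℕ) →+ Λ)

/-- leading exponent -/
def IsLead (f : MvPolynomial (Fin 3) k) (β : Fin 3 →₀ ℕ) : Prop :=
  β ∈ f.support ∧ ∀ β' ∈ f.support, wt β' ≤ wt β

theorem exists_lead {f : MvPolynomial (Fin 3) k} (hf : f ≠ 0) : ∃ β, IsLead wt f β := by
  obtain ⟨β, h1, h2⟩ := Finset.exists_max_image f.support wt (support_nonempty.2 hf)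
  exact ⟨β, h1, h2⟩

theorem isLead_monomial_mul {f : MvPolynomial (Fin 3) k} {β : Fin 3 →₀ ℕ} (h : IsLead wt f β)
    (δ : Fin 3 →₀ ℕ) : IsLead wt (monomial δ 1 * f) (δ + β) := by
  constructor
  · rw [mem_support_iff, coeff_monomial_mul, one_mul]
    exact mem_support_iff.1 h.1
  · intro β' hβ'
    rw [mem_support_iff, coeff_monomial_mul'] at hβ'
    split_ifs at hβ' with h1
    · rw [one_mul] at hβ'
      have h2 := h.2 (β' - δ) (mem_support_iff.2 hβ')
      have h3 : β' = δ + (β' - δ) := (add_tsub_cancel_of_le h1).symm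
      rw [h3, map_add, map_add]
      exact add_le_add_right h2 _
    · exact absurd rfl hβ'

/-- exponents of leading monomials -/
def exJ : Set (Fin 3 →₀ ℕ) := {β | ∃ f ∈ I, IsLead wt f β}

/-- the initial ideal -/
noncomputable def inI : Ideal (MvPolynomial (Fin 3) k) :=
  Ideal.span ((fun β => monomial β (1 : k)) '' exJ I wt)

variable {I wt} in
theorem exJ_up {β γ : Fin 3 →₀ ℕ} (h : β ∈ exJ I wt) (hle : β ≤ γ) : γ ∈ exJ I wt := by
  obtain ⟨f, hf, hl⟩ := h
  refine ⟨monomial (γ - β) 1 * f, I.mul_mem_left _ hf, ?_⟩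
  have := isLead_monomial_mul wt hl (γ - β)
  rwa [tsub_add_cancel_of_le hle] at this

theorem mem_exps_inI (β : Fin 3 →₀ ℕ) : β ∈ exps (inI I wt) ↔ β ∈ exJ I wt := by
  show monomial β (1 : k) ∈ Ideal.span _ ↔ _
  rw [mem_ideal_span_monomial_image]
  classical
  constructor
  · intro h
    obtain ⟨s, hs, hle⟩ := h β (by rw [mem_support_iff, coeff_monomial, if_pos rfl]; exact one_ne_zero)
    exact exJ_up hs hle
  · intro h β' hβ'
    rw [mem_support_iff, coeff_monomial] at hβ'
    by_cases h1 : β = β'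
    · subst h1; exact ⟨β, h, le_rfl⟩
    · rw [if_neg h1] at hβ'; exact absurd rfl hβ'

theorem isMonomial_inI : IsMonomial (inI I wt) := by
  intro p hp β hβ
  show β ∈ exps (inI I wt)
  rw [mem_exps_inI]
  rw [inI, mem_ideal_span_monomial_image] at hp
  obtain ⟨s, hs, hle⟩ := hp β hβ
  exact exJ_up hs hle

/-- the standard monomials -/
noncomputable def vB (β : Dx (inI I wt)) : MvPolynomial (Fin 3) k ⧸ I :=
  Ideal.Quotient.mk I (monomial β.1 1)

theorem linInd : LinearIndependent k (vB I wt) := by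
  classical
  rw [linearIndependent_iff']
  intro s g hg
  by_contra hcon
  push Not at hcon
  obtain ⟨γ, hγ, hne⟩ := hcon
  set f : MvPolynomial (Fin 3) k := ∑ β ∈ s, monomial β.1 (g β) with hf
  have hcoef : ∀ β ∈ s, coeff β.1 f = g β := by
    intro β hβ
    rw [hf, coeff_sum, Finset.sum_eq_single β]
    · rw [coeff_monomial, if_pos rfl]
    · intro β' _ hne'
      rw [coeff_monomial, if_neg]
      exact fun h => hne' (Subtype.ext h)
    · exact fun h => absurd hβ h
  have hsupp : ∀ δ ∈ f.support, ∃ β ∈ s, β.1 = δ := by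
    intro δ hδ
    rw [mem_support_iff, hf, coeff_sum] at hδ
    obtain ⟨β, hβ, hne'⟩ := Finset.exists_ne_zero_of_sum_ne_zero hδ
    rw [coeff_monomial] at hne'
    by_cases h : β.1 = δ
    · exact ⟨β, hβ, h⟩
    · rw [if_neg h] at hne'; exact absurd rfl hne'
  have hfI : f ∈ I := by
    rw [← Ideal.Quotient.eq_zero_iff_mem, hf, map_sum, ← hg]
    refine Finset.sum_congr rfl fun β _ => ?_
    have h1 : monomial β.1 (g β) = g β • monomial β.1 (1 : k) := by
      rw [smul_monomial, smul_eq_mul, mul_one]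
    rw [h1]; rfl
  have hf0 : f ≠ 0 := by
    intro h
    have := hcoef γ hγ
    rw [h, coeff_zero] at this
    exact hne this.symm
  obtain ⟨δ, hδ⟩ := exists_lead wt hf0
  obtain ⟨β, _, hβ⟩ := hsupp δ hδ.1
  apply β.2
  rw [mem_exps_inI, hβ]
  exact ⟨f, hfI, hδ⟩

variable (hwf : WellFounded fun β β' : Fin 3 →₀ ℕ => wt β < wt β') (hinj : Function.Injective wt)

include hwf hinj in
theorem mk_monomial_induction (P : (MvPolynomial (Fin 3) k ⧸ I) → Λ → Prop)
    (hstd : ∀ β : Dx (inI I wt), P (vB I wt β) (wt β.1))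
    (hred : ∀ (β : Fin 3 →₀ ℕ) (s : Finset (Fin 3 →₀ ℕ)) (c : (Fin 3 →₀ ℕ) → k),
      β ∈ exps (inI I wt) →
      (∀ β' ∈ s, wt β' < wt β ∧ P (Ideal.Quotient.mk I (monomial β' 1)) (wt β')) →
      Ideal.Quotient.mk I (monomial β 1) = ∑ β' ∈ s, c β' • Ideal.Quotient.mk I (monomial β' 1) →
      P (Ideal.Quotient.mk I (monomial β 1)) (wt β)) (β : Fin 3 →₀ ℕ) :
    P (Ideal.Quotient.mk I (monomial β 1)) (wt β) := by
  classical
  induction β using hwf.induction with
  | _ β ih =>
    by_cases hβ : β ∈ exps (inI I wt)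
    · obtain ⟨f, hf, hl1, hl2⟩ := (mem_exps_inI I wt β).1 hβ
      have hc := mem_support_iff.1 hl1
      refine hred β (f.support.erase β) (fun β' => -(coeff β f)⁻¹ * coeff β' f) hβ ?_ ?_
      · intro β' hβ'
        have hlt : wt β' < wt β := by
          refine lt_of_le_of_ne (hl2 β' (Finset.mem_of_mem_erase hβ')) fun h => ?_
          exact Finset.ne_of_mem_erase hβ' (hinj h)
        exact ⟨hlt, ih β' hlt⟩
      · have h1 : Ideal.Quotient.mk I f = 0 := Ideal.Quotient.eq_zero_iff_mem.2 hf
        have h2 : Ideal.Quotient.mk I f = ∑ β' ∈ f.support, coeff β' f • Ideal.Quotient.mk I (monomial β' 1) := by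
          conv_lhs => rw [f.as_sum]
          rw [map_sum]
          refine Finset.sum_congr rfl fun β' _ => ?_
          have h1 : monomial β' (coeff β' f) = coeff β' f • monomial β' (1 : k) := by
            rw [smul_monomial, smul_eq_mul, mul_one]
          rw [h1]; rfl
        rw [h1, ← Finset.add_sum_erase _ _ hl1] at h2
        have h3 : coeff β f • Ideal.Quotient.mk I (monomial β 1) =
            - ∑ β' ∈ f.support.erase β, coeff β' f • Ideal.Quotient.mk I (monomial β' 1) :=
          eq_neg_of_add_eq_zero_left h2.symm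
        have h4 : Ideal.Quotient.mk I (monomial β 1) =
            (coeff β f)⁻¹ • (coeff β f • Ideal.Quotient.mk I (monomial β (1 : k))) := by
          rw [smul_smul, inv_mul_cancel₀ hc, one_smul]
        rw [h4, h3, smul_neg, Finset.smul_sum, ← Finset.sum_neg_distrib]
        refine Finset.sum_congr rfl fun β' _ => ?_
        rw [smul_smul, neg_mul, neg_smul]
    · exact hstd ⟨β, hβ⟩

include hwf hinj in
theorem span_vB : ⊤ ≤ Submodule.span k (Set.range (vB I wt)) := by
  rintro m -
  obtain ⟨f, rfl⟩ := Ideal.Quotient.mk_surjective m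
  rw [f.as_sum, map_sum]
  refine Submodule.sum_mem _ fun β _ => ?_
  have h1 : monomial β (coeff β f) = coeff β f • monomial β (1 : k) := by
    rw [smul_monomial, smul_eq_mul, mul_one]
  rw [h1]
  show coeff β f • Ideal.Quotient.mk I (monomial β 1) ∈ Submodule.span k (Set.range (vB I wt))
  refine Submodule.smul_mem (Submodule.span k (Set.range (vB I wt))) (coeff β f) ?_
  refine mk_monomial_induction I wt hwf hinj
    (fun m _ => m ∈ Submodule.span k (Set.range (vB I wt))) ?_ ?_ β
  · intro β; exact Submodule.subset_span ⟨β, rfl⟩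
  · intro β s c _ hs he
    show Ideal.Quotient.mk I (monomial β 1) ∈ Submodule.span k (Set.range (vB I wt))
    rw [he]
    exact Submodule.sum_mem (Submodule.span k (Set.range (vB I wt)))
      fun β' hβ' => Submodule.smul_mem _ _ (hs β' hβ').2

/-- the basis of standard monomials -/
noncomputable def bB : Module.Basis (Dx (inI I wt)) k (MvPolynomial (Fin 3) k ⧸ I) :=
  Module.Basis.mk (linInd I wt) (span_vB I wt hwf hinj)

theorem bB_apply (β : Dx (inI I wt)) : bB I wt hwf hinj β = Ideal.Quotient.mk I (monomial β.1 1) := by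
  rw [bB, Module.Basis.mk_apply]; rfl

theorem repr_le (β : Fin 3 →₀ ℕ) : ∀ γ : Dx (inI I wt),
    (bB I wt hwf hinj).repr (Ideal.Quotient.mk I (monomial β 1)) γ ≠ 0 → wt γ.1 ≤ wt β := by
  refine mk_monomial_induction I wt hwf hinj
    (fun m t => ∀ γ : Dx (inI I wt), (bB I wt hwf hinj).repr m γ ≠ 0 → wt γ.1 ≤ t) ?_ ?_ β
  · intro β γ hne
    have h1 : vB I wt β = bB I wt hwf hinj β := (bB_apply I wt hwf hinj β).symm
    rw [h1, Module.Basis.repr_self] at hne
    by_cases h : β = γ
    · rw [h]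
    · rw [Finsupp.single_apply, if_neg h] at hne
      exact absurd rfl hne
  · intro β s c _ hs he γ hne
    rw [he, map_sum, Finsupp.finsetSum_apply] at hne
    obtain ⟨β', hβ', hne'⟩ := Finset.exists_ne_zero_of_sum_ne_zero hne
    rw [map_smul, Finsupp.smul_apply] at hne'
    have h1 := (hs β' hβ').2 γ (right_ne_zero_of_smul hne')
    exact h1.trans (hs β' hβ').1.le

include hwf hinj in
theorem finite_Dx [Module.Finite k (MvPolynomial (Fin 3) k ⧸ I)] : Finite (Dx (inI I wt)) :=
  Module.Finite.finite_basis (bB I wt hwf hinj)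

theorem XX_apply [Fintype (Dx (inI I wt))] [DecidableEq (Dx (inI I wt))] (i : Fin 3)
    (γ' γ : Dx (inI I wt)) : XX I (bB I wt hwf hinj) i γ' γ =
      (bB I wt hwf hinj).repr (Ideal.Quotient.mk I (monomial (γ.1 + Finsupp.single i 1) 1)) γ' := by
  rw [XX, LinearMap.toMatrix_apply, bB_apply, mx_mk, X, monomial_mul, one_mul, add_comm]

theorem finrank_Zf_XX_le [Fintype (Dx (inI I wt))] [DecidableEq (Dx (inI I wt))] :
    Module.finrank k ↥(Zf (XX I (bB I wt hwf hinj))) ≤
      Module.finrank k ↥(Zf (fun i => Xm (k := k) (inI I wt) i)) := by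
  classical
  refine finrank_Zf_le _ _ (fun γ : Dx (inI I wt) => wt γ.1) (fun i => wt (Finsupp.single i 1)) ?_ ?_
  · intro i a b h
    rw [XX_apply] at h
    have := repr_le I wt hwf hinj _ a h
    rwa [map_add] at this
  · intro i a b
    have h0 : (wt a.1 = wt b.1 + wt (Finsupp.single i 1)) ↔ (a.1 = b.1 + Finsupp.single i 1) := by
      rw [← map_add]
      exact hinj.eq_iff
    simp only [h0, Xm]
    split_ifs with h
    · rw [XX_apply, ← h, ← bB_apply I wt hwf hinj a, Module.Basis.repr_self, Finsupp.single_eq_same]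
    · rfl

theorem finrank_Zf_Xm_le {J : Ideal (MvPolynomial (Fin 3) k)} (hJ : IsMonomial J)
    [Fintype (Dx J)] [DecidableEq (Dx J)] :
    Module.finrank k ↥(Zf (fun i => Xm (k := k) J i)) + Fintype.card (Dx J) ≤
      Module.finrank k (Tgt J) + Fintype.card (Dx J) * Fintype.card (Dx J) := by
  set w : (Fin 3 → ℤ) →+ ℤ := 0 with hw
  have hW : ∀ β, W w β = 0 := fun β => rfl
  have h1 := finrank_PM w hJ 0
  have hH : Hg w J 0 = ⊤ := by
    rw [eq_top_iff]
    intro φ _
    rw [mem_Hg_iff w hJ]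
    intro β γ _
    rfl
  have hE : E (k := k) (wD J w) 0 = ⊤ := by
    rw [eq_top_iff]
    intro P _ a b _
    rfl
  have hc : Nat.card {γ : Dx J // W w γ.1 = 0} = Fintype.card (Dx J) := by
    rw [← Nat.card_eq_fintype_card]
    exact Nat.card_congr (Equiv.subtypeUnivEquiv fun γ => hW γ.1)
  rw [hH, hE, finrank_top, finrank_top, hc, Module.finrank_matrix, Module.finrank_self,
    mul_one] at h1
  rw [h1]
  have h2 : Module.finrank k ↥(Zf (fun i => Xm (k := k) J i)) ≤
      Module.finrank k ↥(Z1 (k := k) (wD J w) (Xm J 0) (Xm J 1) (Xm J 2) (om w 0) (om w 1)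
        (om w 2) 0) := by
    have hm : ∀ (u : Fin 3 × Dx J × Dx J → k) (i : Fin 3), mat u i ∈ E (wD J w) (0 + om w i) := by
      intro u i a b _
      rfl
    let L : ↥(Zf (fun i => Xm (k := k) J i)) →ₗ[k] ↥(Z1 (k := k) (wD J w) (Xm J 0) (Xm J 1) (Xm J 2)
        (om w 0) (om w 1) (om w 2) 0) :=
      { toFun := fun u => ⟨(⟨mat u.1 0, hm u.1 0⟩, ⟨mat u.1 1, hm u.1 1⟩, ⟨mat u.1 2, hm u.1 2⟩),
          ⟨u.2 0 1, u.2 0 2, u.2 1 2⟩⟩
        map_add' := fun u v => rfl
        map_smul' := fun c u => rfl }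
    have hL : Function.Injective L := by
      rintro ⟨u, hu⟩ ⟨v, hv⟩ h
      have e0 : mat u 0 = mat v 0 := congrArg (fun x => x.1.1.1) h
      have e1 : mat u 1 = mat v 1 := congrArg (fun x => x.1.2.1.1) h
      have e2 : mat u 2 = mat v 2 := congrArg (fun x => x.1.2.2.1) h
      apply Subtype.ext
      ext ⟨i, a, b⟩
      fin_cases i
      · exact congrFun (congrFun e0 a) b
      · exact congrFun (congrFun e1 a) b
      · exact congrFun (congrFun e2 a) b
    exact LinearMap.finrank_le_finrank_of_injective hL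
  omega

include hwf hinj in
/-- semicontinuity of the dimension of the tangent space under degeneration to the initial ideal -/
theorem finrank_Tgt_le_inI [Module.Finite k (MvPolynomial (Fin 3) k ⧸ I)] :
    Module.finrank k (Tgt I) ≤ Module.finrank k (Tgt (inI I wt)) := by
  classical
  have := finite_Dx I wt hwf hinj
  have := Fintype.ofFinite (Dx (inI I wt))
  have h1 := (finrank_Tgt_add_le I (bB I wt hwf hinj)).2
  have h2 := finrank_Zf_XX_le I wt hwf hinj
  have h3 := finrank_Zf_Xm_le (isMonomial_inI I wt)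
  omega

include hwf hinj in
theorem finrank_quot_inI [Module.Finite k (MvPolynomial (Fin 3) k ⧸ I)] :
    Module.finrank k (MvPolynomial (Fin 3) k ⧸ inI I wt) =
      Module.finrank k (MvPolynomial (Fin 3) k ⧸ I) := by
  rw [finrank_quot (isMonomial_inI I wt), Module.finrank_eq_nat_card_basis (bB I wt hwf hinj)]

include hwf hinj in
theorem finite_quot_inI [Module.Finite k (MvPolynomial (Fin 3) k ⧸ I)] :
    (DD (inI I wt)).Finite := by
  have := finite_Dx I wt hwf hinj
  have h2 : Finite ↥(DD (inI I wt)) := (complEquiv _).finite_iff.1 this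
  exact Set.toFinite _

end K777.Semi3
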