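import Mathlib.RingTheory.Spectrum.Prime.FreeLocus
import Mathlib.RingTheory.Support
import Mathlib.RingTheory.Nakayama
import Mathlib.RingTheory.LocalRing.Module
import Mathlib.LinearAlgebra.TensorProduct.RightExactness
import Mathlib.RingTheory.TensorProduct.IsBaseChangeHom
import Mathlib.LinearAlgebra.Matrix.NonsingularInverse
import Mathlib.Tactic.LinearCombination

/-! Ideals representing the locus where a module becomes locally free of a given rank. -/

set_option autoImplicit false
set_option linter.unusedSimpArgs false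
set_option linter.unusedSectionVars false
set_option linter.unusedVariables false

universe u

namespace K777.Strat

open TensorProduct

variable (A : Type u) [CommRing A] (N : Type u) [AddCommGroup N] [Module A N] (r : ℕ)

/-- the map given by `r` elements -/
noncomputable def mp {A : Type u} [CommRing A] {N : Type u} [AddCommGroup N] [Module A N] {r : ℕ}
    (x : Fin r → N) : (Fin r → A) →ₗ[A] N := Fintype.linearCombination A x

/-- the ideal of vanishing of relations -/
def aI : Ideal A :=
  Ideal.span {z | ∃ (x : Fin r → N) (g : A) (c : Fin r → A) (i : Fin r),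
    (∀ n : N, g • n ∈ LinearMap.range (mp (A := A) x)) ∧ mp x c = 0 ∧ z = g ^ r * c i}

/-- the ideal of the locus where `r` elements generate -/
def bI : Ideal A :=
  Ideal.span {g | ∃ (x : Fin r → N), ∀ n : N, g • n ∈ LinearMap.range (mp (A := A) x)}

variable {A N r}

/-- elements generating a free module of rank `r` up to `g` have no relations up to `g ^ r` -/
theorem det_lemma {L : Type u} [CommRing L] {F : Type u} [AddCommGroup F] [Module L F]
    (e : Module.Basis (Fin r) L F) (x : Fin r → F) (g : L)
    (h : ∀ n : F, g • n ∈ LinearMap.range (mp (A := L) x)) {c : Fin r → L} (hc : mp x c = 0) (i : Fin r) :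
    g ^ r * c i = 0 := by
  classical
  choose m hm using fun j => h (e j)
  let X : Matrix (Fin r) (Fin r) L := fun j k => e.repr (x j) k
  let M : Matrix (Fin r) (Fin r) L := fun j k => m j k
  have hx : ∀ j, x j = ∑ k, X j k • e k := fun j => (e.sum_repr (x j)).symm
  have h1 : M * X = g • (1 : Matrix (Fin r) (Fin r) L) := by
    ext j k
    have h2 : mp x (m j) = g • e j := hm j
    have h3 : mp x (m j) = ∑ l, m j l • x l := rfl
    rw [h3] at h2
    have h4 := congrArg (fun z => e.repr z k) h2
    simp only [map_sum, map_smul, Finsupp.coe_finsetSum, Finset.sum_apply, Finsupp.smul_apply,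
      smul_eq_mul, Module.Basis.repr_self] at h4
    rw [Matrix.mul_apply, Matrix.smul_apply, smul_eq_mul, Matrix.one_apply]
    rw [Finsupp.single_apply] at h4
    exact h4
  have h2 : M.det * X.det = g ^ r := by
    rw [← Matrix.det_mul, h1, Matrix.det_smul, Fintype.card_fin, Matrix.det_one, mul_one]
  -- the relation
  have h3 : Matrix.vecMul c X = 0 := by
    ext k
    have h4 : mp x c = ∑ l, c l • x l := rfl
    rw [h4] at hc
    have h5 := congrArg (fun z => e.repr z k) hc
    simp only [map_sum, map_smul, Finsupp.coe_finsetSum, Finset.sum_apply, Finsupp.smul_apply,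
      smul_eq_mul, map_zero, Finsupp.coe_zero, Pi.zero_apply] at h5
    exact h5
  have h4 : X.det • c = 0 := by
    have h5 : Matrix.vecMul (Matrix.vecMul c X) X.adjugate = 0 := by rw [h3, Matrix.zero_vecMul]
    rw [Matrix.vecMul_vecMul, Matrix.mul_adjugate, Matrix.vecMul_smul, Matrix.vecMul_one] at h5
    exact h5
  have h5 : X.det * c i = 0 := congrFun h4 i
  rw [← h2, mul_assoc, h5, mul_zero]

section bc
variable (L : Type u) [CommRing L] [Algebra A L]

/-- images of `r` elements -/
def xt (x : Fin r → N) : Fin r → L ⊗[A] N := fun j => 1 ⊗ₜ x j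

theorem mp_xt (x : Fin r → N) (c : Fin r → A) :
    mp (xt L x) (fun j => algebraMap A L (c j)) = (1 : L) ⊗ₜ[A] (mp x c) := by
  show ∑ j, algebraMap A L (c j) • ((1 : L) ⊗ₜ[A] x j) = 1 ⊗ₜ (∑ j, c j • x j)
  rw [TensorProduct.tmul_sum]
  refine Finset.sum_congr rfl fun j _ => ?_
  rw [TensorProduct.smul_tmul', smul_eq_mul, mul_one, Algebra.algebraMap_eq_smul_one,
    TensorProduct.smul_tmul]

theorem range_xt (x : Fin r → N) (g : A) (h : ∀ n : N, g • n ∈ LinearMap.range (mp (A := A) x))
    (z : L ⊗[A] N) : algebraMap A L g • z ∈ LinearMap.range (mp (A := L) (xt L x)) := by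
  induction z using TensorProduct.induction_on with
  | zero => rw [smul_zero]; exact Submodule.zero_mem _
  | tmul l n =>
    obtain ⟨c, hc⟩ := h n
    refine ⟨l • fun j => algebraMap A L (c j), ?_⟩
    rw [map_smul, mp_xt, hc, TensorProduct.smul_tmul', TensorProduct.smul_tmul', smul_eq_mul,
      smul_eq_mul, mul_one, TensorProduct.tmul_smul, ← algebraMap_smul L g (l ⊗ₜ[A] n),
      TensorProduct.smul_tmul', smul_eq_mul]
  | add z w hz hw => rw [smul_add]; exact Submodule.add_mem _ hz hw

end bc

/-- if `L ⊗ N` is free of rank `r` then the first ideal dies in `L` -/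
theorem map_aI_of_free (L : Type u) [CommRing L] [Algebra A L] (e : Module.Basis (Fin r) L (L ⊗[A] N)) :
    aI A N r ≤ RingHom.ker (algebraMap A L) := by
  rw [aI, Ideal.span_le]
  rintro z ⟨x, g, c, i, h1, h2, rfl⟩
  rw [SetLike.mem_coe, RingHom.mem_ker, map_mul, map_pow]
  refine det_lemma e (xt L x) (algebraMap A L g) (range_xt L x g h1)
    (c := fun j => algebraMap A L (c j)) ?_ i
  rw [mp_xt, h2, TensorProduct.tmul_zero]


theorem bI_not_le [Module.Finite A N] (p : PrimeSpectrum A)
    (h : Module.finrank p.asIdeal.ResidueField (p.asIdeal.ResidueField ⊗[A] N) = r) :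
    ¬ bI A N r ≤ p.asIdeal := by
  classical
  set κ := p.asIdeal.ResidueField with hκ
  -- choose a basis among the pure tensors
  obtain ⟨b, hb1, hb2, hb3⟩ := exists_linearIndependent κ (Set.range fun n : N => (1 : κ) ⊗ₜ[A] n)
  have hspan : Submodule.span κ (Set.range fun n : N => (1 : κ) ⊗ₜ[A] n) = ⊤ := by
    rw [eq_top_iff]
    rintro z -
    induction z using TensorProduct.induction_on with
    | zero => exact Submodule.zero_mem _
    | tmul l n =>
      have : l ⊗ₜ[A] n = l • ((1 : κ) ⊗ₜ[A] n) := by rw [TensorProduct.smul_tmul', smul_eq_mul, mul_one]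
      rw [this]
      exact Submodule.smul_mem _ _ (Submodule.subset_span ⟨n, rfl⟩)
    | add z w hz hw => exact Submodule.add_mem _ hz hw
  rw [hspan] at hb2
  let B : Module.Basis b κ (κ ⊗[A] N) := Module.Basis.mk hb3 (by rw [Subtype.range_coe, hb2])
  have hfinb : Finite b := Module.Finite.finite_basis B
  have := Fintype.ofFinite b
  have hcard : Fintype.card b = r := by rw [← Module.finrank_eq_card_basis B, h]
  let eb : Fin r ≃ b := (Fintype.equivFinOfCardEq hcard).symm
  choose x hx using fun j : Fin r => hb1 (eb j).2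
  have hxspan : Submodule.span κ (Set.range fun j => (1 : κ) ⊗ₜ[A] x j) = ⊤ := by
    rw [← hb2]
    congr 1
    ext z
    constructor
    · rintro ⟨j, rfl⟩
      simp only at hx ⊢
      rw [hx j]
      exact (eb j).2
    · intro hz
      exact ⟨eb.symm ⟨z, hz⟩, by simp only at hx ⊢; rw [hx]; simp⟩
  -- the cokernel vanishes at `p`
  set Q := N ⧸ LinearMap.range (mp (A := A) x) with hQ
  have hns : p ∉ Module.support A Q := by
    rw [Module.mem_support_iff_nontrivial_residueField_tensorProduct, not_nontrivial_iff_subsingleton]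
    refine ⟨fun z w => ?_⟩
    have key : ∀ z : κ ⊗[A] Q, z = 0 := by
      intro z
      have hsurj : Function.Surjective ((LinearMap.range (mp (A := A) x)).mkQ.baseChange κ) :=
        LinearMap.lTensor_surjective κ (Submodule.mkQ_surjective _)
      obtain ⟨y, rfl⟩ := hsurj z
      have hy : y ∈ Submodule.span κ (Set.range fun j => (1 : κ) ⊗ₜ[A] x j) := by
        rw [hxspan]; trivial
      induction hy using Submodule.span_induction with
      | mem y hy =>
        obtain ⟨j, rfl⟩ := hy
        rw [LinearMap.baseChange_tmul]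
        have : (LinearMap.range (mp (A := A) x)).mkQ (x j) = 0 := by
          rw [Submodule.mkQ_apply, Submodule.Quotient.mk_eq_zero]
          refine ⟨Pi.single j 1, ?_⟩
          show ∑ l, (Pi.single j 1 : Fin r → A) l • x l = x j
          rw [Finset.sum_eq_single j]
          · simp
          · intro l _ hl; simp [Pi.single_apply, hl]
          · simp
        rw [this, TensorProduct.tmul_zero]
      | zero => rw [map_zero]
      | add y y' _ _ hy hy' => rw [map_add, hy, hy', add_zero]
      | smul c y _ hy => rw [map_smul, hy, smul_zero]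
    rw [key z, key w]
  rw [Module.mem_support_iff_of_finite] at hns
  intro hle
  apply hns
  intro g hg
  apply hle
  apply Ideal.subset_span
  refine ⟨x, fun n => ?_⟩
  rw [Module.mem_annihilator] at hg
  have := hg (Submodule.Quotient.mk n)
  rw [← Submodule.Quotient.mk_smul, Submodule.Quotient.mk_eq_zero] at this
  exact this

/-- the converse: the vanishing of the first ideal and a unit in the second give a basis -/
theorem exists_basis (L : Type u) [CommRing L] [Algebra A L] (h : aI A N r ≤ RingHom.ker (algebraMap A L))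
    (x : Fin r → N) (g : A) (hg : ∀ n : N, g • n ∈ LinearMap.range (mp (A := A) x))
    (hu : IsUnit (algebraMap A L g)) : Nonempty (Module.Basis (Fin r) L (L ⊗[A] N)) := by
  classical
  obtain ⟨gi, hgi⟩ := hu.exists_left_inv
  let φ : (Fin r → A) →ₗ[A] (Fin r → L) := LinearMap.pi fun j => (Algebra.linearMap A L) ∘ₗ LinearMap.proj j
  have hφ : LinearMap.ker (mp (A := A) x) ≤ LinearMap.ker φ := by
    intro c hc
    rw [LinearMap.mem_ker] at hc ⊢
    ext i
    show algebraMap A L (c i) = 0
    have h1 : g ^ r * c i ∈ aI A N r := Ideal.subset_span ⟨x, g, c, i, hg, hc, rfl⟩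
    have h2 := h h1
    rw [RingHom.mem_ker, map_mul, map_pow] at h2
    have h3 : gi ^ r * (algebraMap A L g ^ r * algebraMap A L (c i)) = 0 := by rw [h2, mul_zero]
    rwa [← mul_assoc, ← mul_pow, hgi, one_pow, one_mul] at h3
  let w : ↥(LinearMap.range (mp (A := A) x)) →ₗ[A] (Fin r → L) :=
    ((LinearMap.ker (mp (A := A) x)).liftQ φ hφ) ∘ₗ (LinearMap.quotKerEquivRange (mp (A := A) x)).symm.toLinearMap
  have hw : ∀ c : Fin r → A, w ⟨mp x c, ⟨c, rfl⟩⟩ = φ c := by
    intro c
    show (LinearMap.ker (mp (A := A) x)).liftQ φ hφ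
      ((LinearMap.quotKerEquivRange (mp (A := A) x)).symm ⟨mp x c, ⟨c, rfl⟩⟩) = φ c
    have : (⟨mp x c, ⟨c, rfl⟩⟩ : ↥(LinearMap.range (mp (A := A) x))) =
        LinearMap.quotKerEquivRange (mp (A := A) x) (Submodule.Quotient.mk c) := rfl
    rw [this, LinearEquiv.symm_apply_apply]
    rfl
  let gN : N →ₗ[A] ↥(LinearMap.range (mp (A := A) x)) :=
    (LinearMap.lsmul A N g).codRestrict _ hg
  let u : N →ₗ[A] (Fin r → L) := gi • (w ∘ₗ gN)
  let ut : L ⊗[A] N →ₗ[L] (Fin r → L) := u.liftBaseChange L
  let v : (Fin r → L) →ₗ[L] L ⊗[A] N := mp (xt L x)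
  have hmps : ∀ j, mp (A := A) x (Pi.single j 1) = x j := by
    intro j
    show ∑ l, (Pi.single j 1 : Fin r → A) l • x l = x j
    rw [Finset.sum_eq_single j]
    · simp
    · intro l _ hl; simp [Pi.single_apply, hl]
    · simp
  have huv : ∀ c, ut (v c) = c := by
    intro c
    have h1 : ut ∘ₗ v = LinearMap.id := by
      apply LinearMap.pi_ext'
      intro j
      apply LinearMap.ext_ring
      show ut (v (Pi.single j 1)) = Pi.single j 1
      have h2 : v (Pi.single j 1) = (1 : L) ⊗ₜ[A] x j := by
        show ∑ l, (Pi.single j 1 : Fin r → L) l • (xt L x l) = _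
        rw [Finset.sum_eq_single j]
        · simp [xt]
        · intro l _ hl; simp [Pi.single_apply, hl]
        · simp
      rw [h2]
      show (u.liftBaseChange L) (1 ⊗ₜ x j) = _
      rw [LinearMap.liftBaseChange_tmul, one_smul]
      show gi • w (gN (x j)) = _
      have h3 : gN (x j) = ⟨mp x (g • Pi.single j 1), ⟨_, rfl⟩⟩ := by
        apply Subtype.ext
        show g • x j = mp x (g • Pi.single j 1)
        rw [map_smul, hmps]
      rw [h3, hw, map_smul]
      ext i
      show gi • (g • algebraMap A L ((Pi.single j 1 : Fin r → A) i)) = _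
      rw [Algebra.smul_def g, smul_eq_mul, ← mul_assoc, hgi, one_mul]
      by_cases hij : i = j
      · subst hij; simp
      · simp [Pi.single_apply, hij]
    exact LinearMap.congr_fun h1 c
  have hinj : Function.Injective v := fun c d hcd => by rw [← huv c, hcd, huv]
  have hsurj : Function.Surjective v := by
    intro z
    obtain ⟨c, hc⟩ := range_xt L x g hg z
    refine ⟨gi • c, ?_⟩
    rw [map_smul]
    show gi • (mp (xt L x) c) = z
    rw [hc, smul_smul, hgi, one_smul]
  exact ⟨Module.Basis.ofEquivFun (LinearEquiv.ofBijective v ⟨hinj, hsurj⟩).symm⟩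

end K777.Strat
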