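import Groth.Agent.W4c1hilbpn.K777.Strat1

/-! The single-module theorem. -/

set_option autoImplicit false
set_option linter.unusedSimpArgs false
set_option linter.unusedSectionVars false
set_option linter.unusedVariables false

universe u

namespace K777.Strat

open TensorProduct

variable {A : Type u} [CommRing A] {N : Type u} [AddCommGroup N] [Module A N] {r : ℕ}
variable {B : Type u} [CommRing B] [Algebra A B]

/-- a basis of the stalk -/
theorem basis_stalk [Module.Finite B (B ⊗[A] N)] [Module.Projective B (B ⊗[A] N)]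
    (P : PrimeSpectrum B) (h : Module.rankAtStalk (B ⊗[A] N) P = r) :
    Nonempty (Module.Basis (Fin r) (Localization.AtPrime P.asIdeal) (Localization.AtPrime P.asIdeal ⊗[A] N)) := by
  set L := Localization.AtPrime P.asIdeal with hL
  have hfree : Module.Free L (L ⊗[B] (B ⊗[A] N)) := Module.free_of_flat_of_isLocalRing
  have hrk : Module.finrank L (L ⊗[B] (B ⊗[A] N)) = r := by
    rw [← Module.rankAtStalk_eq_finrank_tensorProduct, h]
  have b := Module.finBasisOfFinrankEq L (L ⊗[B] (B ⊗[A] N)) hrk
  exact ⟨b.map (AlgebraTensorModule.cancelBaseChange A B L L N)⟩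

theorem map_aI_eq_bot
    (hf : Module.Finite B (B ⊗[A] N)) (hp : Module.Projective B (B ⊗[A] N))
    (h : ∀ p : PrimeSpectrum B, Module.rankAtStalk (B ⊗[A] N) p = r) :
    Ideal.map (algebraMap A B) (aI A N r) = ⊥ := by
  rw [eq_bot_iff, Ideal.map_le_iff_le_comap]
  intro z hz
  rw [Ideal.mem_comap, Ideal.mem_bot]
  apply eq_zero_of_localization
  intro J hJ
  obtain ⟨e⟩ := basis_stalk (A := A) (N := N) (B := B) ⟨J, hJ.isPrime⟩ (h _)
  have := map_aI_of_free _ e hz
  rw [RingHom.mem_ker] at this
  rw [← IsScalarTower.algebraMap_apply]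
  exact this

theorem finrank_fiber
    (hf : Module.Finite B (B ⊗[A] N)) (hp : Module.Projective B (B ⊗[A] N))
    (P : PrimeSpectrum B) (p : PrimeSpectrum A) (hpP : PrimeSpectrum.comap (algebraMap A B) P = p)
    (h : Module.rankAtStalk (B ⊗[A] N) P = r) :
    Module.finrank p.asIdeal.ResidueField (p.asIdeal.ResidueField ⊗[A] N) = r := by
  subst hpP
  set p := PrimeSpectrum.comap (algebraMap A B) P with hp
  set κ := P.asIdeal.ResidueField
  set k := p.asIdeal.ResidueField
  have h1 : Module.finrank κ (κ ⊗[B] (B ⊗[A] N)) = r := by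
    rw [← h, Module.rankAtStalk_eq]
  have h2 : Module.finrank κ (κ ⊗[A] N) = r := by
    rw [← h1, (AlgebraTensorModule.cancelBaseChange A B κ κ N).finrank_eq]
  let _ : Algebra k κ := (Ideal.ResidueField.map p.asIdeal P.asIdeal (algebraMap A B) rfl).toAlgebra
  have : IsScalarTower A k κ := by
    refine IsScalarTower.of_algebraMap_eq fun x => ?_
    rw [RingHom.algebraMap_toAlgebra, Ideal.ResidueField.map_algebraMap,
      ← IsScalarTower.algebraMap_apply]
  have h3 : Module.finrank κ (κ ⊗[k] (k ⊗[A] N)) = r := by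
    rw [← h2, (AlgebraTensorModule.cancelBaseChange A k κ κ N).finrank_eq]
  rw [Module.finrank_baseChange] at h3
  exact h3

theorem bI_not_le' [Module.Finite A N]
    (hf : Module.Finite B (B ⊗[A] N)) (hp : Module.Projective B (B ⊗[A] N))
    (P : PrimeSpectrum B)
    (h : Module.rankAtStalk (B ⊗[A] N) P = r) :
    ¬ bI A N r ≤ (PrimeSpectrum.comap (algebraMap A B) P).asIdeal :=
  bI_not_le _ (finrank_fiber hf hp P _ rfl h)

theorem map_bI_eq_top [Module.Finite A N]
    (hf : Module.Finite B (B ⊗[A] N)) (hp : Module.Projective B (B ⊗[A] N))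
    (h : ∀ p : PrimeSpectrum B, Module.rankAtStalk (B ⊗[A] N) p = r) :
    Ideal.map (algebraMap A B) (bI A N r) = ⊤ := by
  by_contra hne
  obtain ⟨P, hP, hle⟩ := Ideal.exists_le_maximal _ hne
  exact bI_not_le' hf hp ⟨P, hP.isPrime⟩ (h _) (Ideal.map_le_iff_le_comap.mp hle)

/-- local form of the converse -/
theorem basis_of_not_le (ha : aI A N r ≤ RingHom.ker (algebraMap A B)) (P : PrimeSpectrum B)
    (hb : ¬ bI A N r ≤ (PrimeSpectrum.comap (algebraMap A B) P).asIdeal) :
    Nonempty (Module.Basis (Fin r) (Localization.AtPrime P.asIdeal) (Localization.AtPrime P.asIdeal ⊗[A] N)) := by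
  rw [bI, Ideal.span_le, Set.not_subset] at hb
  obtain ⟨g, ⟨x, hx⟩, hg⟩ := hb
  refine exists_basis _ ?_ x g hx ?_
  · intro z hz
    have := ha hz
    rw [RingHom.mem_ker] at this ⊢
    rw [IsScalarTower.algebraMap_apply A B, this, map_zero]
  · rw [IsScalarTower.algebraMap_apply A B]
    exact IsLocalization.map_units (M := P.asIdeal.primeCompl) _ ⟨algebraMap A B g, hg⟩

theorem of_not_le [Module.FinitePresentation A N] (ha : aI A N r ≤ RingHom.ker (algebraMap A B))
    (hb : ∀ P : PrimeSpectrum B, ¬ bI A N r ≤ (PrimeSpectrum.comap (algebraMap A B) P).asIdeal) :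
    Module.Finite B (B ⊗[A] N) ∧ Module.Projective B (B ⊗[A] N) ∧
      ∀ p : PrimeSpectrum B, Module.rankAtStalk (B ⊗[A] N) p = r := by
  have hfin : Module.Finite A N := inferInstance
  refine ⟨inferInstance, ?_, ?_⟩
  · rw [← Module.freeLocus_eq_univ_iff, Set.eq_univ_iff_forall]
    intro P
    obtain ⟨e⟩ := basis_of_not_le ha P (hb P)
    rw [Module.mem_freeLocus_iff_tensor P (Localization.AtPrime P.asIdeal)]
    exact Module.Free.of_basis (e.map (AlgebraTensorModule.cancelBaseChange A B _ _ N).symm)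
  · intro P
    have hnt : Nontrivial (Localization.AtPrime P.asIdeal) := inferInstance
    obtain ⟨e⟩ := basis_of_not_le ha P (hb P)
    rw [Module.rankAtStalk_eq_finrank_tensorProduct,
      Module.finrank_eq_card_basis (e.map (AlgebraTensorModule.cancelBaseChange A B _ _ N).symm),
      Fintype.card_fin]

end K777.Strat
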