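import Groth.Agent.W4c1hilbpn.K777.Final1
import Groth.Agent.W4c1hilbpn.K777.Slice

/-! Slices of strongly stable ideals and tail sums. -/

set_option autoImplicit false
set_option linter.unusedSimpArgs false
set_option linter.unusedSectionVars false

namespace K777.Tail

open MvPolynomial W4c1hilbpn K777.Basic K777.Model K777.Decomp K777.Colen K777.Bound K777.Stair
open K777.Sig K777.Bound2 K777.FatPoint K777.Fat3 K777.Slice

variable {k : Type*} [Field k] {I : Ideal (MvPolynomial (Fin 3) k)}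

variable (I) in
/-- complement of a slice -/
def Sl (i : ℕ) : Set (ℕ × ℕ) := {p | e3 i p.1 p.2 ∉ exps I}

variable (I) in
/-- colength of a slice -/
noncomputable def Dn (i : ℕ) : ℕ := (Sl I i).ncard

theorem finite_Sl (hfin : (DD I).Finite) (i : ℕ) : (Sl I i).Finite := by
  refine Set.Finite.of_finite_image (f := fun p : ℕ × ℕ => vz (e3 i p.1 p.2)) ?_ ?_
  · refine hfin.subset ?_
    rintro _ ⟨p, hp, rfl⟩
    exact vz_mem_DD.2 hp
  · intro p _ q _ h
    have h1 := vz_injective h
    have e1 := DFunLike.congr_fun h1 1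
    have e2 := DFunLike.congr_fun h1 2
    simp only [e3_one, e3_two] at e1 e2
    exact Prod.ext e1 e2

theorem mem_Sl_iff (i : ℕ) (p : ℕ × ℕ) : p ∈ Sl I i ↔ e3 i p.1 p.2 ∉ exps I := Iff.rfl

/-- exponents in two variables -/
noncomputable def e2 (a b : ℕ) : Fin 2 →₀ ℕ := Finsupp.equivFunOnFinite.symm ![a, b]

theorem e2_zero (a b : ℕ) : e2 a b 0 = a := rfl
theorem e2_one (a b : ℕ) : e2 a b 1 = b := rfl

theorem e2_eta (β : Fin 2 →₀ ℕ) : e2 (β 0) (β 1) = β := by
  ext j
  fin_cases j
  · exact e2_zero _ _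
  · exact e2_one _ _

variable (I) in
/-- the complement of a slice in two ways -/
noncomputable def slEquiv (i : ℕ) : {β : Fin 2 →₀ ℕ // β ∉ exps (sliceX I i)} ≃ ↥(Sl I i) where
  toFun β := ⟨(β.1 0, β.1 1), by
    rw [mem_Sl_iff, ← mem_exps_sliceX]; exact β.2⟩
  invFun p := ⟨e2 p.1.1 p.1.2, by
    rw [mem_exps_sliceX, e2_zero, e2_one]; exact (mem_Sl_iff i p.1).1 p.2⟩
  left_inv β := Subtype.ext (e2_eta β.1)
  right_inv p := Subtype.ext (Prod.ext (e2_zero _ _) (e2_one _ _))

theorem finrank_slice (hI : IsMonomial I) (i : ℕ) :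
    Module.finrank k (MvPolynomial (Fin 2) k ⧸ sliceX I i) = Dn I i := by
  rw [finrank_quot (isMonomial_sliceX hI i), Dn]
  exact Nat.card_congr (slEquiv I i)

/-- sums over the complement by slices -/
theorem sum_DD (hfin : (DD I).Finite) {r : ℕ} (hr : (Finsupp.single 0 r : Fin 3 →₀ ℕ) ∈ exps I)
    (g : ℕ → ℕ) : ∑ δ ∈ hfin.toFinset, g (δ 0).toNat = ∑ i ∈ Finset.range r, g i * Dn I i := by
  classical
  rw [← Finset.sum_fiberwise_of_maps_to (s := hfin.toFinset) (t := Finset.range r)
    (g := fun δ : Fin 3 → ℤ => (δ 0).toNat)]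
  · refine Finset.sum_congr rfl fun i _ => ?_
    have h1 : ∀ δ ∈ hfin.toFinset.filter (fun δ : Fin 3 → ℤ => (δ 0).toNat = i),
        g (δ 0).toNat = g i := by
      intro δ hδ
      rw [(Finset.mem_filter.1 hδ).2]
    rw [Finset.sum_congr rfl h1, Finset.sum_const, smul_eq_mul, mul_comm]
    congr 1
    rw [Dn, Set.ncard_eq_toFinset_card _ (finite_Sl hfin i)]
    refine Finset.card_nbij' (i := fun δ : Fin 3 → ℤ => ((δ 1).toNat, (δ 2).toNat))
      (j := fun p => vz (e3 i p.1 p.2)) ?_ ?_ ?_ ?_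
    · intro δ hδ
      rw [Finset.mem_coe, Finset.mem_filter, Set.Finite.mem_toFinset] at hδ
      rw [Finset.mem_coe, Set.Finite.mem_toFinset]
      have := mem_DD_e3 hδ.1
      rw [hδ.2] at this
      exact this
    · intro p hp
      rw [Finset.mem_coe, Set.Finite.mem_toFinset] at hp
      rw [Finset.mem_coe, Finset.mem_filter, Set.Finite.mem_toFinset]
      exact ⟨vz_mem_DD.2 hp, by simp⟩
    · intro δ hδ
      rw [Finset.mem_coe, Finset.mem_filter, Set.Finite.mem_toFinset] at hδ
      have := hδ.1.1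
      have h2 := hδ.2
      apply vec3_ext
      · have := this 0; simp; omega
      · have := this 1; simp; omega
      · have := this 2; simp; omega
    · intro p _
      simp
  · intro δ hδ
    rw [Set.Finite.mem_toFinset] at hδ
    rw [Finset.mem_range]
    by_contra hcon
    refine not_mem_DD (UU_up (vz_mem_UU.2 hr) fun i => ?_) hδ
    have := hδ.1 i
    have := hδ.1 0
    rw [vz_single, Pi.single_apply]
    split_ifs with hi
    · subst hi; omega
    · assumption

theorem mv01 (hI : IsStronglyStable I) (a b c : ℕ) (h : e3 a (b + 1) c ∈ exps I) :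
    e3 (a + 1) b c ∈ exps I := by
  have h1 := hI.2 _ h 0 1 (by decide) (by simp)
  convert h1 using 1
  symm; apply e3_ext <;> simp

theorem mv02 (hI : IsStronglyStable I) (a b c : ℕ) (h : e3 a b (c + 1) ∈ exps I) :
    e3 (a + 1) b c ∈ exps I := by
  have h1 := hI.2 _ h 0 2 (by decide) (by simp)
  convert h1 using 1
  symm; apply e3_ext <;> simp

theorem mv12 (hI : IsStronglyStable I) (a b c : ℕ) (h : e3 a b (c + 1) ∈ exps I) :
    e3 a (b + 1) c ∈ exps I := by
  have h1 := hI.2 _ h 1 2 (by decide) (by simp)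
  convert h1 using 1
  symm; apply e3_ext <;> simp

theorem mv12' (hI : IsStronglyStable I) (a b c t : ℕ) (h : e3 a b (c + t) ∈ exps I) :
    e3 a (b + t) c ∈ exps I := by
  induction t generalizing b with
  | zero => exact h
  | succ t ih =>
    have h1 : e3 a (b + 1) (c + t) ∈ exps I := mv12 hI a b (c + t) h
    have h2 := ih (b + 1) h1
    rwa [show b + 1 + t = b + (t + 1) by ring] at h2

theorem mv_all (hI : IsStronglyStable I) (a b c : ℕ) (h : e3 a b c ∈ exps I) :
    e3 (a + b + c) 0 0 ∈ exps I := by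
  have h1 : e3 (a + b) 0 c ∈ exps I := by
    induction b generalizing a with
    | zero => exact h
    | succ b ih =>
      have := ih (a + 1) (mv01 hI a b c h)
      rwa [show a + 1 + b = a + (b + 1) by ring] at this
  clear h
  generalize a + b = n at h1
  induction c generalizing n with
  | zero => exact h1
  | succ c ih =>
    have := ih (n + 1) (mv02 hI n 0 c h1)
    rwa [show n + 1 + c = n + (c + 1) by ring] at this

/-- a strongly stable ideal of small colength contains `x^r` -/
theorem X_pow_mem (hI : IsStronglyStable I) (hfin : (DD I).Finite) {r : ℕ}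
    (hd : (DD I).ncard ≤ (r + 2).choose 3) : (Finsupp.single 0 r : Fin 3 →₀ ℕ) ∈ exps I := by
  by_contra hx
  have hs0 : (Finsupp.single 0 r : Fin 3 →₀ ℕ) = e3 r 0 0 := e3_ext (by simp) (by simp) (by simp)
  rw [hs0] at hx
  have h1 : DD (mr (Fin 3) k (r + 1)) ⊆ DD I := by
    intro γ hγ
    rw [mem_DD_mr] at hγ
    refine ⟨hγ.1, fun h => hx ?_⟩
    have h2 := hγ.2
    rw [Fin.sum_univ_three] at h2
    have h3 := hγ.1
    rw [vn_eq_e3] at h
    have h4 := mv_all hI _ _ _ h
    refine exps_of_le h4 (e3_le ?_ le_rfl le_rfl)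
    have := h3 0
    have := h3 1
    have := h3 2
    push_cast at h2
    omega
  have h2 := Set.ncard_le_ncard h1 hfin
  rw [colength_fat] at h2
  have h3 : (r + 1 + 2).choose 3 = (r + 2).choose 2 + (r + 2).choose 3 :=
    Nat.choose_succ_succ (r + 2) 2
  have h4 : 0 < (r + 2).choose 2 := Nat.choose_pos (by omega)
  omega

variable (I) in
/-- order of the last variable in a slice -/
noncomputable def on (i : ℕ) : ℕ := stairZ I i 0

theorem lt_on_iff (hI : IsMonomial I) [Module.Finite k (MvPolynomial (Fin 3) k ⧸ I)] (i c : ℕ) :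
    c < on I i ↔ e3 i 0 c ∉ exps I := lt_stairZ_iff hI i 0 c

theorem Dn_succ_add_le (hI : IsStronglyStable I) [Module.Finite k (MvPolynomial (Fin 3) k ⧸ I)]
    (i : ℕ) : Dn I (i + 1) + on I i ≤ Dn I i := by
  have hfin := finite_DD hI.1
  have h1 : (fun p : ℕ × ℕ => (p.1 + 1, p.2)) '' Sl I (i + 1) ∪
      (fun c : ℕ => (0, c)) '' (Finset.range (on I i) : Set ℕ) ⊆ Sl I i := by
    rintro ⟨b, c⟩ (⟨⟨b', c'⟩, hp, h⟩ | ⟨c', hp, h⟩)
    · simp only [Prod.mk.injEq] at h
      obtain ⟨rfl, rfl⟩ := h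
      exact fun h' => hp (mv01 hI i b' c' h')
    · simp only [Prod.mk.injEq] at h
      obtain ⟨rfl, rfl⟩ := h
      rw [Finset.mem_coe, Finset.mem_range, lt_on_iff hI.1] at hp
      exact hp
  have h2 := Set.ncard_le_ncard h1 (finite_Sl hfin i)
  rw [Set.ncard_union_eq ?_ ((finite_Sl hfin _).image _) ((Finset.finite_toSet _).image _)] at h2
  · rw [Set.InjOn.ncard_image, Set.InjOn.ncard_image, Set.ncard_coe_finset, Finset.card_range] at h2
    · exact h2
    · intro a _ b _ h; simpa using h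
    · rintro ⟨a, b⟩ _ ⟨c, d⟩ _ h; simpa using h
  · rw [Set.disjoint_left]
    rintro _ ⟨⟨b', c'⟩, _, rfl⟩ ⟨c, _, h⟩
    simp at h

/-- the triangle -/
def tri (n : ℕ) : Set (ℕ × ℕ) := {p | p.1 + p.2 < n}

theorem tri_eq (n : ℕ) : tri n = ((Finset.range n).biUnion Finset.antidiagonal : Finset (ℕ × ℕ)) := by
  ext p
  simp [tri]

theorem ncard_tri (n : ℕ) : (tri n).ncard = (n + 1).choose 2 := by
  rw [tri_eq, Set.ncard_coe_finset, Finset.card_biUnion]
  · simp only [Finset.Nat.card_antidiagonal]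
    induction n with
    | zero => rfl
    | succ n ih =>
      rw [Finset.sum_range_succ, ih]
      have : (n + 1 + 1).choose 2 = (n + 1).choose 1 + (n + 1).choose 2 :=
        Nat.choose_succ_succ (n + 1) 1
      rw [this, Nat.choose_one_right, add_comm]
  · intro s _ t _ hst
    rw [Function.onFun, Finset.disjoint_left]
    intro p h1 h2
    rw [Finset.mem_antidiagonal] at h1 h2
    exact hst (h1.symm.trans h2)

theorem Sl_subset_tri (hI : IsStronglyStable I) [Module.Finite k (MvPolynomial (Fin 3) k ⧸ I)]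
    (i : ℕ) : Sl I i ⊆ tri (on I i) := by
  rintro ⟨b, c⟩ hp
  by_contra hcon
  apply hp
  simp only [tri, Set.mem_ofPred_eq, not_lt] at hcon
  have h1 : e3 i 0 (on I i) ∈ exps I := by
    by_contra h
    exact lt_irrefl _ ((lt_on_iff hI.1 i _).2 h)
  have h2 : e3 i 0 (c + b) ∈ exps I := exps_of_le h1 (e3_le le_rfl le_rfl (by omega))
  have h3 := mv12' hI i 0 c b h2
  rwa [zero_add] at h3

theorem finite_tri (n : ℕ) : (tri n).Finite := by
  rw [tri_eq]; exact Finset.finite_toSet _

theorem Dn_le (hI : IsStronglyStable I) [Module.Finite k (MvPolynomial (Fin 3) k ⧸ I)]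
    (i : ℕ) : Dn I i ≤ (on I i + 1).choose 2 := by
  rw [← ncard_tri]
  exact Set.ncard_le_ncard (Sl_subset_tri hI i) (finite_tri _)

theorem on_anti (hI : IsStronglyStable I) [Module.Finite k (MvPolynomial (Fin 3) k ⧸ I)]
    (i : ℕ) : on I (i + 1) ≤ on I i := by
  by_contra hcon
  push Not at hcon
  have h1 := (lt_on_iff hI.1 (i + 1) (on I i)).1 hcon
  have h2 : e3 i 0 (on I i) ∈ exps I := by
    by_contra h
    exact lt_irrefl _ ((lt_on_iff hI.1 i _).2 h)
  exact h1 (exps_of_le h2 (e3_le (by omega) le_rfl le_rfl))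

theorem Dn_eq_zero (hI : IsStronglyStable I) {r : ℕ}
    (hr : (Finsupp.single 0 r : Fin 3 →₀ ℕ) ∈ exps I) {i : ℕ} (h : r ≤ i) : Dn I i = 0 := by
  have : Sl I i = ∅ := by
    rw [Set.eq_empty_iff_forall_notMem]
    rintro ⟨b, c⟩ hp
    apply hp
    refine exps_of_le hr ?_
    rw [Finsupp.single_le_iff]
    simpa using h
  rw [Dn, this, Set.ncard_empty]

theorem choose_two_step (r i : ℕ) (h : i + 1 ≤ r) :
    (r - i + 1).choose 2 = (r - (i + 1) + 1).choose 2 + (r - i) := by
  obtain ⟨m, hm⟩ : ∃ m, r - i = m + 1 := ⟨r - i - 1, by omega⟩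
  have h1 : r - (i + 1) + 1 = m + 1 := by omega
  rw [hm, h1]
  have : (m + 1 + 1).choose 2 = (m + 1).choose 1 + (m + 1).choose 2 :=
    Nat.choose_succ_succ (m + 1) 1
  rw [this, Nat.choose_one_right, add_comm]

theorem step_gt (hI : IsStronglyStable I) [Module.Finite k (MvPolynomial (Fin 3) k ⧸ I)]
    {r i : ℕ} (hi : i + 1 ≤ r) (h : (r - (i + 1) + 1).choose 2 < Dn I (i + 1)) :
    (r - i + 1).choose 2 < Dn I i := by
  have h1 := Dn_le hI (i + 1)
  have h2 : r - (i + 1) + 1 < on I (i + 1) + 1 := by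
    by_contra hcon
    have := Nat.choose_le_choose 2 (not_lt.1 hcon)
    omega
  have h3 := on_anti hI i
  have h4 := Dn_succ_add_le hI i
  rw [choose_two_step r i hi]
  omega

theorem all_gt (hI : IsStronglyStable I) [Module.Finite k (MvPolynomial (Fin 3) k ⧸ I)]
    {r j : ℕ} (hj : j < r) (h : (r - j + 1).choose 2 < Dn I j) (i : ℕ) (hi : i ≤ j) :
    (r - i + 1).choose 2 < Dn I i := by
  obtain ⟨t, rfl⟩ := Nat.exists_eq_add_of_le hi
  clear hi
  induction t with
  | zero => simpa using h
  | succ t ih =>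
    apply ih (by omega)
    exact step_gt hI (by omega) h

theorem tail_le (hI : IsStronglyStable I) [Module.Finite k (MvPolynomial (Fin 3) k ⧸ I)]
    {r : ℕ} (hd : (DD I).ncard ≤ (r + 2).choose 3) (j : ℕ) (hj : j ≤ r) :
    ∑ i ∈ Finset.Ico j r, Dn I i ≤ ∑ i ∈ Finset.Ico j r, (r - i + 1).choose 2 := by
  have hfin := finite_DD hI.1
  have hr := X_pow_mem hI hfin hd
  have htot : ∑ i ∈ Finset.range r, Dn I i ≤ ∑ i ∈ Finset.range r, (r - i + 1).choose 2 := by
    rw [sum_choose_two']
    refine le_trans (le_of_eq ?_) hd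
    have := sum_DD hfin hr (fun _ => 1)
    simp only [one_mul, Finset.sum_const, smul_eq_mul, mul_one] at this
    rw [← this, Set.ncard_eq_toFinset_card _ hfin]
  induction hn : r - j generalizing j with
  | zero =>
    have : j = r := by omega
    subst this; simp
  | succ n ih =>
    have hjr : j < r := by omega
    by_cases hcase : (r - j + 1).choose 2 < Dn I j
    · have h1 : ∑ i ∈ Finset.range j, (r - i + 1).choose 2 ≤ ∑ i ∈ Finset.range j, Dn I i :=
        Finset.sum_le_sum fun i hi =>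
          (all_gt hI hjr hcase i (Finset.mem_range.1 hi).le).le
      have h2 := Finset.sum_range_add_sum_Ico (fun i => Dn I i) hj
      have h3 := Finset.sum_range_add_sum_Ico (fun i => (r - i + 1).choose 2) hj
      omega
    · have h1 := ih (j + 1) (by omega) (by omega)
      rw [Finset.sum_eq_sum_Ico_succ_bot hjr, Finset.sum_eq_sum_Ico_succ_bot hjr]
      omega

theorem eq_of_tails (hI : IsStronglyStable I) [Module.Finite k (MvPolynomial (Fin 3) k ⧸ I)]
    {r : ℕ} (hd : (DD I).ncard ≤ (r + 2).choose 3)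
    (h : ∀ j, j < r → ∑ i ∈ Finset.Ico j r, Dn I i = ∑ i ∈ Finset.Ico j r, (r - i + 1).choose 2) :
    I = mr (Fin 3) k r := by
  have hfin := finite_DD hI.1
  have hr := X_pow_mem hI hfin hd
  have hD : ∀ j, j ≤ r → Dn I j = (r - j + 1).choose 2 := by
    intro j hj
    rcases Nat.lt_or_ge j r with hjr | hjr
    · have h1 := h j hjr
      rw [Finset.sum_eq_sum_Ico_succ_bot hjr, Finset.sum_eq_sum_Ico_succ_bot hjr] at h1
      rcases Nat.lt_or_ge (j + 1) r with h2 | h2
      · rw [h (j + 1) h2] at h1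
        omega
      · have : Finset.Ico (j + 1) r = ∅ := Finset.Ico_eq_empty (by omega)
        rw [this] at h1
        simpa using h1
    · have : j = r := by omega
      subst this
      rw [Dn_eq_zero hI hr le_rfl]
      simp
  have hsl : ∀ i, i < r → Sl I i = tri (r - i) := by
    intro i hi
    have h1 := Dn_le hI i
    have h2 := Dn_succ_add_le hI i
    rw [hD i hi.le] at h1 h2
    rw [hD (i + 1) hi, choose_two_step r i hi] at h2
    have h3 : on I i = r - i := by
      apply le_antisymm (by omega)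
      by_contra hcon
      have h4 : (on I i + 1).choose 2 < (r - i + 1).choose 2 := by
        have h5 : (on I i + 1).choose 2 ≤ (r - i).choose 2 := Nat.choose_le_choose 2 (by omega)
        obtain ⟨m, hm⟩ : ∃ m, r - i = m + 1 := ⟨r - i - 1, by omega⟩
        have h6 : (m + 1 + 1).choose 2 = (m + 1).choose 1 + (m + 1).choose 2 :=
          Nat.choose_succ_succ (m + 1) 1
        rw [Nat.choose_one_right] at h6
        rw [hm] at h5 ⊢
        omega
      omega
    rw [← h3]
    apply Set.eq_of_subset_of_ncard_le (Sl_subset_tri hI i) _ (finite_tri _)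
    rw [ncard_tri, h3]
    show _ ≤ Dn I i
    rw [hD i hi.le]
  have hex : ∀ β : Fin 3 →₀ ℕ, β ∈ exps I ↔ β ∈ exps (mr (Fin 3) k r) := by
    intro β
    have e : β = e3 (β 0) (β 1) (β 2) := e3_ext rfl rfl rfl
    rw [mem_exps_mr, Fin.sum_univ_three]
    rcases Nat.lt_or_ge (β 0) r with h0 | h0
    · have h1 := hsl (β 0) h0
      have h2 : (β 1, β 2) ∈ Sl I (β 0) ↔ (β 1, β 2) ∈ tri (r - β 0) := by rw [h1]
      simp only [Sl, tri, Set.mem_ofPred_eq] at h2
      rw [← e] at h2
      constructor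
      · intro h
        by_contra hcon
        exact (h2.2 (by omega)) h
      · intro h
        by_contra hcon
        have := h2.1 hcon
        omega
    · constructor
      · intro _; omega
      · intro _
        refine exps_of_le hr ?_
        rw [Finsupp.single_le_iff]
        exact h0
  ext p
  rw [mem_iff hI.1, mem_iff (isMonomial_mr r)]
  exact forall₂_congr fun β _ => hex β

end K777.Tail
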