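import Groth.Agent.W4c1hilbpn.K777.CountFin

/-! The two-block family `x_0(x_0,…,x_{n-1}) + x_1^q(x_1,…,x_m)`. -/

set_option autoImplicit false
set_option linter.unusedSimpArgs false
set_option linter.unusedSectionVars false
set_option linter.unusedVariables false
set_option linter.unusedTactic false
set_option linter.unreachableTactic false
set_option linter.unnecessarySeqFocus false

namespace K777.Two

open MvPolynomial W4c1hilbpn K777.Basic K777.Model K777.Decomp K777.Count K777.CountFin

variable {k : Type*} [Field k] (n q m : ℕ)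

/-- index of generators -/
abbrev Ix : Type := {j : ℕ // j < n} ⊕ {j : ℕ // 1 ≤ j ∧ j ≤ m}

/-- the generators -/
def gs : Ix n m → Fin (n + 1) → ℤ
  | Sum.inl j => e 0 + e j.1
  | Sum.inr j => f q 1 + e j.1

/-- the ideal -/
noncomputable abbrev II : Ideal (MvPolynomial (Fin (n + 1)) k) :=
  Ideal.span ({f : MvPolynomial (Fin (n + 1)) k | ∃ i : Fin (n + 1), i.val + 1 ≤ n ∧ f = MvPolynomial.X 0 * MvPolynomial.X i} ∪ {f : MvPolynomial (Fin (n + 1)) k | ∃ i : Fin (n + 1), 1 ≤ i.val ∧ i.val ≤ m ∧ f = MvPolynomial.X 1 ^ q * MvPolynomial.X i})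

theorem hT (hm : 2 ≤ m) (hmn : m < n) : ({f : MvPolynomial (Fin (n + 1)) k | ∃ i : Fin (n + 1), i.val + 1 ≤ n ∧ f = MvPolynomial.X 0 * MvPolynomial.X i} ∪ {f : MvPolynomial (Fin (n + 1)) k | ∃ i : Fin (n + 1), 1 ≤ i.val ∧ i.val ≤ m ∧ f = MvPolynomial.X 1 ^ q * MvPolynomial.X i}) =
    Set.range fun i => monomial (vn (gs n q m i)) (1 : k) := by
  have h1 : (1 : Fin (n + 1)) = ⟨1, by omega⟩ := by
    apply Fin.ext; rw [Fin.val_one']; exact Nat.mod_eq_of_lt (by omega)
  have h1' : (1 : Fin (n + 1)).val = 1 := by rw [h1]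
  have hk : ∀ i : Fin (n + 1), monomial (vn (e 0 + e i.val) : Fin (n + 1) →₀ ℕ) (1 : k) = X 0 * X i := by
    intro i
    have := vn_e_add_e (i := (0 : Fin (n + 1))) (j := i)
    rw [Fin.val_zero] at this
    rw [this, X, X, monomial_mul, one_mul]
  have hk' : ∀ i : Fin (n + 1), monomial (vn (K777.CountFin.f q 1 + e i.val) : Fin (n + 1) →₀ ℕ) (1 : k) = X 1 ^ q * X i := by
    intro i
    have := vn_f_add_e (q := q) (i := (1 : Fin (n + 1))) (j := i)
    rw [h1'] at this
    rw [this, X_pow_eq_monomial, X, monomial_mul, one_mul]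
  ext g
  constructor
  · rintro (⟨i, hi, rfl⟩ | ⟨i, hi, hi', rfl⟩)
    · exact ⟨Sum.inl ⟨i.val, by omega⟩, hk i⟩
    · exact ⟨Sum.inr ⟨i.val, hi, hi'⟩, hk' i⟩
  · rintro ⟨⟨j, hj⟩ | ⟨j, hj, hj'⟩, rfl⟩
    · left
      exact ⟨⟨j, by omega⟩, by simpa using hj, hk ⟨j, by omega⟩⟩
    · right
      exact ⟨⟨j, by omega⟩, by simpa using hj, by simpa using hj', hk' ⟨j, by omega⟩⟩

theorem gs_nonneg (i : Ix n m) (j : Fin (n + 1)) : 0 ≤ gs n q m i j := by
  rcases i with i | i
  · simp only [gs, Pi.add_apply, e_apply]; split_ifs <;> omega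
  · simp only [gs, Pi.add_apply, e_apply, f_apply]; split_ifs <;> omega

variable {n q m}

/-- evaluation tactic -/
macro "ev" : tactic => `(tactic| (simp only [gs, Pi.add_apply, Pi.sub_apply, e_apply, f_apply, Fin.val_zero, eq_self_iff_true, if_true] <;> (try split_ifs) <;> first | omega | contradiction))

theorem mem_D (hm : 2 ≤ m) (hmn : m < n) (hq : 1 ≤ q) (γ : Fin (n + 1) → ℤ) :
    γ ∈ DD (II n q m : Ideal (MvPolynomial _ k)) ↔
    (∀ i, 0 ≤ γ i) ∧ ((γ 0 = 0 ∧ γ ⟨1, by omega⟩ < q) ∨
      (γ 0 = 0 ∧ γ ⟨1, by omega⟩ = q ∧ ∀ j : Fin (n + 1), 2 ≤ j.val → j.val ≤ m → γ j = 0) ∨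
      (γ 0 = 1 ∧ ∀ j : Fin (n + 1), 1 ≤ j.val → j.val < n → γ j = 0)) := by
  rw [mem_DD_iff, mem_UU_span (gs n q m) (gs_nonneg n q m) _ (hT n q m hm hmn)]
  refine and_congr_right fun h0 => ?_
  constructor
  · intro h
    by_contra hcon
    push Not at hcon
    obtain ⟨hc1, hc2, hc3⟩ := hcon
    apply h
    have h0' := h0 0
    by_cases h1 : γ 0 = 0
    · have h2 := hc1 h1
      by_cases h3 : γ ⟨1, by omega⟩ = q
      · obtain ⟨j, hj, hj', hj''⟩ := hc2 h1 h3
        refine ⟨Sum.inr ⟨j.val, by omega, hj'⟩, fun a => ?_⟩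
        have h4 := h0 a
        have h5 := h0 j
        simp only [gs, Pi.add_apply, e_apply, f_apply]
        split_ifs with h6 h7 h7
        · omega
        · have : a = ⟨1, by omega⟩ := Fin.ext h6
          rw [this, h3]; omega
        · have : a = j := Fin.ext h7
          subst this; omega
        · omega
      · refine ⟨Sum.inr ⟨1, le_rfl, by omega⟩, fun a => ?_⟩
        have h4 := h0 a
        simp only [gs, Pi.add_apply, e_apply, f_apply]
        split_ifs with h6
        · have : a = ⟨1, by omega⟩ := Fin.ext h6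
          rw [this]; omega
        · omega
    · by_cases h2 : γ 0 = 1
      · obtain ⟨j, hj, hj', hj''⟩ := hc3 h2
        refine ⟨Sum.inl ⟨j.val, hj'⟩, fun a => ?_⟩
        simp only [gs, Pi.add_apply, e_apply]
        have h5 := h0 a
        have h6 := h0 j
        split_ifs with h7 h8 h8
        · omega
        · have : a = 0 := Fin.ext (by simpa using h7)
          subst this; omega
        · have : a = j := Fin.ext h8
          subst this; omega
        · omega
      · refine ⟨Sum.inl ⟨0, by omega⟩, fun a => ?_⟩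
        simp only [gs, Pi.add_apply, e_apply]
        have h5 := h0 a
        split_ifs with h7
        · have : a = 0 := Fin.ext (by simpa using h7)
          subst this; omega
        · omega
  · rintro h ⟨⟨j, hj⟩ | ⟨j, hj, hj'⟩, hi⟩
    · have h1 := hi 0
      have h2 := hi ⟨j, by omega⟩
      simp only [gs, Pi.add_apply, e_apply, Fin.val_zero, eq_self_iff_true, if_true] at h1 h2
      rcases h with h | h | h
      · split_ifs at h1 <;> first | omega | contradiction
      · split_ifs at h1 <;> first | omega | contradiction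
      · by_cases hj0 : j = 0
        · subst hj0; simp at h1; omega
        · have := h.2 ⟨j, by omega⟩ (by simp only; omega) hj
          split_ifs at h2 <;> first | omega | contradiction
    · have h1 := hi ⟨1, by omega⟩
      have h2 := hi ⟨j, by omega⟩
      simp only [gs, Pi.add_apply, e_apply, f_apply, eq_self_iff_true, if_true] at h1 h2
      rcases h with h | h | h
      · split_ifs at h1 <;> first | omega | contradiction
      · by_cases hj1 : j = 1
        · subst hj1
          split_ifs at h1 <;> first | omega | contradiction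
        · have := h.2.2 ⟨j, by omega⟩ (by simp only; omega) (by simp only; omega)
          split_ifs at h1 h2 <;> first | omega | contradiction
      · have := h.2 ⟨1, by omega⟩ le_rfl (by simp only; omega)
        split_ifs at h1 <;> first | omega | contradiction

theorem eq_of_le (hm : 2 ≤ m) (hmn : m < n) (hq : 1 ≤ q) {i i' : Ix n m}
    (h : ∀ a : Fin (n + 1), a.val < n → gs n q m i' a ≤ gs n q m i a) : i' = i := by
  have h0 := h 0 (by simp only [Fin.val_zero]; omega)
  have h1 := h ⟨1, by omega⟩ (by simp only; omega)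
  rcases i with ⟨j, hj⟩ | ⟨j, hj, hj'⟩ <;> rcases i' with ⟨i, hi⟩ | ⟨i, hi, hi'⟩
  · have h2 := h ⟨i, by omega⟩ (by simp only; omega)
    have : i = j := by
      by_cases h3 : i = 0
      · simp only [gs, Pi.add_apply, e_apply, Fin.val_zero, eq_self_iff_true, if_true] at h0
        split_ifs at h0 <;> first | omega | contradiction
      · simp only [gs, Pi.add_apply, e_apply, Fin.val_zero, eq_self_iff_true, if_true] at h2
        split_ifs at h2 <;> first | omega | contradiction
    subst this; rfl
  · exfalso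
    have h2 := h ⟨i, by omega⟩ (by simp only; omega)
    simp only [gs, Pi.add_apply, e_apply, f_apply, Fin.val_zero, eq_self_iff_true, if_true] at h1 h2
    split_ifs at h1 h2 <;> first | omega | contradiction
  · exfalso
    simp only [gs, Pi.add_apply, e_apply, f_apply, Fin.val_zero, eq_self_iff_true, if_true] at h0
    split_ifs at h0 <;> first | omega | contradiction
  · have h2 := h ⟨i, by omega⟩ (by simp only; omega)
    have : i = j := by
      by_cases h3 : i = 1
      · simp only [gs, Pi.add_apply, e_apply, f_apply, Fin.val_zero, eq_self_iff_true, if_true] at h1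
        split_ifs at h1 <;> first | omega | contradiction
      · simp only [gs, Pi.add_apply, e_apply, f_apply, Fin.val_zero, eq_self_iff_true, if_true] at h2
        split_ifs at h2 <;> first | omega | contradiction
    subst this; rfl

/-- a monomial of degree `2` divisible by `x_0` is `x_0 x_n` if it is outside the ideal -/
theorem eq_e0 {γ : Fin (n + 1) → ℤ} (hn : 1 ≤ n) (h0 : ∀ i, 0 ≤ γ i) (hsum : ∑ i, γ i = 2) (h1 : γ 0 = 1)
    (h2 : ∀ j : Fin (n + 1), 1 ≤ j.val → j.val < n → γ j = 0) : γ = e 0 + e n := by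
  obtain ⟨u, hu, hu'⟩ := exists_e (sub_e_nonneg h0 (i := 0) (by omega)) (by
    simp only [Pi.sub_apply, Finset.sum_sub_distrib]
    rw [hsum, Fin.val_zero, sum_e (by omega)]; norm_num)
  rw [Fin.val_zero] at hu'
  have hun : u = n := by
    by_contra hne
    have h3 := congrFun hu' ⟨u, by omega⟩
    simp only [Pi.sub_apply, e_apply, if_true] at h3
    by_cases hu0 : u = 0
    · subst hu0
      have h4 : γ ⟨0, by omega⟩ = 1 := h1
      simp at h3
      omega
    · have h4 := h2 ⟨u, by omega⟩ (by simp only; omega) (by simp only; omega)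
      split_ifs at h3 <;> first | omega | contradiction
  subst hun
  rw [← hu']; abel

theorem count_of {S : Type*} [Fintype S] (hm : 2 ≤ m) (hmn : m < n)
    (Q : Data (II n q m : Ideal (MvPolynomial _ k)) (Ix n m) S (fun α => ∑ i, α i = 0)) :
    Module.finrank k ↥(⨆ α : {α : Fin (n + 1) → ℤ // ∑ i, α i = 0},
      tPiece (II n q m : Ideal (MvPolynomial _ k)) α.1) = Fintype.card S :=
  Q.count (isMonomial_span _ _ (hT n q m hm hmn))

end K777.Two
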